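import Mathlib

set_option autoImplicit false

/-!
# Odd metacyclic `p`-groups, part A: power-commutator calculus

`G` is a group with a normal subgroup `N` on which every element acts as a power map
`u ↦ u ^ s` with `s ≡ 1 (mod p)`, `p` an odd prime (this holds when `N` is a cyclic normal
subgroup of a finite `p`-group `G`).  Main results:

* `geom_sum_dvd_iff` : `p ^ j ∣ ∑ l < k, s ^ l ↔ p ^ j ∣ k` (`p` odd, `s ≡ 1 mod p`);
* `exists_power_action` : existence of the exponents `s`;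
* `comm_pow_right` : `⁅x, y ^ k⁆ = ⁅x, y⁆ ^ (∑ l < k, s ^ l)`;
* `comm_pow_right_eq_one_iff` : `⁅x, y ^ k⁆ = 1 ↔ ⁅x, y⁆ ^ k = 1`;
* `orderOf_comm_pow_right` : `orderOf ⁅x, y ^ k⁆ = orderOf (⁅x, y⁆ ^ k)`.
-/

namespace Cfsg.Agent.Lib.Helper64.MetaA

open scoped commutatorElement

/-- Lifting the exponent for geometric sums: for `p` odd and `s ≡ 1 (mod p)`,
`p ^ j ∣ 1 + s + ⋯ + s ^ (k-1)` iff `p ^ j ∣ k`. -/
theorem geom_sum_dvd_iff {p : ℕ} (hp : p.Prime) (hp2 : p ≠ 2) (s : ℕ) (hs : s % p = 1)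
    (j k : ℕ) : p ^ j ∣ (∑ l ∈ Finset.range k, s ^ l) ↔ p ^ j ∣ k := by
  have hodd : Odd p := hp.odd_of_ne_two hp2
  have key : emultiplicity p (∑ l ∈ Finset.range k, s ^ l) = emultiplicity p k := by
    by_cases h1 : s = 1
    · subst h1
      simp
    · have hs1 : 1 ≤ s := by
        rcases Nat.eq_zero_or_pos s with rfl | h0
        · simp at hs
        · exact h0
      have hdvd : p ∣ s - 1 := by
        refine (Nat.modEq_iff_dvd' hs1).1 ?_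
        rw [Nat.ModEq, hs, Nat.mod_eq_of_lt hp.one_lt]
      have hnd : ¬ p ∣ s := by
        intro h
        rw [Nat.dvd_iff_mod_eq_zero, hs] at h
        exact one_ne_zero h
      have h2 := Nat.emultiplicity_pow_sub_pow hp hodd (x := s) (y := 1) hdvd hnd k
      rw [one_pow] at h2
      have h3 : s ^ k - 1 = (∑ l ∈ Finset.range k, s ^ l) * (s - 1) := by
        have := Nat.geomSum_eq (m := s) (by omega : 2 ≤ s) k
        rw [this]
        exact (Nat.div_mul_cancel (Nat.sub_one_dvd_pow_sub_one ..)).symm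
      rw [h3, Nat.Prime.emultiplicity_mul hp, add_comm] at h2
      have hfin : emultiplicity p (s - 1) ≠ ⊤ := by
        rw [Ne, emultiplicity_eq_top, not_not]
        exact Nat.finiteMultiplicity_iff.2 ⟨hp.ne_one, by omega⟩
      exact (ENat.add_right_injective_of_ne_top hfin) h2
  rw [pow_dvd_iff_le_emultiplicity, pow_dvd_iff_le_emultiplicity, key]

section Group

variable {G : Type*} [Group G]

/-- Every element of `G` acts on `N` as a power map `u ↦ u ^ s` with `s ≡ 1 (mod p)`. -/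
def PowAct (p : ℕ) (N : Subgroup G) : Prop :=
  ∀ g : G, ∃ s : ℕ, s % p = 1 ∧ ∀ u ∈ N, g * u * g⁻¹ = u ^ s

theorem conj_pow_of_power (N : Subgroup G) (y : G) (s : ℕ)
    (hs : ∀ u ∈ N, y * u * y⁻¹ = u ^ s) (k : ℕ) :
    ∀ u ∈ N, y ^ k * u * (y ^ k)⁻¹ = u ^ (s ^ k) := by
  induction k with
  | zero => intro u _; simp
  | succ k ih =>
    intro u hu
    have h1 : y ^ (k + 1) * u * (y ^ (k + 1))⁻¹ = y * (y ^ k * u * (y ^ k)⁻¹) * y⁻¹ := by
      rw [pow_succ']; group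
    rw [h1, ih u hu, hs _ (pow_mem hu _), ← pow_mul, pow_succ]

/-- A cyclic normal subgroup of a finite `p`-group carries a power action with exponents
`≡ 1 (mod p)`. -/
theorem exists_power_action [Finite G] {p : ℕ} [Fact p.Prime] (hG : IsPGroup p G)
    (N : Subgroup G) [hNn : N.Normal] (hN : IsCyclic N) : PowAct p N := by
  have hpp : p.Prime := Fact.out
  obtain ⟨a', ha'⟩ := hN.exists_generator
  obtain ⟨a, haa'⟩ : ∃ a : G, a = (a' : G) := ⟨_, rfl⟩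
  have haN : a ∈ N := by rw [haa']; exact a'.2
  have hNa : ∀ n ∈ N, n ∈ Subgroup.zpowers a := by
    intro n hn
    obtain ⟨i, hi⟩ := Subgroup.mem_zpowers_iff.1 (ha' ⟨n, hn⟩)
    refine Subgroup.mem_zpowers_iff.2 ⟨i, ?_⟩
    have := congrArg Subtype.val hi
    rw [haa']
    simpa using this
  intro g
  have hgag : g * a * g⁻¹ ∈ N := hNn.conj_mem a haN g
  obtain ⟨s₀, hs₀⟩ : ∃ s₀ : ℕ, a ^ s₀ = g * a * g⁻¹ :=
    mem_powers_iff_mem_zpowers.2 (hNa _ hgag)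
  have hconj : ∀ u ∈ N, g * u * g⁻¹ = u ^ s₀ := by
    intro u hu
    obtain ⟨i, rfl⟩ := Subgroup.mem_zpowers_iff.1 (hNa u hu)
    calc g * a ^ i * g⁻¹ = (g * a * g⁻¹) ^ i := (conj_zpow).symm
      _ = (a ^ s₀) ^ i := by rw [hs₀]
      _ = (a ^ i) ^ s₀ := by
        rw [← zpow_natCast a s₀, ← zpow_mul, mul_comm, zpow_mul, zpow_natCast]
  by_cases ha1 : a = 1
  · refine ⟨1, Nat.mod_eq_of_lt hpp.one_lt, ?_⟩
    intro u hu
    obtain ⟨i, rfl⟩ := Subgroup.mem_zpowers_iff.1 (hNa u hu)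
    rw [ha1]; simp
  · refine ⟨s₀, ?_, hconj⟩
    obtain ⟨e, he⟩ := hG g
    have h1 := conj_pow_of_power N g s₀ hconj (p ^ e) a haN
    rw [he] at h1
    simp only [one_mul, inv_one, mul_one] at h1
    -- a = a ^ (s₀ ^ p ^ e)
    have h2 : s₀ ^ p ^ e ≡ 1 [MOD orderOf a] := by
      rw [← pow_eq_pow_iff_modEq, pow_one]
      exact h1.symm
    have hpa : p ∣ orderOf a := by
      obtain ⟨m, hm⟩ := hG a
      obtain ⟨m', -, hm'⟩ := (Nat.dvd_prime_pow hpp).1 (orderOf_dvd_of_pow_eq_one hm)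
      rcases Nat.eq_zero_or_pos m' with rfl | hpos
      · rw [pow_zero, orderOf_eq_one_iff] at hm'
        exact absurd hm' ha1
      · rw [hm']; exact dvd_pow_self p hpos.ne'
    have h3 : s₀ ^ p ^ e ≡ 1 [MOD p] := h2.of_dvd hpa
    have h4 : ((s₀ : ZMod p)) ^ p ^ e = 1 := by
      have := (ZMod.natCast_eq_natCast_iff _ _ _).2 h3
      push_cast at this
      exact this
    rw [ZMod.pow_card_pow] at h4
    have h5 : s₀ ≡ 1 [MOD p] := by
      rw [← ZMod.natCast_eq_natCast_iff]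
      push_cast
      exact h4
    rw [Nat.ModEq, Nat.mod_eq_of_lt hpp.one_lt] at h5
    exact h5

/-- `⁅x, y ^ k⁆ = ⁅x, y⁆ ^ (1 + s + ⋯ + s ^ (k-1))` when `y` acts on `N ∋ ⁅x, y⁆` as the
`s`-th power map. -/
theorem comm_pow_right (N : Subgroup G) (x y : G) (s : ℕ)
    (hs : ∀ u ∈ N, y * u * y⁻¹ = u ^ s) (hxy : ⁅x, y⁆ ∈ N) (k : ℕ) :
    ⁅x, y ^ k⁆ = ⁅x, y⁆ ^ (∑ l ∈ Finset.range k, s ^ l) := by
  induction k with
  | zero => simp
  | succ k ih =>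
    have h1 : ⁅x, y ^ (k + 1)⁆ = ⁅x, y ^ k⁆ * (y ^ k * ⁅x, y⁆ * (y ^ k)⁻¹) := by
      simp only [commutatorElement_def, pow_succ]; group
    rw [h1, ih, conj_pow_of_power N y s hs k _ hxy, Finset.sum_range_succ, pow_add]

theorem orderOf_eq_prime_pow [Finite G] {p : ℕ} [Fact p.Prime] (hG : IsPGroup p G) (u : G) :
    ∃ i : ℕ, orderOf u = p ^ i := by
  obtain ⟨m, hm⟩ := hG u
  obtain ⟨i, -, hi⟩ := (Nat.dvd_prime_pow Fact.out).1 (orderOf_dvd_of_pow_eq_one hm)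
  exact ⟨i, hi⟩

/-- `⁅x, y ^ k⁆ = 1 ↔ ⁅x, y⁆ ^ k = 1` (odd `p`, power action on `N ∋ ⁅x, y⁆`). -/
theorem comm_pow_right_eq_one_iff [Finite G] {p : ℕ} [Fact p.Prime] (hp2 : p ≠ 2)
    (hG : IsPGroup p G) (N : Subgroup G) (hact : PowAct p N) (x y : G) (hxy : ⁅x, y⁆ ∈ N)
    (k : ℕ) : ⁅x, y ^ k⁆ = 1 ↔ ⁅x, y⁆ ^ k = 1 := by
  have hpp : p.Prime := Fact.out
  obtain ⟨s, hs1, hs⟩ := hact y
  obtain ⟨i, hi⟩ := orderOf_eq_prime_pow hG ⁅x, y⁆
  rw [comm_pow_right N x y s hs hxy k, ← orderOf_dvd_iff_pow_eq_one, ← orderOf_dvd_iff_pow_eq_one,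
    hi]
  exact geom_sum_dvd_iff hpp hp2 s hs1 i k

/-- `⁅x ^ k, y⁆ = 1 ↔ ⁅x, y⁆ ^ k = 1`. -/
theorem comm_pow_left_eq_one_iff [Finite G] {p : ℕ} [Fact p.Prime] (hp2 : p ≠ 2)
    (hG : IsPGroup p G) (N : Subgroup G) (hact : PowAct p N) (x y : G) (hxy : ⁅x, y⁆ ∈ N)
    (k : ℕ) : ⁅x ^ k, y⁆ = 1 ↔ ⁅x, y⁆ ^ k = 1 := by
  have h1 : ⁅y, x⁆ ∈ N := by
    rw [← commutatorElement_inv]; exact inv_mem hxy
  have h2 := comm_pow_right_eq_one_iff hp2 hG N hact y x h1 k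
  rw [← commutatorElement_inv x y, ← commutatorElement_inv (x ^ k) y, inv_pow, inv_eq_one,
    inv_eq_one] at h2
  exact h2

/-- `orderOf ⁅x, y ^ k⁆ = orderOf (⁅x, y⁆ ^ k)`. -/
theorem orderOf_comm_pow_right [Finite G] {p : ℕ} [Fact p.Prime] (hp2 : p ≠ 2)
    (hG : IsPGroup p G) (N : Subgroup G) (hact : PowAct p N) (x y : G) (hxy : ⁅x, y⁆ ∈ N)
    (k : ℕ) : orderOf ⁅x, y ^ k⁆ = orderOf (⁅x, y⁆ ^ k) := by
  have hpp : p.Prime := Fact.out
  obtain ⟨s, hs1, hs⟩ := hact y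
  obtain ⟨i, hi⟩ := orderOf_eq_prime_pow hG ⁅x, y⁆
  rw [comm_pow_right N x y s hs hxy k, orderOf_pow, orderOf_pow, hi]
  congr 1
  apply Nat.dvd_antisymm
  · obtain ⟨j, -, hj⟩ := (Nat.dvd_prime_pow hpp).1 (Nat.gcd_dvd_left (p ^ i) (∑ l ∈ Finset.range k, s ^ l))
    rw [hj]
    apply Nat.dvd_gcd
    · rw [← hj]; exact Nat.gcd_dvd_left _ _
    · rw [← geom_sum_dvd_iff hpp hp2 s hs1 j k, ← hj]; exact Nat.gcd_dvd_right _ _
  · obtain ⟨j, -, hj⟩ := (Nat.dvd_prime_pow hpp).1 (Nat.gcd_dvd_left (p ^ i) k)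
    rw [hj]
    apply Nat.dvd_gcd
    · rw [← hj]; exact Nat.gcd_dvd_left _ _
    · rw [geom_sum_dvd_iff hpp hp2 s hs1 j k, ← hj]; exact Nat.gcd_dvd_right _ _

end Group

end Cfsg.Agent.Lib.Helper64.MetaA
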