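import Mathlib
import Cfsg.Prelude.Def_OddOrderLocal
import Cfsg.Agent.Lib.Helper64.MetaA

set_option autoImplicit false

/-!
# Odd metacyclic `p`-groups, part B: derived subgroups of subgroups

For a finite metacyclic `p`-group `G`, `p` odd, with `|G'| = p ^ n`, every subgroup `H` of index
`p ^ k` has `|H'| = p ^ (n - k)` (truncated subtraction): `card_commutator_of_index`.
Also: subgroups and quotients of metacyclic groups are metacyclic.
-/

namespace Cfsg.Agent.Lib.Helper64.MetaB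

open scoped commutatorElement
open Cfsg.Agent.Lib.Helper64.MetaA

variable {G : Type*} [Group G]

/-- If `H = {c ^ i * y ^ j}` with `y c y⁻¹ = c ^ s`, then `H' = ⟨⁅y, c⁆⟩`. -/
theorem commutator_eq_zpowers (c y : G) (s : ℕ) (hc : y * c * y⁻¹ = c ^ s) (H : Subgroup G)
    (hcH : c ∈ H) (hyH : y ∈ H) (hgen : ∀ h ∈ H, ∃ i j : ℕ, h = c ^ i * y ^ j) :
    ⁅H, H⁆ = Subgroup.zpowers ⁅y, c⁆ := by
  have hpow : ∀ u ∈ Subgroup.zpowers c, y * u * y⁻¹ = u ^ s := by
    intro u hu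
    obtain ⟨i, rfl⟩ := Subgroup.mem_zpowers_iff.1 hu
    calc y * c ^ i * y⁻¹ = (y * c * y⁻¹) ^ i := (conj_zpow).symm
      _ = (c ^ s) ^ i := by rw [hc]
      _ = (c ^ i) ^ s := by
        rw [← zpow_natCast c s, ← zpow_mul, mul_comm, zpow_mul, zpow_natCast]
  have hyc : ⁅y, c⁆ = c ^ ((s : ℤ) - 1) := by
    rw [commutatorElement_def, hc, zpow_sub, zpow_natCast, zpow_one]
  apply le_antisymm
  · rw [Subgroup.commutator_le]
    intro g₁ hg₁ g₂ hg₂
    obtain ⟨i, j, rfl⟩ := hgen g₁ hg₁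
    obtain ⟨k, l, rfl⟩ := hgen g₂ hg₂
    have h1 := conj_pow_of_power (Subgroup.zpowers c) y s hpow j (c ^ k)
      (pow_mem (Subgroup.mem_zpowers c) k)
    have h2 := conj_pow_of_power (Subgroup.zpowers c) y s hpow l (c ^ i)
      (pow_mem (Subgroup.mem_zpowers c) i)
    have h3 : ⁅c ^ i * y ^ j, c ^ k * y ^ l⁆ =
        c ^ i * (y ^ j * c ^ k * (y ^ j)⁻¹) * (y ^ l * c ^ i * (y ^ l)⁻¹)⁻¹ * (c ^ k)⁻¹ := by
      have hcomm : y ^ l * (y ^ j)⁻¹ = (y ^ j)⁻¹ * y ^ l :=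
        ((Commute.refl y).pow_pow l j).inv_right
      rw [commutatorElement_def]
      simp only [mul_inv_rev, inv_inv, mul_assoc]
      congr 3
      rw [← mul_assoc (y ^ l), hcomm]
      simp only [mul_assoc]
    rw [h3, h1, h2]
    obtain ⟨q₁, hq₁⟩ : ((s : ℤ) - 1) ∣ (s : ℤ) ^ j - 1 := by
      have := sub_dvd_pow_sub_pow (s : ℤ) 1 j
      rwa [one_pow] at this
    obtain ⟨q₂, hq₂⟩ : ((s : ℤ) - 1) ∣ (s : ℤ) ^ l - 1 := by
      have := sub_dvd_pow_sub_pow (s : ℤ) 1 l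
      rwa [one_pow] at this
    refine Subgroup.mem_zpowers_iff.2 ⟨(k : ℤ) * q₁ - (i : ℤ) * q₂, ?_⟩
    rw [hyc]
    simp only [← zpow_natCast, ← zpow_mul, ← zpow_neg, ← zpow_add]
    congr 1
    push_cast
    have e1 : (k : ℤ) * (s : ℤ) ^ j = k * ((s : ℤ) ^ j - 1) + k := by ring
    have e2 : (i : ℤ) * (s : ℤ) ^ l = i * ((s : ℤ) ^ l - 1) + i := by ring
    rw [e1, e2, hq₁, hq₂]
    ring
  · rw [Subgroup.zpowers_le]
    exact Subgroup.commutator_mem_commutator hyH hcH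

/-- Generators of a finite metacyclic group. -/
theorem exists_gens [Finite G] (hmc : Cfsg.IsMetacyclic G) :
    ∃ (N : Subgroup G) (a b : G), N.Normal ∧ IsCyclic N ∧ a ∈ N ∧ (∀ n ∈ N, ∃ i : ℕ, n = a ^ i) ∧
      (∀ g : G, ∃ i j : ℕ, g = a ^ i * b ^ j) ∧ (∀ x y : G, ⁅x, y⁆ ∈ N) := by
  obtain ⟨N, hNn, hNc, hQc⟩ := hmc
  obtain ⟨a', ha'⟩ := hNc.exists_generator
  obtain ⟨a, haa'⟩ : ∃ a : G, a = (a' : G) := ⟨_, rfl⟩
  have haN : a ∈ N := by rw [haa']; exact a'.2
  have hNa : ∀ n ∈ N, ∃ i : ℕ, n = a ^ i := by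
    intro n hn
    have h1 : (⟨n, hn⟩ : N) ∈ Submonoid.powers a' := mem_powers_iff_mem_zpowers.2 (ha' ⟨n, hn⟩)
    obtain ⟨i, hi⟩ := h1
    refine ⟨i, ?_⟩
    have := congrArg Subtype.val hi
    rw [haa']
    simpa using this.symm
  obtain ⟨g₀, hg₀⟩ := hQc.exists_generator
  obtain ⟨b, rfl⟩ := QuotientGroup.mk_surjective g₀
  refine ⟨N, a, b, hNn, hNc, haN, hNa, ?_, ?_⟩
  · intro g
    have h1 : ((g : G) : G ⧸ N) ∈ Submonoid.powers ((b : G) : G ⧸ N) :=
      mem_powers_iff_mem_zpowers.2 (hg₀ _)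
    obtain ⟨j, hj⟩ := h1
    have h2 : g * (b ^ j)⁻¹ ∈ N := by
      rw [← QuotientGroup.eq_one_iff, QuotientGroup.mk_mul, QuotientGroup.mk_inv,
        QuotientGroup.mk_pow]
      simp only at hj
      rw [hj, mul_inv_cancel]
    obtain ⟨i, hi⟩ := hNa _ h2
    refine ⟨i, j, ?_⟩
    rw [← hi]; group
  · intro x y
    rw [← QuotientGroup.eq_one_iff]
    obtain ⟨i, hi⟩ := Subgroup.mem_zpowers_iff.1 (hg₀ (x : G ⧸ N))
    obtain ⟨j, hj⟩ := Subgroup.mem_zpowers_iff.1 (hg₀ (y : G ⧸ N))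
    have : ((⁅x, y⁆ : G) : G ⧸ N) = ⁅(x : G ⧸ N), (y : G ⧸ N)⁆ := by
      simp [commutatorElement_def]
    rw [this, ← hi, ← hj, commutatorElement_eq_one_iff_commute]
    exact Commute.zpow_zpow_self _ i j

/-- Subgroups of metacyclic groups are metacyclic. -/
theorem isMetacyclic_subgroup (hmc : Cfsg.IsMetacyclic G) (H : Subgroup G) :
    Cfsg.IsMetacyclic ↥H := by
  obtain ⟨N, hNn, hNc, hQc⟩ := hmc
  refine ⟨N.subgroupOf H, inferInstance, ?_, ?_⟩
  · let f : (N.subgroupOf H) →* N :=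
      { toFun := fun x => ⟨((x : H) : G), Subgroup.mem_subgroupOf.1 x.2⟩
        map_one' := rfl
        map_mul' := fun _ _ => rfl }
    have hf : Function.Injective f := by
      intro x y hxy
      have := congrArg Subtype.val hxy
      exact Subtype.ext (Subtype.ext this)
    exact isCyclic_of_injective f hf
  · let f : (↥H ⧸ N.subgroupOf H) →* G ⧸ N :=
      QuotientGroup.map (N.subgroupOf H) N H.subtype (fun x hx => Subgroup.mem_subgroupOf.1 hx)
    have hf : Function.Injective f := by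
      rw [injective_iff_map_eq_one]
      intro q hq
      obtain ⟨h, rfl⟩ := QuotientGroup.mk_surjective q
      rw [QuotientGroup.eq_one_iff, Subgroup.mem_subgroupOf]
      have : f (h : ↥H ⧸ N.subgroupOf H) = ((h : G) : G ⧸ N) := rfl
      rw [this, QuotientGroup.eq_one_iff] at hq
      exact hq
    exact isCyclic_of_injective f hf

/-- Quotients of metacyclic groups are metacyclic. -/
theorem isMetacyclic_quotient (hmc : Cfsg.IsMetacyclic G) (K : Subgroup G) [K.Normal] :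
    Cfsg.IsMetacyclic (G ⧸ K) := by
  obtain ⟨N, hNn, hNc, hQc⟩ := hmc
  have hnorm : (N.map (QuotientGroup.mk' K)).Normal :=
    Subgroup.Normal.map hNn _ (QuotientGroup.mk'_surjective K)
  refine ⟨N.map (QuotientGroup.mk' K), hnorm, ?_, ?_⟩
  · exact isCyclic_of_surjective ((QuotientGroup.mk' K).subgroupMap N)
      ((QuotientGroup.mk' K).subgroupMap_surjective N)
  · let f : G ⧸ N →* (G ⧸ K) ⧸ N.map (QuotientGroup.mk' K) :=
      QuotientGroup.map N (N.map (QuotientGroup.mk' K)) (QuotientGroup.mk' K)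
        (Subgroup.le_comap_map _ _)
    have hf : Function.Surjective f := by
      intro q
      obtain ⟨q', rfl⟩ := QuotientGroup.mk_surjective q
      obtain ⟨g, rfl⟩ := QuotientGroup.mk_surjective q'
      exact ⟨(g : G ⧸ N), rfl⟩
    exact isCyclic_of_surjective f hf

/-- If `g ^ p ∈ H`, `g ∉ H` and `g ^ l ∈ H` then `p ∣ l` (`p` prime). -/
theorem dvd_of_pow_mem {p : ℕ} (hp : p.Prime) (H : Subgroup G) (g : G) (hgp : g ^ p ∈ H)
    (hg : g ∉ H) (l : ℕ) (hl : g ^ l ∈ H) : p ∣ l := by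
  by_contra hnd
  have hcop : Nat.Coprime l p := (Nat.Coprime.symm ((Nat.Prime.coprime_iff_not_dvd hp).2 hnd))
  obtain ⟨m, -, hm⟩ := Nat.exists_mul_mod_eq_one_of_coprime hcop hp.one_lt
  apply hg
  have h1 : g ^ (l * m) = g ^ (p * (l * m / p)) * g := by
    conv_lhs => rw [← Nat.div_add_mod (l * m) p, hm, pow_add, pow_one]
  have h2 : g = (g ^ (p * (l * m / p)))⁻¹ * g ^ (l * m) := by
    rw [h1]; group
  rw [h2]
  refine H.mul_mem (H.inv_mem ?_) ?_
  · rw [pow_mul]; exact H.pow_mem hgp _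
  · rw [pow_mul]; exact H.pow_mem hl _

theorem orderOf_pow_prime {p : ℕ} (hp : p.Prime) (w : G) (n : ℕ) (hw : orderOf w = p ^ n) :
    orderOf (w ^ p) = p ^ (n - 1) := by
  have hpos : 0 < orderOf w := by rw [hw]; exact pow_pos hp.pos n
  rw [orderOf_pow' _ hp.ne_zero, hw]
  rcases n with _ | n
  · simp
  · rw [Nat.add_sub_cancel, pow_succ, Nat.gcd_mul_left_left, Nat.mul_div_cancel _ hp.pos]

/-- In a finite metacyclic `p`-group (`p` odd) with `|G'| = p ^ n`, a subgroup `H` of index `p`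
has `|H'| = p ^ (n - 1)`. -/
theorem card_commutator_of_index_prime [Finite G] {p : ℕ} [Fact p.Prime] (hp2 : p ≠ 2)
    (hG : IsPGroup p G) (hmc : Cfsg.IsMetacyclic G) (n : ℕ)
    (hn : Nat.card (commutator G) = p ^ n) (H : Subgroup G) (hH : H.index = p) :
    Nat.card ↥⁅H, H⁆ = p ^ (n - 1) := by
  have hpp : p.Prime := Fact.out
  obtain ⟨N, a, b, hNn, hNc, haN, hNa, hgen, hcomm⟩ := exists_gens hmc
  have hact : PowAct p N := exists_power_action hG N hNc
  obtain ⟨s, hs1, hs⟩ := hact b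
  -- G' = ⟨⁅b, a⁆⟩
  have hG' : commutator G = Subgroup.zpowers ⁅b, a⁆ := by
    rw [commutator_def]
    exact commutator_eq_zpowers a b s (hs a haN) ⊤ (Subgroup.mem_top a) (Subgroup.mem_top b)
      (fun h _ => hgen h)
  have hord : orderOf ⁅b, a⁆ = p ^ n := by
    rw [← hn, hG', Nat.card_zpowers]
  -- H is normal
  have hHn : H.Normal := by
    apply Subgroup.normal_of_index_eq_minFac_card
    obtain ⟨k, hk⟩ := IsPGroup.iff_card.1 hG
    rw [hH, hk]
    have hk0 : k ≠ 0 := by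
      rintro rfl
      have h1 : H.index ∣ Nat.card G := Subgroup.index_dvd_card H
      rw [hH, hk, pow_zero, Nat.dvd_one] at h1
      exact hpp.ne_one h1
    exact (hpp.pow_minFac hk0).symm
  have hpowH : ∀ g : G, g ^ p ∈ H := by
    intro g
    have := H.pow_index_mem g
    rwa [hH] at this
  have hfinal : ∀ w : G, orderOf w = p ^ n → orderOf (w ^ p) = p ^ (n - 1) :=
    fun w hw => orderOf_pow_prime hpp w n hw
  by_cases haH : a ∈ H
  · -- H = ⟨a⟩⟨b ^ p⟩
    have hbH : b ∉ H := by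
      intro hb
      have htop : H = ⊤ := by
        rw [eq_top_iff]
        intro g _
        obtain ⟨i, j, rfl⟩ := hgen g
        exact H.mul_mem (H.pow_mem haH i) (H.pow_mem hb j)
      rw [htop, Subgroup.index_top] at hH
      exact hpp.ne_one hH.symm
    have hgenH : ∀ h ∈ H, ∃ i j : ℕ, h = a ^ i * (b ^ p) ^ j := by
      intro h hh
      obtain ⟨i, l, rfl⟩ := hgen h
      have hbl : b ^ l ∈ H := by
        have := H.mul_mem (H.inv_mem (H.pow_mem haH i)) hh
        rwa [inv_mul_cancel_left] at this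
      obtain ⟨j, rfl⟩ := dvd_of_pow_mem hpp H b (hpowH b) hbH l hbl
      exact ⟨i, j, by rw [pow_mul]⟩
    have hc := conj_pow_of_power N b s hs p a haN
    rw [commutator_eq_zpowers a (b ^ p) (s ^ p) hc H haH (hpowH b) hgenH, Nat.card_zpowers,
      ← commutatorElement_inv, orderOf_inv,
      orderOf_comm_pow_right hp2 hG N hact a b (hcomm a b) p]
    apply hfinal
    rw [← commutatorElement_inv, orderOf_inv, hord]
  · -- H = ⟨a ^ p⟩⟨a ^ i₀ * b⟩
    have hcard : Nat.card (G ⧸ H) = p := by rw [← Subgroup.index_eq_card, hH]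
    have ha1 : ((a : G) : G ⧸ H) ≠ 1 := by
      rw [Ne, QuotientGroup.eq_one_iff]; exact haH
    obtain ⟨i₀, hi₀⟩ : ((b : G) : G ⧸ H)⁻¹ ∈ Submonoid.powers ((a : G) : G ⧸ H) :=
      mem_powers_of_prime_card hcard ha1
    have hh₀ : a ^ i₀ * b ∈ H := by
      rw [← QuotientGroup.eq_one_iff, QuotientGroup.mk_mul, QuotientGroup.mk_pow]
      simp only at hi₀
      rw [hi₀, inv_mul_cancel]
    obtain ⟨s', -, hs'⟩ := hact (a ^ i₀ * b)
    have hpowb : ∀ l : ℕ, ∃ n' ∈ N, (a ^ i₀ * b) ^ l = n' * b ^ l := by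
      intro l
      induction l with
      | zero => exact ⟨1, N.one_mem, by simp⟩
      | succ l ih =>
        obtain ⟨n', hn', hl⟩ := ih
        refine ⟨n' * (b ^ l * a ^ i₀ * (b ^ l)⁻¹), N.mul_mem hn' (hNn.conj_mem _ (N.pow_mem haN _) _), ?_⟩
        rw [pow_succ, hl, pow_succ]; group
    have hgenH : ∀ h ∈ H, ∃ i j : ℕ, h = (a ^ p) ^ i * (a ^ i₀ * b) ^ j := by
      intro h hh
      obtain ⟨i, l, rfl⟩ := hgen h
      obtain ⟨n', hn', hl⟩ := hpowb l
      have h1 : a ^ i * n'⁻¹ ∈ N := N.mul_mem (N.pow_mem haN i) (N.inv_mem hn')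
      obtain ⟨i', hi'⟩ := hNa _ h1
      have h2 : a ^ i * b ^ l = a ^ i' * (a ^ i₀ * b) ^ l := by
        rw [← hi', hl]; group
      have h3 : a ^ i' ∈ H := by
        have := H.mul_mem hh (H.inv_mem (H.pow_mem hh₀ l))
        rwa [h2, mul_inv_cancel_right] at this
      obtain ⟨j, rfl⟩ := dvd_of_pow_mem hpp H a (hpowH a) haH i' h3
      exact ⟨j, l, by rw [h2, pow_mul]⟩
    have hc : (a ^ i₀ * b) * a ^ p * (a ^ i₀ * b)⁻¹ = (a ^ p) ^ s' := hs' _ (N.pow_mem haN p)
    rw [commutator_eq_zpowers (a ^ p) (a ^ i₀ * b) s' hc H (hpowH a) hh₀ hgenH, Nat.card_zpowers,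
      orderOf_comm_pow_right hp2 hG N hact (a ^ i₀ * b) a (hcomm _ a) p]
    apply hfinal
    have h4 : ⁅a ^ i₀ * b, a⁆ = ⁅b, a⁆ := by
      rw [commutatorElement_def, commutatorElement_def]
      have h5 : b * a * b⁻¹ = a ^ s := hs a haN
      have h6 : a ^ i₀ * b * a * (a ^ i₀ * b)⁻¹ * a⁻¹ = a ^ i₀ * (b * a * b⁻¹) * (a ^ i₀)⁻¹ * a⁻¹ := by
        group
      rw [h6, h5]
      have h7 : a ^ i₀ * a ^ s = a ^ s * a ^ i₀ := (Commute.refl a).pow_pow i₀ s
      rw [h7, mul_inv_cancel_right]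
    rw [h4, hord]

/-- Main theorem: in a finite metacyclic `p`-group (`p` odd) with `|G'| = p ^ n`, a subgroup `H`
of index `p ^ k` has `|H'| = p ^ (n - k)`. -/
theorem card_commutator_of_index [Finite G] {p : ℕ} [Fact p.Prime] (hp2 : p ≠ 2)
    (hG : IsPGroup p G) (hmc : Cfsg.IsMetacyclic G) (n : ℕ)
    (hn : Nat.card (commutator G) = p ^ n) (k : ℕ) (H : Subgroup G) (hH : H.index = p ^ k) :
    Nat.card ↥⁅H, H⁆ = p ^ (n - k) := by
  have hpp : p.Prime := Fact.out
  induction k generalizing H with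
  | zero =>
    rw [pow_zero, Subgroup.index_eq_one] at hH
    rw [hH, ← commutator_def, hn, Nat.sub_zero]
  | succ k ih =>
    obtain ⟨m, hm⟩ := IsPGroup.iff_card.1 hG
    have hcH := Subgroup.card_mul_index H
    rw [hH, hm] at hcH
    obtain ⟨e, he⟩ := IsPGroup.iff_card.1 (hG.to_subgroup H)
    rw [he, ← pow_add] at hcH
    have hme : e + (k + 1) = m := Nat.pow_right_injective hpp.two_le hcH
    obtain ⟨H₁, hH₁c, hHH₁⟩ := Sylow.exists_subgroup_card_pow_succ (p := p) (n := e)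
      (by rw [hm]; exact pow_dvd_pow p (by omega)) he
    have hH₁i : H₁.index = p ^ k := by
      have h1 := Subgroup.card_mul_index H₁
      rw [hH₁c, hm, ← hme] at h1
      have h2 : p ^ (e + 1) * H₁.index = p ^ (e + 1) * p ^ k := by
        rw [h1, ← pow_add]; congr 1; omega
      exact Nat.eq_of_mul_eq_mul_left (pow_pos hpp.pos _) h2
    have ih1 := ih H₁ hH₁i
    -- transport to the group H₁
    have hcomm1 : Nat.card (commutator ↥H₁) = p ^ (n - k) := by
      rw [← ih1, ← Subgroup.map_subtype_commutator]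
      exact (Nat.card_congr (Subgroup.equivMapOfInjective _ _ H₁.subtype_injective).toEquiv)
    have hidx : (H.subgroupOf H₁).index = p := by
      have h1 := Subgroup.relIndex_mul_index hHH₁
      rw [hH₁i, hH, pow_succ, mul_comm] at h1
      exact Nat.eq_of_mul_eq_mul_left (pow_pos hpp.pos k) h1
    have h2 := card_commutator_of_index_prime hp2 (hG.to_subgroup H₁) (isMetacyclic_subgroup hmc H₁)
      (n - k) hcomm1 (H.subgroupOf H₁) hidx
    have h3 : (⁅H.subgroupOf H₁, H.subgroupOf H₁⁆).map H₁.subtype = ⁅H, H⁆ := by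
      rw [Subgroup.map_commutator, Subgroup.subgroupOf_map_subtype, inf_of_le_left hHH₁]
    rw [← h3, Nat.card_congr (Subgroup.equivMapOfInjective _ _ H₁.subtype_injective).toEquiv.symm,
      h2]
    congr 1

end Cfsg.Agent.Lib.Helper64.MetaB
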