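import Mathlib
import Cfsg.Agent.Lib.Helper33.Conj

set_option autoImplicit false

namespace Cfsg.Agent.Lib.Helper64.Frattini

open Cfsg.Agent.Lib.Helper33.Conj

open scoped commutatorElement

/-- Normalizer growth relative to a normal subgroup: in a nilpotent group, a normal subgroup `D`
not contained in `T` has an element outside `T` that normalizes `T`. -/
theorem exists_normalizing_not_mem_of_nilpotent {P : Type*} [Group P] [hnil : Group.IsNilpotent P]
    (T D : Subgroup P) [hD : D.Normal] (h : ¬ D ≤ T) :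
    ∃ d ∈ D, d ∉ T ∧ ∀ t ∈ T, d * t * d⁻¹ ∈ T := by
  classical
  obtain ⟨n, hn⟩ := hnil.nilpotent'
  have hex : ∃ i, ¬ D ⊓ Subgroup.upperCentralSeries P i ≤ T := ⟨n, by rw [hn, inf_top_eq]; exact h⟩
  have hmin := fun j => Nat.find_min hex (m := j)
  have hi := Nat.find_spec hex
  have hi0 : Nat.find hex ≠ 0 := by
    intro h0
    rw [h0, Subgroup.upperCentralSeries_zero, inf_bot_eq] at hi
    exact hi bot_le
  obtain ⟨j, hj⟩ : ∃ j, Nat.find hex = j + 1 := ⟨Nat.find hex - 1, by omega⟩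
  obtain ⟨d, hd, hdT⟩ := SetLike.not_le_iff_exists.1 hi
  refine ⟨d, hd.1, hdT, ?_⟩
  intro t ht
  have h1 : ⁅d, t⁆ ∈ Subgroup.upperCentralSeries P j := by
    have h2 := hd.2
    rw [hj] at h2
    exact Subgroup.mem_upperCentralSeries_succ_iff.1 h2 t
  have h2 : ⁅d, t⁆ ∈ D := by
    rw [commutatorElement_def]
    have h3 : d * t * d⁻¹ * t⁻¹ = d * (t * d⁻¹ * t⁻¹) := by group
    rw [h3]
    exact D.mul_mem hd.1 (hD.conj_mem _ (D.inv_mem hd.1) t)
  have h3 : ⁅d, t⁆ ∈ T := by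
    have hlt : j < Nat.find hex := by omega
    have h4 := not_not.1 (hmin j hlt)
    exact h4 ⟨h2, h1⟩
  have h4 : d * t * d⁻¹ = ⁅d, t⁆ * t := by rw [commutatorElement_def]; group
  rw [h4]
  exact T.mul_mem h3 ht

variable {G : Type*} [Group G]

/-- Normalizer growth inside a finite `p`-subgroup `S` of `G`: if `D ≤ S` is normalized by `S` and
`D ≰ T` (`T ≤ S`), some element of `D` outside `T` normalizes `T`. -/
theorem exists_normalizing_not_mem [Finite G] {p : ℕ} [Fact p.Prime] (S T D : Subgroup G)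
    (hS : IsPGroup p S) (hTS : T ≤ S) (hDS : D ≤ S)
    (hDn : ∀ s ∈ S, ∀ d ∈ D, s * d * s⁻¹ ∈ D) (h : ¬ D ≤ T) :
    ∃ d ∈ D, d ∉ T ∧ ∀ t ∈ T, d * t * d⁻¹ ∈ T := by
  have hnil : Group.IsNilpotent S := hS.isNilpotent
  have hDn' : (D.subgroupOf S).Normal := by
    refine ⟨fun d hd s => ?_⟩
    rw [Subgroup.mem_subgroupOf] at hd ⊢
    simpa using hDn s s.2 d hd
  have h' : ¬ D.subgroupOf S ≤ T.subgroupOf S := by
    intro hle
    apply h
    intro d hd
    have : (⟨d, hDS hd⟩ : S) ∈ T.subgroupOf S := hle (Subgroup.mem_subgroupOf.2 hd)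
    exact Subgroup.mem_subgroupOf.1 this
  obtain ⟨d, hd, hdT, hdn⟩ := exists_normalizing_not_mem_of_nilpotent (T.subgroupOf S)
    (D.subgroupOf S) h'
  refine ⟨d, Subgroup.mem_subgroupOf.1 hd, fun hh => hdT (Subgroup.mem_subgroupOf.2 hh), ?_⟩
  intro t ht
  have := hdn ⟨t, hTS ht⟩ (Subgroup.mem_subgroupOf.2 ht)
  rw [Subgroup.mem_subgroupOf] at this
  simpa using this

/-- In a finite group, one-sided conjugation invariance gives membership in the normalizer. -/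
theorem mem_normalizer_of_conj_mem [Finite G] {H : Subgroup G} {g : G}
    (h : ∀ x ∈ H, g * x * g⁻¹ ∈ H) : g ∈ Subgroup.normalizer (H : Set G) := by
  rw [mem_normalizer_iff_cj_eq]
  apply Subgroup.eq_of_le_of_card_ge
  · intro y hy
    rw [mem_cj] at hy
    have := h _ hy
    have h2 : g * (g⁻¹ * y * g) * g⁻¹ = y := by group
    rwa [h2] at this
  · rw [card_cj]

/-- If `g` normalizes `A` and `B`, it normalizes `A ⊔ B`. -/
theorem mem_normalizer_sup {A B : Subgroup G} {g : G}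
    (hA : g ∈ Subgroup.normalizer (A : Set G)) (hB : g ∈ Subgroup.normalizer (B : Set G)) :
    g ∈ Subgroup.normalizer ((A ⊔ B : Subgroup G) : Set G) := by
  rw [mem_normalizer_iff_cj_eq] at hA hB ⊢
  rw [Subgroup.map_sup, hA, hB]

/-- Sylow subgroups restrict to normal subgroups (relative version): if `R` is a Sylow
`p`-subgroup of `Y` and `W ≤ Y` is normalized by `Y`, then `R ⊓ W` is a Sylow `p`-subgroup
of `W`. -/
theorem isSylIn_inf_of_normal [Finite G] {p : ℕ} [Fact p.Prime] {R Y W : Subgroup G}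
    (hR : IsSylIn p R Y) (hWY : W ≤ Y) (hYW : Y ≤ Subgroup.normalizer (W : Set G)) :
    IsSylIn p (R ⊓ W) W := by
  obtain ⟨Q, -, hQ⟩ := exists_isSylIn (p := p) (H := W) (Q := ⊥) bot_le IsPGroup.of_bot
  obtain ⟨x, hxY, hx⟩ := hR.exists_cj_le (hQ.1.trans hWY) hQ.2.1
  have hWx : W.map (MulAut.conj x).toMonoidHom = W := cj_eq_of_mem_normalizer (hYW hxY)
  have hQx : IsSylIn p (Q.map (MulAut.conj x).toMonoidHom) W := by
    have := hQ.cj x
    rwa [hWx] at this
  have hle : Q.map (MulAut.conj x).toMonoidHom ≤ R ⊓ W := le_inf hx hQx.1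
  have heq := hQx.eq_of_le hle inf_le_right (hR.2.1.to_le inf_le_left)
  rw [heq]
  exact hQx

/-- **Frattini argument with powers.** Let `W ≤ Y` be normalized by `Y`, and `R` a Sylow
`p`-subgroup of `W`. If every `p'`-element of `N_Y(R)` lies in `W`, then every `p'`-element of
`Y` lies in `W`. -/
theorem mem_of_coprime_of_frattini [Finite G] {p : ℕ} [hp : Fact p.Prime] {R Y W : Subgroup G}
    (hR : IsSylIn p R W) (hWY : W ≤ Y) (hYW : Y ≤ Subgroup.normalizer (W : Set G))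
    (hN : ∀ n ∈ Y, n ∈ Subgroup.normalizer (R : Set G) → (orderOf n).Coprime p → n ∈ W)
    (a : G) (haY : a ∈ Y) (ha : (orderOf a).Coprime p) : a ∈ W := by
  -- Frattini: a = x⁻¹ n with x ∈ W, n ∈ N_Y(R)
  have hWa : W.map (MulAut.conj a).toMonoidHom = W := cj_eq_of_mem_normalizer (hYW haY)
  have hRa : IsSylIn p (R.map (MulAut.conj a).toMonoidHom) W := by
    have := hR.cj a
    rwa [hWa] at this
  obtain ⟨x, hxW, hx⟩ := hR.exists_cj_eq hRa
  rw [cj_cj] at hx
  have hnR : x * a ∈ Subgroup.normalizer (R : Set G) := mem_normalizer_iff_cj_eq.2 hx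
  have hnY : x * a ∈ Y := Y.mul_mem (hWY hxW) haY
  -- a suitable p-power kills the p-part of n
  have hn0 : orderOf (x * a) ≠ 0 := (orderOf_pos _).ne'
  obtain ⟨e, he⟩ : ∃ e : ℕ, e = p ^ (orderOf (x * a)).factorization p := ⟨_, rfl⟩
  have hne : (x * a) ^ e ∈ W := by
    apply hN
    · exact Y.pow_mem hnY e
    · exact (Subgroup.normalizer (R : Set G)).pow_mem hnR e
    · rw [orderOf_pow, he]
      have h1 : Nat.gcd (orderOf (x * a)) (p ^ (orderOf (x * a)).factorization p) =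
          p ^ (orderOf (x * a)).factorization p :=
        Nat.gcd_eq_right (Nat.ordProj_dvd _ _)
      rw [h1]
      exact (Nat.coprime_ordCompl hp.out hn0).symm
  -- a^j ∈ W (x a)^j for all j
  have hpow : ∀ j : ℕ, ∃ w ∈ W, a ^ j = w * (x * a) ^ j := by
    intro j
    induction j with
    | zero => exact ⟨1, W.one_mem, by simp⟩
    | succ j ih =>
      obtain ⟨w, hw, hwj⟩ := ih
      have hnj : (x * a) ^ j ∈ Y := Y.pow_mem hnY j
      have h1 : (x * a) ^ j * x⁻¹ * ((x * a) ^ j)⁻¹ ∈ W :=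
        ((Subgroup.mem_normalizer_iff.1 (hYW hnj)) x⁻¹).1 (W.inv_mem hxW)
      refine ⟨w * ((x * a) ^ j * x⁻¹ * ((x * a) ^ j)⁻¹), W.mul_mem hw h1, ?_⟩
      rw [pow_succ, hwj, pow_succ]
      group
  obtain ⟨w, hw, hwe⟩ := hpow e
  have hae : a ^ e ∈ W := by rw [hwe]; exact W.mul_mem hw hne
  have hcop : e.Coprime (orderOf a) := by
    rw [he]
    exact Nat.Coprime.pow_left _ ha.symm
  obtain ⟨m, hm⟩ := exists_pow_eq_self_of_coprime hcop
  rw [← hm]
  exact W.pow_mem hae m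

/-- **Coprime stability.** A `p'`-element acting trivially on `U` and on `T/U` (i.e. with
`[T, a] ⊆ U`) acts trivially on the `p`-group `T`. -/
theorem conj_eq_of_stable {p : ℕ} {T U : Subgroup G} (hT : IsPGroup p T)
    (hUT : U ≤ T) (a : G) (ha : (orderOf a).Coprime p)
    (hU : ∀ u ∈ U, a * u * a⁻¹ = u) (hTU : ∀ t ∈ T, a * t * a⁻¹ * t⁻¹ ∈ U) :
    ∀ t ∈ T, a * t * a⁻¹ = t := by
  intro t ht
  have hc := hTU t ht
  have hcT : a * t * a⁻¹ * t⁻¹ ∈ T := hUT hc
  have hpow : ∀ j : ℕ, a ^ j * t * (a ^ j)⁻¹ = (a * t * a⁻¹ * t⁻¹) ^ j * t := by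
    intro j
    induction j with
    | zero => simp
    | succ j ih =>
      have h1 : a ^ (j + 1) * t * (a ^ (j + 1))⁻¹ = a * (a ^ j * t * (a ^ j)⁻¹) * a⁻¹ := by
        rw [pow_succ']; group
      have h2 : a * ((a * t * a⁻¹ * t⁻¹) ^ j * t) * a⁻¹ =
          (a * (a * t * a⁻¹ * t⁻¹) * a⁻¹) ^ j * (a * t * a⁻¹) := by
        rw [conj_pow]; group
      rw [h1, ih, h2, hU _ hc, pow_succ]
      group
  have h1 := hpow (orderOf a)
  rw [pow_orderOf_eq_one] at h1
  have h2 : (a * t * a⁻¹ * t⁻¹) ^ orderOf a = 1 := by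
    have : t = (a * t * a⁻¹ * t⁻¹) ^ orderOf a * t := by simpa using h1
    exact mul_eq_right.1 this.symm
  obtain ⟨k, hk⟩ := hT ⟨_, hcT⟩
  have hk' : (a * t * a⁻¹ * t⁻¹) ^ (p ^ k) = 1 := by
    have := congrArg Subtype.val hk
    simpa using this
  have h3 : orderOf (a * t * a⁻¹ * t⁻¹) ∣ orderOf a := orderOf_dvd_of_pow_eq_one h2
  have h4 : orderOf (a * t * a⁻¹ * t⁻¹) ∣ p ^ k := orderOf_dvd_of_pow_eq_one hk'
  have h5 : orderOf (a * t * a⁻¹ * t⁻¹) = 1 :=
    Nat.eq_one_of_dvd_coprimes (Nat.Coprime.pow_right k ha) h3 h4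
  have h6 : a * t * a⁻¹ * t⁻¹ = 1 := orderOf_eq_one_iff.1 h5
  exact mul_inv_eq_one.1 h6

end Cfsg.Agent.Lib.Helper64.Frattini
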