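import Mathlib
import Cfsg.Agent.Lib.Helper10.SWDefs

set_option autoImplicit false

/-!
# S3685 / DEC : the decomposition `Y = Q₀ × X` (Sims–Wong)
-/

namespace Cfsg.Agent.Lib.Helper64.SWDEC

open Cfsg.Agent.Lib.Helper10.SWDefs

universe u

/-! ### general lemmas -/

theorem card_sup_of_le_normalizer {G : Type*} [Group G] (A B : Subgroup G)
    (hB : B ≤ Subgroup.normalizer (A : Set G)) (hAB : A ⊓ B = ⊥) :
    Nat.card ↥(A ⊔ B) = Nat.card A * Nat.card B := by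
  rw [← Nat.card_prod]
  symm
  apply Nat.card_congr
  refine Equiv.ofBijective (fun x : A × B => (⟨(x.1 : G) * (x.2 : G),
    mul_mem ((le_sup_left : A ≤ A ⊔ B) x.1.2) ((le_sup_right : B ≤ A ⊔ B) x.2.2)⟩ : ↥(A ⊔ B)))
    ⟨?_, ?_⟩
  · rintro ⟨⟨a, ha⟩, ⟨b, hb⟩⟩ ⟨⟨a', ha'⟩, ⟨b', hb'⟩⟩ h
    have h' : a * b = a' * b' := congrArg (fun z : ↥(A ⊔ B) => (z : G)) h
    have h1 : a'⁻¹ * a = b' * b⁻¹ := by
      have e1 : a'⁻¹ * a = a'⁻¹ * (a * b) * b⁻¹ := by group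
      rw [e1, h']; group
    have h2 : a'⁻¹ * a ∈ A ⊓ B :=
      ⟨A.mul_mem (A.inv_mem ha') ha, h1 ▸ B.mul_mem hb' (B.inv_mem hb)⟩
    rw [hAB, Subgroup.mem_bot] at h2
    have ha_eq : a = a' := by
      have e1 : a = a' * (a'⁻¹ * a) := by group
      rw [e1, h2, mul_one]
    subst ha_eq
    have hb_eq : b = b' := mul_left_cancel h'
    subst hb_eq
    rfl
  · rintro ⟨x, hx⟩
    have hx' : x ∈ ((A ⊔ B : Subgroup G) : Set G) := hx
    rw [Subgroup.coe_mul_of_right_le_normalizer_left A B hB] at hx'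
    obtain ⟨a, ha, b, hb, rfl⟩ := hx'
    exact ⟨(⟨a, ha⟩, ⟨b, hb⟩), rfl⟩

theorem nrm_of_le_normalizer {G : Type*} [Group G] {P N : Subgroup G}
    (h : P ≤ Subgroup.normalizer (N : Set G)) : Nrm P N := by
  intro p hp
  ext x
  rw [mem_conj_smul]
  have hp' : p⁻¹ ∈ Subgroup.normalizer (N : Set G) := Subgroup.inv_mem _ (h hp)
  have h1 := Subgroup.mem_normalizer_iff.1 hp' x
  rw [inv_inv] at h1
  exact h1.symm

theorem mem_normalizer_of_conj {G : Type*} [Group G] {A : Subgroup G} {g : G}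
    (h1 : ∀ a ∈ A, g * a * g⁻¹ ∈ A) (h2 : ∀ a ∈ A, g⁻¹ * a * g ∈ A) :
    g ∈ Subgroup.normalizer (A : Set G) := by
  rw [Subgroup.mem_normalizer_iff]
  intro x
  constructor
  · exact fun hx => h1 x hx
  · intro hx
    have h3 := h2 _ hx
    have e : g⁻¹ * (g * x * g⁻¹) * g = x := by group
    rw [e] at h3
    exact h3

theorem eq_one_of_pow_three {G : Type*} [Group G] {Q : Subgroup G} (h2 : IsPGroup 2 Q) {x : G}
    (hx : x ∈ Q) (h3 : x ^ 3 = 1) : x = 1 := by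
  obtain ⟨k, hk⟩ := h2 ⟨x, hx⟩
  have hk' : x ^ (2 ^ k) = 1 := congrArg (fun z : ↥Q => (z : G)) hk
  have hg := pow_gcd_eq_one.2 ⟨h3, hk'⟩
  have hcop : Nat.gcd 3 (2 ^ k) = 1 := Nat.Coprime.pow_right k (by norm_num)
  rwa [hcop, pow_one] at hg

theorem zpowers_three {G : Type*} [Group G] {t : G} (ht : t * t * t = 1) :
    ∀ z ∈ Subgroup.zpowers t, z = 1 ∨ z = t ∨ z = t⁻¹ := by
  intro z hz
  obtain ⟨i, rfl⟩ := Subgroup.mem_zpowers_iff.1 hz
  have h3 : t ^ (3 : ℤ) = 1 := by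
    have e1 : t ^ (3 : ℤ) = t * t * t := by
      rw [show (3 : ℤ) = ((3 : ℕ) : ℤ) from rfl, zpow_natCast, pow_succ, pow_two]
    rw [e1, ht]
  have hi : t ^ i = t ^ (i % 3) := by
    conv_lhs => rw [← Int.mul_ediv_add_emod i 3]
    rw [zpow_add, zpow_mul, h3, one_zpow, one_mul]
  have h0 : 0 ≤ i % 3 := Int.emod_nonneg i (by norm_num)
  have h1 : i % 3 < 3 := Int.emod_lt_of_pos i (by norm_num)
  obtain ⟨r, hr⟩ : ∃ r : ℤ, r = i % 3 := ⟨_, rfl⟩
  rw [hi, ← hr]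
  rw [← hr] at h0 h1
  interval_cases r
  · left; exact zpow_zero t
  · right; left; exact zpow_one t
  · right; right
    have e1 : t ^ (2 : ℤ) = t * t := by
      rw [show (2 : ℤ) = ((2 : ℕ) : ℤ) from rfl, zpow_natCast, pow_two]
    rw [e1]
    exact eq_inv_of_mul_eq_one_left ht

theorem zpowers_two {G : Type*} [Group G] {u : G} (hu : u * u = 1) :
    ∀ z ∈ Subgroup.zpowers u, z = 1 ∨ z = u := by
  intro z hz
  obtain ⟨i, rfl⟩ := Subgroup.mem_zpowers_iff.1 hz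
  have h2 : u ^ (2 : ℤ) = 1 := by
    have e1 : u ^ (2 : ℤ) = u * u := by
      rw [show (2 : ℤ) = ((2 : ℕ) : ℤ) from rfl, zpow_natCast, pow_two]
    rw [e1, hu]
  have hi : u ^ i = u ^ (i % 2) := by
    conv_lhs => rw [← Int.mul_ediv_add_emod i 2]
    rw [zpow_add, zpow_mul, h2, one_zpow, one_mul]
  have h0 : 0 ≤ i % 2 := Int.emod_nonneg i (by norm_num)
  have h1 : i % 2 < 2 := Int.emod_lt_of_pos i (by norm_num)
  obtain ⟨r, hr⟩ : ∃ r : ℤ, r = i % 2 := ⟨_, rfl⟩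
  rw [hi, ← hr]
  rw [← hr] at h0 h1
  interval_cases r
  · left; exact zpow_zero u
  · right; exact zpow_one u

/-- the four-group `{1, e, e2, e3}` -/
theorem exists_W {G : Type*} [Group G] (e e2 e3 : G) (hee : e * e = 1) (he2e2 : e2 * e2 = 1)
    (he3e3 : e3 * e3 = 1) (h23 : e2 * e3 = e) (h32 : e3 * e2 = e) :
    ∃ W : Subgroup G, ∀ x, x ∈ W ↔ x = 1 ∨ x = e ∨ x = e2 ∨ x = e3 := by
  have h_e_e2 : e * e2 = e3 := by rw [← h32, mul_assoc, he2e2, mul_one]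
  have h_e2_e : e2 * e = e3 := by rw [← h23, ← mul_assoc, he2e2, one_mul]
  have h_e_e3 : e * e3 = e2 := by rw [← h23, mul_assoc, he3e3, mul_one]
  have h_e3_e : e3 * e = e2 := by rw [← h32, ← mul_assoc, he3e3, one_mul]
  have einv : e⁻¹ = e := inv_eq_of_mul_eq_one_left hee
  have e2inv : e2⁻¹ = e2 := inv_eq_of_mul_eq_one_left he2e2
  have e3inv : e3⁻¹ = e3 := inv_eq_of_mul_eq_one_left he3e3
  refine ⟨{ carrier := {x | x = 1 ∨ x = e ∨ x = e2 ∨ x = e3}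
            mul_mem' := ?_
            one_mem' := Or.inl rfl
            inv_mem' := ?_ }, fun x => Iff.rfl⟩
  · intro a b ha hb
    rcases ha with ha | ha | ha | ha <;> rcases hb with hb | hb | hb | hb <;> rw [ha, hb] <;>
      simp [hee, he2e2, he3e3, h23, h32, h_e_e2, h_e2_e, h_e_e3, h_e3_e]
  · intro a ha
    rcases ha with ha | ha | ha | ha <;> rw [ha] <;> simp [einv, e2inv, e3inv]

/-- the configuration found in the first half of the proof -/
structure Config {G : Type u} [Group G] (Y Q : Subgroup G) (u e e2 e3 t : G) : Prop where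
  he2 : e2 ∈ Q
  he3 : e3 ∈ Q
  hce : ∀ q ∈ Q, q * e = e * q
  hce2 : ∀ q ∈ Q, q * e2 = e2 * q
  hce3 : ∀ q ∈ Q, q * e3 = e3 * q
  hee : e * e = 1
  he2e2 : e2 * e2 = 1
  he3e3 : e3 * e3 = 1
  h23 : e2 * e3 = e
  hne2 : e2 ≠ 1
  hne3 : e3 ≠ 1
  hue : u * e * u⁻¹ = e
  hue2 : u * e2 * u⁻¹ = e3
  htY : t ∈ Y
  ht3 : t * t * t = 1
  htQ : t ∉ Q
  hte : t * e * t⁻¹ = e2
  hte2 : t * e2 * t⁻¹ = e3
  hte3 : t * e3 * t⁻¹ = e
  htq : ∀ q ∈ Q, t * q * t⁻¹ * q⁻¹ = 1 ∨ t * q * t⁻¹ * q⁻¹ = e ∨ t * q * t⁻¹ * q⁻¹ = e2 ∨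
    t * q * t⁻¹ * q⁻¹ = e3
  hut : u * t * u⁻¹ * t ∈ Q

/-- the second half: from the configuration to the decomposition -/
theorem dec_of_config {G : Type u} [Group G] [Finite G] (Y Q : Subgroup G) (u e e2 e3 t : G)
    (hQY : Q ≤ Y) (hnQ : ∀ y ∈ Y, ∀ q ∈ Q, y * q * y⁻¹ ∈ Q) (h2 : IsPGroup 2 Q)
    (hcard : Nat.card Y = 6 * Nat.card Q)
    (huY : u ∈ Y) (huQ : u ∉ Q) (hu2 : u * u = 1) (hne : e ≠ 1) (he : e ∈ Q)
    (hc : ∀ q ∈ Q, q * u * q⁻¹ * u⁻¹ = 1 ∨ q * u * q⁻¹ * u⁻¹ = e)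
    (cfg : Config Y Q u e e2 e3 t) :
    ∃ X Q₀ W : Subgroup G, X ≤ Y ∧ Q₀ ≤ Q ∧ W ≤ Q ∧ W ≤ X ∧ u ∈ X ∧ e ∈ W ∧ X ⊓ Q₀ = ⊥ ∧
      X ⊔ Q₀ = Y ∧ (∀ x ∈ X, ∀ q ∈ Q₀, x * q = q * x) ∧ Nat.card X = 24 ∧ Nat.card W = 4 ∧
      Nrm X W ∧ (∀ x ∈ X, (∀ w ∈ W, x * w = w * x) → x ∈ W) ∧
      (∀ w ∈ W, ∀ q ∈ Q, w * q = q * w) ∧ (∀ w ∈ W, w * w = 1) ∧ Q₀ ⊔ W = Q ∧
      (∀ w ∈ W, u * w = w * u → w = 1 ∨ w = e) ∧ Nrm Y W := by
  obtain ⟨he2, he3, hce, hce2, hce3, hee, he2e2, he3e3, h23, hne2, hne3, hue, hue2, htY, ht3,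
    htQ, hte, hte2, hte3, htq, hut⟩ := cfg
  have f3 : Fact (Nat.Prime 3) := ⟨by norm_num⟩
  have f2 : Fact (Nat.Prime 2) := ⟨by norm_num⟩
  have uinv : u⁻¹ = u := inv_eq_of_mul_eq_one_left hu2
  have h32 : e3 * e2 = e := by rw [← hce3 e2 he2]; exact h23
  have h_e_e2 : e * e2 = e3 := by rw [← h32, mul_assoc, he2e2, mul_one]
  have h_e2_e : e2 * e = e3 := by rw [← h23, ← mul_assoc, he2e2, one_mul]
  have h_e_e3 : e * e3 = e2 := by rw [← h23, mul_assoc, he3e3, mul_one]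
  have hue3 : u * e3 * u⁻¹ = e2 := by
    have e1 : u * e3 * u⁻¹ = (u * u) * e2 * (u * u)⁻¹ := by rw [← hue2]; group
    rw [e1, hu2]; group
  have hne_e_e2 : e ≠ e2 := fun h => hne3 (by rw [← h_e_e2, ← h, hee])
  have hne_e_e3 : e ≠ e3 := fun h => hne2 (by rw [← h_e_e3, ← h, hee])
  have hne_e2_e3 : e2 ≠ e3 := fun h => hne (by rw [← h23, h, he3e3])
  have ht3p : t ^ 3 = 1 := by rw [pow_succ, pow_two]; exact ht3
  have ht1 : t ≠ 1 := fun h => htQ (by rw [h]; exact Q.one_mem)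
  have hot : orderOf t = 3 := orderOf_eq_prime ht3p ht1
  have hu1 : u ≠ 1 := fun h => huQ (by rw [h]; exact Q.one_mem)
  have hou : orderOf u = 2 := orderOf_eq_prime (by rw [pow_two]; exact hu2) hu1
  -- the four-group
  obtain ⟨W, hW⟩ := exists_W e e2 e3 hee he2e2 he3e3 h23 h32
  have heW : e ∈ W := (hW e).2 (Or.inr (Or.inl rfl))
  have he2W : e2 ∈ W := (hW e2).2 (Or.inr (Or.inr (Or.inl rfl)))
  have he3W : e3 ∈ W := (hW e3).2 (Or.inr (Or.inr (Or.inr rfl)))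
  have hWQ : W ≤ Q := by
    intro x hx
    rcases (hW x).1 hx with h | h | h | h <;> rw [h]
    exacts [Q.one_mem, he, he2, he3]
  have hWc : ∀ w ∈ W, ∀ q ∈ Q, w * q = q * w := by
    intro w hw q hq
    rcases (hW w).1 hw with h | h | h | h <;> rw [h]
    · rw [one_mul, mul_one]
    · exact (hce q hq).symm
    · exact (hce2 q hq).symm
    · exact (hce3 q hq).symm
  have hWsq : ∀ w ∈ W, w * w = 1 := by
    intro w hw
    rcases (hW w).1 hw with h | h | h | h <;> rw [h]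
    exacts [one_mul 1, hee, he2e2, he3e3]
  have hWcard : Nat.card W = 4 := by
    have hset : (W : Set G) = {1, e, e2, e3} := by
      ext x
      exact hW x
    have a2 : e ∉ ({e2, e3} : Set G) := by
      simp only [Set.mem_insert_iff, Set.mem_singleton_iff, not_or]
      exact ⟨hne_e_e2, hne_e_e3⟩
    have a3 : (1 : G) ∉ ({e, e2, e3} : Set G) := by
      simp only [Set.mem_insert_iff, Set.mem_singleton_iff, not_or]
      exact ⟨hne.symm, hne2.symm, hne3.symm⟩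
    have h4 : ({1, e, e2, e3} : Set G).ncard = 4 := by
      rw [Set.ncard_insert_of_notMem a3, Set.ncard_insert_of_notMem a2, Set.ncard_pair hne_e2_e3]
    rw [← h4, ← hset]
    exact Nat.card_coe_set_eq (W : Set G)
  -- normalizers
  have hte' : t⁻¹ * e * t = e3 := by rw [← hte3]; group
  have hte2' : t⁻¹ * e2 * t = e := by rw [← hte]; group
  have hte3' : t⁻¹ * e3 * t = e2 := by rw [← hte2]; group
  have htW : ∀ w ∈ W, t * w * t⁻¹ ∈ W := by
    intro w hw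
    rcases (hW w).1 hw with h | h | h | h <;> rw [h]
    · have e1 : t * 1 * t⁻¹ = 1 := by group
      rw [e1]; exact W.one_mem
    · rw [hte]; exact he2W
    · rw [hte2]; exact he3W
    · rw [hte3]; exact heW
  have htW' : ∀ w ∈ W, t⁻¹ * w * t ∈ W := by
    intro w hw
    rcases (hW w).1 hw with h | h | h | h <;> rw [h]
    · have e1 : t⁻¹ * 1 * t = 1 := by group
      rw [e1]; exact W.one_mem
    · rw [hte']; exact he3W
    · rw [hte2']; exact heW
    · rw [hte3']; exact he2W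
  have huW : ∀ w ∈ W, u * w * u⁻¹ ∈ W := by
    intro w hw
    rcases (hW w).1 hw with h | h | h | h <;> rw [h]
    · have e1 : u * 1 * u⁻¹ = 1 := by group
      rw [e1]; exact W.one_mem
    · rw [hue]; exact heW
    · rw [hue2]; exact he3W
    · rw [hue3]; exact he2W
  have huW' : ∀ w ∈ W, u⁻¹ * w * u ∈ W := by
    intro w hw
    have h1 := huW w hw
    rw [uinv] at h1 ⊢
    exact h1
  have htN : t ∈ Subgroup.normalizer (W : Set G) := mem_normalizer_of_conj htW htW'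
  have huN : u ∈ Subgroup.normalizer (W : Set G) := mem_normalizer_of_conj huW huW'
  have hzt : Subgroup.zpowers t ≤ Subgroup.normalizer (W : Set G) := Subgroup.zpowers_le.2 htN
  have hzt3 := zpowers_three ht3
  have hzu2 := zpowers_two hu2
  -- the centralizer of `t` in `Q`
  obtain ⟨Q₀, hQ₀⟩ : ∃ Q₀ : Subgroup G, ∀ x, x ∈ Q₀ ↔ x ∈ Q ∧ t * x = x * t := by
    refine ⟨{ carrier := {x | x ∈ Q ∧ t * x = x * t}
              mul_mem' := ?_
              one_mem' := ⟨Q.one_mem, by rw [mul_one, one_mul]⟩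
              inv_mem' := ?_ }, fun x => Iff.rfl⟩
    · rintro a b ⟨ha, ha'⟩ ⟨hb, hb'⟩
      refine ⟨Q.mul_mem ha hb, ?_⟩
      calc t * (a * b) = (t * a) * b := by group
        _ = a * (t * b) := by rw [ha']; group
        _ = a * b * t := by rw [hb']; group
    · rintro a ⟨ha, ha'⟩
      refine ⟨Q.inv_mem ha, ?_⟩
      calc t * a⁻¹ = a⁻¹ * (a * t) * a⁻¹ := by group
        _ = a⁻¹ * (t * a) * a⁻¹ := by rw [ha']
        _ = a⁻¹ * t := by group
  have hQ₀Q : Q₀ ≤ Q := fun x hx => ((hQ₀ x).1 hx).1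
  have hQ₀W : Q₀ ⊓ W = ⊥ := by
    rw [Subgroup.eq_bot_iff_forall]
    intro x hx
    obtain ⟨hx0, hxW⟩ := Subgroup.mem_inf.1 hx
    have hxt := ((hQ₀ x).1 hx0).2
    have hconj : t * x * t⁻¹ = x := by rw [hxt]; group
    rcases (hW x).1 hxW with h | h | h | h
    · exact h
    · exfalso; rw [h, hte] at hconj; exact hne_e_e2 hconj.symm
    · exfalso; rw [h, hte2] at hconj; exact hne_e2_e3 hconj.symm
    · exfalso; rw [h, hte3] at hconj; exact hne_e_e3 hconj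
  have hdecomp : ∀ q ∈ Q, ∃ q₀ ∈ Q₀, ∃ w ∈ W, q = q₀ * w := by
    intro q hq
    have hconj : ∀ c : G, t * q * t⁻¹ * q⁻¹ = c → t * q * t⁻¹ = c * q := by
      intro c hc'
      rw [← hc']; group
    rcases htq q hq with h | h | h | h
    · refine ⟨q, (hQ₀ q).2 ⟨hq, ?_⟩, 1, W.one_mem, (mul_one q).symm⟩
      have h1 := hconj 1 h
      calc t * q = (t * q * t⁻¹) * t := by group
        _ = q * t := by rw [h1, one_mul]
    · refine ⟨q * e2, (hQ₀ _).2 ⟨Q.mul_mem hq he2, ?_⟩, e2, he2W, ?_⟩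
      · have h1 := hconj e h
        calc t * (q * e2) = (t * q * t⁻¹) * (t * e2 * t⁻¹) * t := by group
          _ = (e * q) * e3 * t := by rw [h1, hte2]
          _ = q * (e * e3) * t := by rw [← hce q hq]; group
          _ = q * e2 * t := by rw [h_e_e3]
      · rw [mul_assoc, he2e2, mul_one]
    · refine ⟨q * e3, (hQ₀ _).2 ⟨Q.mul_mem hq he3, ?_⟩, e3, he3W, ?_⟩
      · have h1 := hconj e2 h
        calc t * (q * e3) = (t * q * t⁻¹) * (t * e3 * t⁻¹) * t := by group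
          _ = (e2 * q) * e * t := by rw [h1, hte3]
          _ = q * (e2 * e) * t := by rw [← hce2 q hq]; group
          _ = q * e3 * t := by rw [h_e2_e]
      · rw [mul_assoc, he3e3, mul_one]
    · refine ⟨q * e, (hQ₀ _).2 ⟨Q.mul_mem hq he, ?_⟩, e, heW, ?_⟩
      · have h1 := hconj e3 h
        calc t * (q * e) = (t * q * t⁻¹) * (t * e * t⁻¹) * t := by group
          _ = (e3 * q) * e2 * t := by rw [h1, hte]
          _ = q * (e3 * e2) * t := by rw [← hce3 q hq]; group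
          _ = q * e * t := by rw [h32]
      · rw [mul_assoc, hee, mul_one]
  -- `u t u⁻¹ ∈ W t⁻¹`
  have hw1 : ∃ w₁ ∈ W, u * t * u⁻¹ = w₁ * t⁻¹ := by
    obtain ⟨q₀, hq₀, w, hw, hqw⟩ := hdecomp _ hut
    have hq₀' := (hQ₀ q₀).1 hq₀
    have hx : u * t * u⁻¹ = q₀ * (w * t⁻¹) := by
      calc u * t * u⁻¹ = (u * t * u⁻¹ * t) * t⁻¹ := by group
        _ = q₀ * (w * t⁻¹) := by rw [hqw]; group
    have hcube : (u * t * u⁻¹) ^ 3 = 1 := by
      rw [conj_pow, ht3p, mul_one, mul_inv_cancel]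
    have hcomm : Commute q₀ (w * t⁻¹) := by
      have h1 : w * q₀ = q₀ * w := hWc w hw q₀ hq₀'.1
      have h2' : t⁻¹ * q₀ = q₀ * t⁻¹ := by
        calc t⁻¹ * q₀ = t⁻¹ * (q₀ * t) * t⁻¹ := by group
          _ = t⁻¹ * (t * q₀) * t⁻¹ := by rw [hq₀'.2]
          _ = q₀ * t⁻¹ := by group
      show q₀ * (w * t⁻¹) = (w * t⁻¹) * q₀
      calc q₀ * (w * t⁻¹) = (q₀ * w) * t⁻¹ := by group
        _ = w * (q₀ * t⁻¹) := by rw [← h1]; group
        _ = w * t⁻¹ * q₀ := by rw [← h2']; group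
    have hx3 : (w * t⁻¹) ^ 3 ∈ W := by
      have e1 : (w * t⁻¹) ^ 3 = w * (t⁻¹ * w * t) * (t⁻¹ * (t⁻¹ * w * t) * t) * (t * t * t)⁻¹ := by
        rw [pow_succ, pow_two]; group
      rw [e1, ht3, inv_one, mul_one]
      exact W.mul_mem (W.mul_mem hw (htW' w hw)) (htW' _ (htW' w hw))
    have hq3 : q₀ ^ 3 * (w * t⁻¹) ^ 3 = 1 := by
      rw [← hcomm.mul_pow, ← hx]; exact hcube
    have hq3W : q₀ ^ 3 ∈ W := by
      have e1 : q₀ ^ 3 = ((w * t⁻¹) ^ 3)⁻¹ := eq_inv_of_mul_eq_one_left hq3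
      rw [e1]; exact W.inv_mem hx3
    have hq3' : q₀ ^ 3 = 1 := by
      have h1 : q₀ ^ 3 ∈ Q₀ ⊓ W := ⟨Q₀.pow_mem hq₀ 3, hq3W⟩
      rw [hQ₀W, Subgroup.mem_bot] at h1
      exact h1
    have hq1 : q₀ = 1 := eq_one_of_pow_three h2 hq₀'.1 hq3'
    exact ⟨w, hw, by rw [hx, hq1, one_mul]⟩
  obtain ⟨w₁, hw₁, hutw⟩ := hw1
  -- `u` centralizes `Q₀`
  have huQ0 : ∀ q ∈ Q₀, u * q = q * u := by
    intro q hq
    have hq' := (hQ₀ q).1 hq
    have hq1 : u * q * u⁻¹ ∈ Q := hnQ u huY q hq'.1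
    have h1 : (u * q * u⁻¹) * (w₁ * t⁻¹) = (w₁ * t⁻¹) * (u * q * u⁻¹) := by
      rw [← hutw]
      calc (u * q * u⁻¹) * (u * t * u⁻¹) = u * (q * t) * u⁻¹ := by group
        _ = u * (t * q) * u⁻¹ := by rw [hq'.2]
        _ = (u * t * u⁻¹) * (u * q * u⁻¹) := by group
    have h2' : w₁ * (u * q * u⁻¹) = (u * q * u⁻¹) * w₁ := hWc w₁ hw₁ _ hq1
    have h4 : (u * q * u⁻¹) * t⁻¹ = t⁻¹ * (u * q * u⁻¹) := by
      calc (u * q * u⁻¹) * t⁻¹ = w₁⁻¹ * (w₁ * (u * q * u⁻¹)) * t⁻¹ := by group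
        _ = w₁⁻¹ * ((u * q * u⁻¹) * w₁) * t⁻¹ := by rw [h2']
        _ = w₁⁻¹ * ((u * q * u⁻¹) * (w₁ * t⁻¹)) := by group
        _ = w₁⁻¹ * ((w₁ * t⁻¹) * (u * q * u⁻¹)) := by rw [h1]
        _ = t⁻¹ * (u * q * u⁻¹) := by group
    have h3 : t * (u * q * u⁻¹) = (u * q * u⁻¹) * t := by
      calc t * (u * q * u⁻¹) = t * ((u * q * u⁻¹) * t⁻¹) * t := by group
        _ = t * (t⁻¹ * (u * q * u⁻¹)) * t := by rw [h4]
        _ = (u * q * u⁻¹) * t := by group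
    have h5 : u * q * u⁻¹ ∈ Q₀ := (hQ₀ _).2 ⟨hq1, h3⟩
    have h6 : q * u * q⁻¹ * u⁻¹ ∈ Q₀ := by
      have e1 : q * u * q⁻¹ * u⁻¹ = q * (u * q * u⁻¹)⁻¹ := by group
      rw [e1]
      exact Q₀.mul_mem hq (Q₀.inv_mem h5)
    rcases hc q hq'.1 with h | h
    · calc u * q = (q * u * q⁻¹ * u⁻¹)⁻¹ * (q * u) := by group
        _ = q * u := by rw [h, inv_one, one_mul]
    · exfalso
      rw [h] at h6
      have h7 : e ∈ Q₀ ⊓ W := ⟨h6, heW⟩
      rw [hQ₀W, Subgroup.mem_bot] at h7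
      exact hne h7
  -- the subgroups `T` and `X`
  obtain ⟨T, hT⟩ : ∃ T : Subgroup G, T = W ⊔ Subgroup.zpowers t := ⟨_, rfl⟩
  obtain ⟨X, hX⟩ : ∃ X : Subgroup G, X = T ⊔ Subgroup.zpowers u := ⟨_, rfl⟩
  have hWT : W ≤ T := by rw [hT]; exact le_sup_left
  have hTX : T ≤ X := by rw [hX]; exact le_sup_left
  have huX : u ∈ X := by
    rw [hX]; exact (le_sup_right : Subgroup.zpowers u ≤ T ⊔ Subgroup.zpowers u)
      (Subgroup.mem_zpowers u)
  have hTset : ∀ x ∈ T, ∃ w ∈ W, ∃ z ∈ Subgroup.zpowers t, x = w * z := by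
    intro x hx
    have hx' : x ∈ ((W ⊔ Subgroup.zpowers t : Subgroup G) : Set G) := by rw [← hT]; exact hx
    rw [Subgroup.coe_mul_of_right_le_normalizer_left W (Subgroup.zpowers t) hzt] at hx'
    obtain ⟨w, hw, z, hz, rfl⟩ := hx'
    exact ⟨w, hw, z, hz, rfl⟩
  have huT : ∀ x ∈ T, u * x * u⁻¹ ∈ T := by
    have hle : T ≤ T.comap (MulAut.conj u).toMonoidHom := by
      have hle' : W ⊔ Subgroup.zpowers t ≤ T.comap (MulAut.conj u).toMonoidHom := by
        apply sup_le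
        · intro w hw
          show u * w * u⁻¹ ∈ T
          exact hWT (huW w hw)
        · rw [Subgroup.zpowers_le]
          show u * t * u⁻¹ ∈ T
          rw [hutw, hT]
          exact Subgroup.mul_mem _ ((le_sup_left : W ≤ W ⊔ Subgroup.zpowers t) hw₁)
            (Subgroup.inv_mem _ ((le_sup_right : Subgroup.zpowers t ≤ W ⊔ Subgroup.zpowers t)
              (Subgroup.mem_zpowers t)))
      rw [← hT] at hle'
      exact hle'
    intro x hx
    exact hle hx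
  have huT' : ∀ x ∈ T, u⁻¹ * x * u ∈ T := by
    intro x hx
    have h1 := huT x hx
    rw [uinv] at h1 ⊢
    exact h1
  have huNT : u ∈ Subgroup.normalizer (T : Set G) := mem_normalizer_of_conj huT huT'
  have hzuT : Subgroup.zpowers u ≤ Subgroup.normalizer (T : Set G) := Subgroup.zpowers_le.2 huNT
  have hXset : ∀ x ∈ X, ∃ a ∈ T, ∃ z ∈ Subgroup.zpowers u, x = a * z := by
    intro x hx
    have hx' : x ∈ ((T ⊔ Subgroup.zpowers u : Subgroup G) : Set G) := by rw [← hX]; exact hx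
    rw [Subgroup.coe_mul_of_right_le_normalizer_left T (Subgroup.zpowers u) hzuT] at hx'
    obtain ⟨a, ha, z, hz, rfl⟩ := hx'
    exact ⟨a, ha, z, hz, rfl⟩
  have hzcube : ∀ z ∈ Subgroup.zpowers t, z * z * z = 1 := by
    intro z hz
    rcases hzt3 z hz with h | h | h <;> rw [h]
    · rw [one_mul, one_mul]
    · exact ht3
    · have e1 : t⁻¹ * t⁻¹ * t⁻¹ = (t * t * t)⁻¹ := by group
      rw [e1, ht3, inv_one]
  have hQcube : ∀ z ∈ Subgroup.zpowers t, ∀ q ∈ Q, (z * q) * (z * q) * (z * q) ∈ Q := by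
    intro z hz q hq
    have hzY : z ∈ Y := (Subgroup.zpowers_le.2 htY) hz
    have e1 : (z * q) * (z * q) * (z * q)
        = (z * q * z⁻¹) * (z * (z * q * z⁻¹) * z⁻¹) * (z * z * z) * q := by group
    rw [e1, hzcube z hz, mul_one]
    exact Q.mul_mem (Q.mul_mem (hnQ z hzY q hq) (hnQ z hzY _ (hnQ z hzY q hq))) hq
  have huuu : u * u * u = u := by rw [hu2, one_mul]
  have hXQ : ∀ x ∈ X, x ∈ Q → x ∈ W := by
    intro x hx hxQ
    obtain ⟨a, ha, z, hz, rfl⟩ := hXset x hx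
    obtain ⟨w, hw, s, hs, rfl⟩ := hTset a ha
    rcases hzu2 z hz with h | h
    · rw [h, mul_one] at hxQ ⊢
      have hsQ : s ∈ Q := by
        have e1 : s = w⁻¹ * (w * s) := by group
        rw [e1]
        exact Q.mul_mem (Q.inv_mem (hWQ hw)) hxQ
      have hs1 : s = 1 :=
        eq_one_of_pow_three h2 hsQ (by rw [pow_succ, pow_two]; exact hzcube s hs)
      rw [hs1, mul_one]
      exact hw
    · exfalso
      rw [h] at hxQ
      apply huQ
      have hq : s * u ∈ Q := by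
        have e1 : s * u = w⁻¹ * (w * s * u) := by group
        rw [e1]
        exact Q.mul_mem (Q.inv_mem (hWQ hw)) hxQ
      have hcube := hQcube s⁻¹ (Subgroup.inv_mem _ hs) (s * u) hq
      have e1 : s⁻¹ * (s * u) = u := by group
      rw [e1, huuu] at hcube
      exact hcube
  have hXQ₀ : X ⊓ Q₀ = ⊥ := by
    rw [Subgroup.eq_bot_iff_forall]
    intro x hx
    obtain ⟨hxX, hxQ0⟩ := Subgroup.mem_inf.1 hx
    have hxW := hXQ x hxX (hQ₀Q hxQ0)
    have h1 : x ∈ Q₀ ⊓ W := ⟨hxQ0, hxW⟩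
    rw [hQ₀W, Subgroup.mem_bot] at h1
    exact h1
  have hXcent : ∀ x ∈ X, ∀ q ∈ Q₀, x * q = q * x := by
    have hle : X ≤ Subgroup.centralizer (Q₀ : Set G) := by
      rw [hX, hT]
      refine sup_le (sup_le ?_ ?_) ?_
      · intro w hw
        rw [Subgroup.mem_centralizer_iff]
        intro q hq
        exact (hWc w hw q (hQ₀Q hq)).symm
      · rw [Subgroup.zpowers_le, Subgroup.mem_centralizer_iff]
        intro q hq
        exact (((hQ₀ q).1 hq).2).symm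
      · rw [Subgroup.zpowers_le, Subgroup.mem_centralizer_iff]
        intro q hq
        exact (huQ0 q hq).symm
    intro x hx q hq
    exact ((Subgroup.mem_centralizer_iff.1 (hle hx)) q hq).symm
  -- centralizer of `W` in `X`
  have hCX : ∀ x ∈ X, (∀ w ∈ W, x * w = w * x) → x ∈ W := by
    intro x hx hcx
    obtain ⟨a, ha, z, hz, rfl⟩ := hXset x hx
    obtain ⟨w0, hw0, s, hs, rfl⟩ := hTset a ha
    have hze : z * e = e * z := by
      rcases hzu2 z hz with h | h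
      · rw [h, one_mul, mul_one]
      · rw [h]
        calc u * e = (u * e * u⁻¹) * u := by group
          _ = e * u := by rw [hue]
    have hse : s * e * s⁻¹ = e := by
      have h1 := hcx e heW
      have h2' : w0 * e = e * w0 := hWc w0 hw0 e he
      calc s * e * s⁻¹ = w0⁻¹ * (w0 * s * (e * z)) * z⁻¹ * s⁻¹ := by group
        _ = w0⁻¹ * (w0 * s * (z * e)) * z⁻¹ * s⁻¹ := by rw [hze]
        _ = w0⁻¹ * (w0 * s * z * e) * z⁻¹ * s⁻¹ := by group
        _ = w0⁻¹ * (e * (w0 * s * z)) * z⁻¹ * s⁻¹ := by rw [h1]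
        _ = w0⁻¹ * (e * w0) * (s * z * z⁻¹ * s⁻¹) := by group
        _ = w0⁻¹ * (w0 * e) * (s * z * z⁻¹ * s⁻¹) := by rw [h2']
        _ = e := by group
    have hs1 : s = 1 := by
      rcases hzt3 s hs with h | h | h
      · exact h
      · exfalso; rw [h, hte] at hse; exact hne_e_e2 hse.symm
      · exfalso; rw [h, inv_inv, hte'] at hse; exact hne_e_e3 hse.symm
    have hz1 : z = 1 := by
      rcases hzu2 z hz with h | h
      · exact h
      · exfalso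
        have h1 := hcx e2 he2W
        rw [hs1, h, mul_one] at h1
        have h2' : w0 * e2 = e2 * w0 := hWc w0 hw0 e2 he2
        have h3 : u * e2 * u⁻¹ = e2 := by
          calc u * e2 * u⁻¹ = w0⁻¹ * (w0 * u * e2) * u⁻¹ := by group
            _ = w0⁻¹ * (e2 * (w0 * u)) * u⁻¹ := by rw [h1]
            _ = w0⁻¹ * (e2 * w0) := by group
            _ = w0⁻¹ * (w0 * e2) := by rw [h2']
            _ = e2 := by group
        rw [hue2] at h3
        exact hne_e2_e3 h3.symm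
    rw [hs1, hz1, mul_one, mul_one]
    exact hw0
  -- cardinalities
  have hWt : W ⊓ Subgroup.zpowers t = ⊥ := by
    rw [Subgroup.eq_bot_iff_forall]
    intro x hx
    obtain ⟨hxW, hxt⟩ := Subgroup.mem_inf.1 hx
    have h1 := hWsq x hxW
    have h3 := hzcube x hxt
    rw [h1, one_mul] at h3
    exact h3
  have hcardT : Nat.card T = 12 := by
    rw [hT, card_sup_of_le_normalizer W (Subgroup.zpowers t) hzt hWt, hWcard, Nat.card_zpowers,
      hot]
  have huT_not : u ∉ T := by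
    intro huT0
    obtain ⟨w, hw, s, hs, hws⟩ := hTset u huT0
    have hsY : s ∈ Y := (Subgroup.zpowers_le.2 htY) hs
    have hq : s⁻¹ * w * s ∈ Q := by
      have h1 := hnQ s⁻¹ (Y.inv_mem hsY) w (hWQ hw)
      rwa [inv_inv] at h1
    have hcube := hQcube s hs _ hq
    have e1 : s * (s⁻¹ * w * s) = u := by rw [hws]; group
    rw [e1, huuu] at hcube
    exact huQ hcube
  have hTu : T ⊓ Subgroup.zpowers u = ⊥ := by
    rw [Subgroup.eq_bot_iff_forall]
    intro x hx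
    obtain ⟨hxT, hxu⟩ := Subgroup.mem_inf.1 hx
    rcases hzu2 x hxu with h | h
    · exact h
    · exfalso; rw [h] at hxT; exact huT_not hxT
  have hcardX : Nat.card X = 24 := by
    rw [hX, card_sup_of_le_normalizer T (Subgroup.zpowers u) hzuT hTu, hcardT, Nat.card_zpowers,
      hou]
  have hQ₀Wsup : Q₀ ⊔ W = Q := by
    apply le_antisymm (sup_le hQ₀Q hWQ)
    intro q hq
    obtain ⟨q₀, hq₀, w, hw, rfl⟩ := hdecomp q hq
    exact Subgroup.mul_mem _ ((le_sup_left : Q₀ ≤ Q₀ ⊔ W) hq₀) ((le_sup_right : W ≤ Q₀ ⊔ W) hw)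
  have hWnQ₀ : W ≤ Subgroup.normalizer (Q₀ : Set G) := by
    refine le_trans ?_ (Subgroup.centralizer_le_normalizer _)
    intro w hw
    rw [Subgroup.mem_centralizer_iff]
    intro q hq
    exact (hWc w hw q (hQ₀Q hq)).symm
  have hcardQ : Nat.card Q = Nat.card Q₀ * 4 := by
    rw [← hQ₀Wsup, card_sup_of_le_normalizer Q₀ W hWnQ₀ hQ₀W, hWcard]
  have hQ₀nX : Q₀ ≤ Subgroup.normalizer (X : Set G) := by
    refine le_trans ?_ (Subgroup.centralizer_le_normalizer _)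
    intro q hq
    rw [Subgroup.mem_centralizer_iff]
    intro x hx
    exact hXcent x hx q hq
  have hXY : X ≤ Y := by
    rw [hX, hT]
    exact sup_le (sup_le (hWQ.trans hQY) (Subgroup.zpowers_le.2 htY)) (Subgroup.zpowers_le.2 huY)
  have hsup : X ⊔ Q₀ = Y := by
    apply Subgroup.eq_of_le_of_card_ge (sup_le hXY (hQ₀Q.trans hQY))
    rw [card_sup_of_le_normalizer X Q₀ hQ₀nX hXQ₀, hcardX, hcard, hcardQ]
    omega
  have hXN : X ≤ Subgroup.normalizer (W : Set G) := by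
    rw [hX, hT]
    exact sup_le (sup_le Subgroup.le_normalizer hzt) (Subgroup.zpowers_le.2 huN)
  have hQ₀N : Q₀ ≤ Subgroup.normalizer (W : Set G) := by
    refine le_trans ?_ (Subgroup.centralizer_le_normalizer _)
    intro q hq
    rw [Subgroup.mem_centralizer_iff]
    intro w hw
    exact hWc w hw q (hQ₀Q hq)
  have hYN : Y ≤ Subgroup.normalizer (W : Set G) := by rw [← hsup]; exact sup_le hXN hQ₀N
  refine ⟨X, Q₀, W, hXY, hQ₀Q, hWQ, hWT.trans hTX, huX, heW, hXQ₀, hsup, hXcent, hcardX, hWcard,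
    nrm_of_le_normalizer hXN, hCX, hWc, hWsq, hQ₀Wsup, ?_, nrm_of_le_normalizer hYN⟩
  intro w hw hcomm
  rcases (hW w).1 hw with h | h | h | h
  · exact Or.inl h
  · exact Or.inr h
  · exfalso
    rw [h] at hcomm
    have h1 : u * e2 * u⁻¹ = e2 := by rw [hcomm]; group
    rw [hue2] at h1
    exact hne_e2_e3 h1.symm
  · exfalso
    rw [h] at hcomm
    have h1 : u * e3 * u⁻¹ = e3 := by rw [hcomm]; group
    rw [hue3] at h1
    exact hne_e2_e3 h1

/-- the first half: the configuration exists -/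
theorem config_exists {G : Type u} [Group G] [Finite G] (Y Q : Subgroup G) (u e : G)
    (hQY : Q ≤ Y) (hnQ : ∀ y ∈ Y, ∀ q ∈ Q, y * q * y⁻¹ ∈ Q) (h2 : IsPGroup 2 Q)
    (hcard : Nat.card Y = 6 * Nat.card Q)
    (hCQ : ∀ x ∈ Y, (∀ q ∈ Q, x * q = q * x) → x ∈ Q)
    (huY : u ∈ Y) (huQ : u ∉ Q) (hu2 : u * u = 1) (hne : e ≠ 1) (he : e ∈ Q)
    (hc : ∀ q ∈ Q, q * u * q⁻¹ * u⁻¹ = 1 ∨ q * u * q⁻¹ * u⁻¹ = e)
    (hd : ∀ d ∈ Y, orderOf d = 3 → u * d * u⁻¹ * d ∈ Q) :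
    ∃ e2 e3 t : G, Config Y Q u e e2 e3 t := by
  have f3 : Fact (Nat.Prime 3) := ⟨by norm_num⟩
  have f2 : Fact (Nat.Prime 2) := ⟨by norm_num⟩
  have uinv : u⁻¹ = u := inv_eq_of_mul_eq_one_left hu2
  -- some `q0` with commutator `e`
  have F1 : ∃ q0 ∈ Q, q0 * u * q0⁻¹ * u⁻¹ = e := by
    by_contra hcon
    push Not at hcon
    apply huQ
    apply hCQ u huY
    intro q hq
    have h1 : q * u * q⁻¹ * u⁻¹ = 1 := by
      rcases hc q hq with h | h
      · exact h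
      · exact absurd h (hcon q hq)
    have e1 : u * q = (q * u * q⁻¹ * u⁻¹)⁻¹ * (q * u) := by group
    rw [e1, h1, inv_one, one_mul]
  obtain ⟨q0, hq0, hq0e⟩ := F1
  have hue' : u * e * u⁻¹ = e⁻¹ := by
    rw [← hq0e]
    have e1 : u * (q0 * u * q0⁻¹ * u⁻¹) * u⁻¹ = u * q0 * u⁻¹ * (u * u) * q0⁻¹ * (u * u)⁻¹ := by
      group
    rw [e1, hu2]
    group
  have hee : e * e = 1 := by
    have h1 : e * u * e⁻¹ * u⁻¹ = e * e := by
      have e1 : e * u * e⁻¹ * u⁻¹ = e * (u * e * u⁻¹)⁻¹ := by group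
      rw [e1, hue', inv_inv]
    rcases hc e he with h | h
    · rw [h1] at h; exact h
    · rw [h1] at h
      exact absurd (mul_left_cancel (h.trans (mul_one e).symm)) hne
  have einv : e⁻¹ = e := inv_eq_of_mul_eq_one_left hee
  have hue : u * e * u⁻¹ = e := by rw [hue', einv]
  have hcj : ∀ a ∈ Q, a * e * a⁻¹ = e := by
    intro a ha
    have key : (a * q0) * u * (a * q0)⁻¹ * u⁻¹ =
        a * (q0 * u * q0⁻¹ * u⁻¹) * a⁻¹ * (a * u * a⁻¹ * u⁻¹) := by group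
    rw [hq0e] at key
    have hne' : a * e * a⁻¹ ≠ 1 := by
      intro h
      apply hne
      have e1 : e = a⁻¹ * (a * e * a⁻¹) * a := by group
      rw [e1, h]; group
    rcases hc a ha with h1 | h1
    · rw [h1, mul_one] at key
      rcases hc (a * q0) (Q.mul_mem ha hq0) with h3 | h3
      · rw [h3] at key; exact absurd key.symm hne'
      · rw [h3] at key; exact key.symm
    · rw [h1] at key
      rcases hc (a * q0) (Q.mul_mem ha hq0) with h3 | h3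
      · rw [h3] at key
        have h4 : a * e * a⁻¹ = e⁻¹ := eq_inv_of_mul_eq_one_left key.symm
        rw [h4, einv]
      · rw [h3] at key
        exact absurd (mul_right_cancel (key.symm.trans (one_mul e).symm)) hne'
  have hce : ∀ q ∈ Q, q * e = e * q := by
    intro q hq
    have e1 : q * e = (q * e * q⁻¹) * q := by group
    rw [e1, hcj q hq]
  have hu_act : ∀ q ∈ Q, u * q * u⁻¹ * q⁻¹ = 1 ∨ u * q * u⁻¹ * q⁻¹ = e := by
    intro q hq
    have e1 : u * q * u⁻¹ * q⁻¹ = (q * u * q⁻¹ * u⁻¹)⁻¹ := by group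
    rcases hc q hq with h | h
    · left; rw [e1, h, inv_one]
    · right; rw [e1, h, einv]
  -- an element of order three
  have h3Y : 3 ∣ Nat.card Y := by rw [hcard]; exact ⟨2 * Nat.card Q, by ring⟩
  obtain ⟨dd, hdd⟩ := exists_prime_orderOf_dvd_card' (G := ↥Y) 3 h3Y
  obtain ⟨d, hd_def⟩ : ∃ d : G, d = (dd : G) := ⟨_, rfl⟩
  have hdY : d ∈ Y := by rw [hd_def]; exact dd.2
  have hod : orderOf d = 3 := by rw [hd_def, Subgroup.orderOf_coe]; exact hdd
  have hd3 : d ^ 3 = 1 := by rw [← hod]; exact pow_orderOf_eq_one d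
  have hddd : d * d * d = 1 := by rw [← hd3, pow_succ, pow_two]
  have hd1 : d ≠ 1 := by
    intro h; rw [h, orderOf_one] at hod; norm_num at hod
  have hdQ : d ∉ Q := fun h => hd1 (eq_one_of_pow_three h2 h hd3)
  have hdiY : d⁻¹ ∈ Y := Y.inv_mem hdY
  obtain ⟨e2, he2d⟩ : ∃ e2 : G, e2 = d * e * d⁻¹ := ⟨_, rfl⟩
  obtain ⟨e3, he3d⟩ : ∃ e3 : G, e3 = d⁻¹ * e * d := ⟨_, rfl⟩
  have hconjd : ∀ q ∈ Q, d⁻¹ * q * d ∈ Q := by
    intro q hq
    have h1 := hnQ d⁻¹ hdiY q hq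
    rwa [inv_inv] at h1
  have he2 : e2 ∈ Q := by rw [he2d]; exact hnQ d hdY e he
  have he3 : e3 ∈ Q := by rw [he3d]; exact hconjd e he
  have hce2 : ∀ q ∈ Q, q * e2 = e2 * q := by
    intro q hq
    have h1 := hce (d⁻¹ * q * d) (hconjd q hq)
    rw [he2d]
    have e1 : q * (d * e * d⁻¹) = d * ((d⁻¹ * q * d) * e) * d⁻¹ := by group
    rw [e1, h1]; group
  have hce3 : ∀ q ∈ Q, q * e3 = e3 * q := by
    intro q hq
    have h1 := hce (d * q * d⁻¹) (hnQ d hdY q hq)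
    rw [he3d]
    have e1 : q * (d⁻¹ * e * d) = d⁻¹ * ((d * q * d⁻¹) * e) * d := by group
    rw [e1, h1]; group
  have he2e2 : e2 * e2 = 1 := by
    rw [he2d]
    have e1 : d * e * d⁻¹ * (d * e * d⁻¹) = d * (e * e) * d⁻¹ := by group
    rw [e1, hee]; group
  have he3e3 : e3 * e3 = 1 := by
    rw [he3d]
    have e1 : d⁻¹ * e * d * (d⁻¹ * e * d) = d⁻¹ * (e * e) * d := by group
    rw [e1, hee]; group
  have hne2 : e2 ≠ 1 := by
    intro h
    apply hne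
    have e1 : e = d⁻¹ * e2 * d := by rw [he2d]; group
    rw [e1, h]; group
  have hne3 : e3 ≠ 1 := by
    intro h
    apply hne
    have e1 : e = d * e3 * d⁻¹ := by rw [he3d]; group
    rw [e1, h]; group
  have e2inv : e2⁻¹ = e2 := inv_eq_of_mul_eq_one_left he2e2
  have e3inv : e3⁻¹ = e3 := inv_eq_of_mul_eq_one_left he3e3
  have hde : d * e * d⁻¹ = e2 := he2d.symm
  have hde2 : d * e2 * d⁻¹ = e3 := by
    rw [he2d, he3d]
    have e1 : d * (d * e * d⁻¹) * d⁻¹ = (d * d * d) * (d⁻¹ * e * d) * (d * d * d)⁻¹ := by group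
    rw [e1, hddd]; group
  have hde3 : d * e3 * d⁻¹ = e := by rw [he3d]; group
  have hde' : d⁻¹ * e * d = e3 := he3d.symm
  have hde2' : d⁻¹ * e2 * d = e := by rw [he2d]; group
  have hde3' : d⁻¹ * e3 * d = e2 := by
    rw [he2d, he3d]
    have e1 : d⁻¹ * (d⁻¹ * e * d) * d = (d * d * d)⁻¹ * (d * e * d⁻¹) * (d * d * d) := by group
    rw [e1, hddd]; group
  obtain ⟨q', hq'd⟩ : ∃ q' : G, q' = u * d * u⁻¹ * d := ⟨_, rfl⟩
  have hq' : q' ∈ Q := by rw [hq'd]; exact hd d hdY hod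
  have hue2 : u * e2 * u⁻¹ = e3 := by
    have e1 : u * e2 * u⁻¹ =
        (u * d * u⁻¹ * d) * (d⁻¹ * (u * e * u⁻¹) * d) * (u * d * u⁻¹ * d)⁻¹ := by
      rw [he2d]; group
    rw [e1, hue, ← hq'd, ← he3d, hce3 q' hq']; group
  have hue3 : u * e3 * u⁻¹ = e2 := by
    have e1 : u * e3 * u⁻¹ = (u * u) * e2 * (u * u)⁻¹ := by rw [← hue2]; group
    rw [e1, hu2]; group
  obtain ⟨m, hm_def⟩ : ∃ m : G, m = u * (d * u * d⁻¹) := ⟨_, rfl⟩
  have hmY : m ∈ Y := by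
    rw [hm_def]; exact Y.mul_mem huY (Y.mul_mem (Y.mul_mem hdY huY) hdiY)
  have hm_eq : m = q' * d := by
    rw [hm_def, hq'd]
    have e1 : u * (d * u * d⁻¹) =
        (u * d * u⁻¹ * d) * d⁻¹ * (u * u) * ((d * d * d)⁻¹ * d * d) := by group
    rw [e1, hu2, hddd]; group
  have hmd : m * d⁻¹ = q' := by rw [hm_eq]; group
  -- `e2 * e3 = e`
  have h23 : e2 * e3 = e := by
    have h1 : e2 * u * e2⁻¹ * u⁻¹ = e2 * e3 := by
      have e1 : e2 * u * e2⁻¹ * u⁻¹ = e2 * (u * e2 * u⁻¹)⁻¹ := by group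
      rw [e1, hue2, e3inv]
    rcases hc e2 he2 with h | h
    · exfalso
      rw [h1] at h
      have h23eq : e2 = e3 := by
        have h5 := eq_inv_of_mul_eq_one_left h
        rw [e3inv] at h5; exact h5
      have a3 : e3 = e := by rw [← hde2, h23eq, hde3]
      have hde_c : d * e * d⁻¹ = e := by rw [hde, h23eq, a3]
      have hde_c' : d⁻¹ * e * d = e := by rw [hde', a3]
      have hu'_act : ∀ q ∈ Q, (d * u * d⁻¹) * q * (d * u * d⁻¹)⁻¹ * q⁻¹ = 1 ∨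
          (d * u * d⁻¹) * q * (d * u * d⁻¹)⁻¹ * q⁻¹ = e := by
        intro q hq
        have e1 : (d * u * d⁻¹) * q * (d * u * d⁻¹)⁻¹ * q⁻¹ =
            d * (u * (d⁻¹ * q * d) * u⁻¹ * (d⁻¹ * q * d)⁻¹) * d⁻¹ := by group
        rcases hu_act _ (hconjd q hq) with h | h
        · left; rw [e1, h]; group
        · right; rw [e1, h, hde_c]
      have hm_act : ∀ q ∈ Q, m * q * m⁻¹ * q⁻¹ = 1 ∨ m * q * m⁻¹ * q⁻¹ = e := by
        intro q hq
        have e1 : m * q * m⁻¹ * q⁻¹ =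
            u * ((d * u * d⁻¹) * q * (d * u * d⁻¹)⁻¹ * q⁻¹) * u⁻¹ * (u * q * u⁻¹ * q⁻¹) := by
          rw [hm_def]; group
        rcases hu'_act q hq with h | h <;> rcases hu_act q hq with h' | h'
        · left; rw [e1, h, h']; group
        · right; rw [e1, h, h']; group
        · right; rw [e1, h, h', hue, mul_one]
        · left; rw [e1, h, h', hue, hee]
      have hme : m * e * m⁻¹ = e := by
        have e1 : m * e * m⁻¹ = u * (d * (u * (d⁻¹ * e * d) * u⁻¹) * d⁻¹) * u⁻¹ := by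
          rw [hm_def]; group
        rw [e1, hde_c', hue, hde_c, hue]
      have hmm : m * m ∈ Q := by
        apply hCQ _ (Y.mul_mem hmY hmY)
        intro q hq
        have e1 : (m * m) * q =
            (m * (m * q * m⁻¹ * q⁻¹) * m⁻¹) * (m * q * m⁻¹ * q⁻¹) * q * (m * m) := by group
        rcases hm_act q hq with h | h
        · rw [e1, h]; group
        · rw [e1, h, hme, hee, one_mul]
      have hddQ : d * d ∈ Q := by
        have e1 : d * d = (q' * (d * q' * d⁻¹))⁻¹ * ((q' * d) * (q' * d)) := by group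
        rw [e1, ← hm_eq]
        exact Q.mul_mem (Q.inv_mem (Q.mul_mem hq' (hnQ d hdY q' hq'))) hmm
      have hdinv : d * d = d⁻¹ := eq_inv_of_mul_eq_one_left hddd
      rw [hdinv] at hddQ
      exact hdQ (by simpa using Q.inv_mem hddQ)
    · rw [h1] at h; exact h
  have h32 : e3 * e2 = e := by rw [← hce3 e2 he2]; exact h23
  -- the four-group
  obtain ⟨W, hW⟩ := exists_W e e2 e3 hee he2e2 he3e3 h23 h32
  have heW : e ∈ W := (hW e).2 (Or.inr (Or.inl rfl))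
  have he2W : e2 ∈ W := (hW e2).2 (Or.inr (Or.inr (Or.inl rfl)))
  have he3W : e3 ∈ W := (hW e3).2 (Or.inr (Or.inr (Or.inr rfl)))
  have huW : ∀ w ∈ W, u * w * u⁻¹ ∈ W := by
    intro w hw
    rcases (hW w).1 hw with h | h | h | h <;> rw [h]
    · have e1 : u * 1 * u⁻¹ = 1 := by group
      rw [e1]; exact W.one_mem
    · rw [hue]; exact heW
    · rw [hue2]; exact he3W
    · rw [hue3]; exact he2W
  have hdW : ∀ w ∈ W, d * w * d⁻¹ ∈ W := by
    intro w hw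
    rcases (hW w).1 hw with h | h | h | h <;> rw [h]
    · have e1 : d * 1 * d⁻¹ = 1 := by group
      rw [e1]; exact W.one_mem
    · rw [hde]; exact he2W
    · rw [hde2]; exact he3W
    · rw [hde3]; exact heW
  have hdW' : ∀ w ∈ W, d⁻¹ * w * d ∈ W := by
    intro w hw
    rcases (hW w).1 hw with h | h | h | h <;> rw [h]
    · have e1 : d⁻¹ * 1 * d = 1 := by group
      rw [e1]; exact W.one_mem
    · rw [hde']; exact he3W
    · rw [hde2']; exact heW
    · rw [hde3']; exact he2W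
  have hmW : ∀ w ∈ W, m * w * m⁻¹ ∈ W := by
    intro w hw
    have e1 : m * w * m⁻¹ = u * (d * (u * (d⁻¹ * w * d) * u⁻¹) * d⁻¹) * u⁻¹ := by
      rw [hm_def]; group
    rw [e1]
    exact huW _ (hdW _ (huW _ (hdW' _ hw)))
  have hm_actW : ∀ q ∈ Q, m * q * m⁻¹ * q⁻¹ ∈ W := by
    intro q hq
    have e1 : m * q * m⁻¹ * q⁻¹ =
        u * (d * (u * (d⁻¹ * q * d) * u⁻¹ * (d⁻¹ * q * d)⁻¹) * d⁻¹) * u⁻¹ *
          (u * q * u⁻¹ * q⁻¹) := by
      rw [hm_def]; group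
    rw [e1]
    have hA : u * (d⁻¹ * q * d) * u⁻¹ * (d⁻¹ * q * d)⁻¹ ∈ W := by
      rcases hu_act _ (hconjd q hq) with h | h <;> rw [h]
      exacts [W.one_mem, heW]
    have hB : u * q * u⁻¹ * q⁻¹ ∈ W := by
      rcases hu_act q hq with h | h <;> rw [h]
      exacts [W.one_mem, heW]
    exact W.mul_mem (huW _ (hdW _ hA)) hB
  have hpow : ∀ k : ℕ, (∀ q ∈ Q, m ^ k * q * (m ^ k)⁻¹ * q⁻¹ ∈ W) ∧
      (∀ w ∈ W, m ^ k * w * (m ^ k)⁻¹ ∈ W) ∧ m ^ k * (d ^ k)⁻¹ ∈ Q ∧ m ^ k ∈ Y := by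
    intro k
    induction k with
    | zero =>
      refine ⟨?_, ?_, ?_, ?_⟩
      · intro q hq
        simp only [pow_zero, one_mul, inv_one, mul_one, mul_inv_cancel]
        exact W.one_mem
      · intro w hw
        simp only [pow_zero, one_mul, inv_one, mul_one]
        exact hw
      · simp only [pow_zero, inv_one, mul_one]
        exact Q.one_mem
      · simp only [pow_zero]
        exact Y.one_mem
    | succ k ih =>
      obtain ⟨ih1, ih2, ih3, ih4⟩ := ih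
      refine ⟨?_, ?_, ?_, ?_⟩
      · intro q hq
        have e1 : m ^ (k + 1) * q * (m ^ (k + 1))⁻¹ * q⁻¹ =
            m * (m ^ k * q * (m ^ k)⁻¹ * q⁻¹) * m⁻¹ * (m * q * m⁻¹ * q⁻¹) := by
          rw [pow_succ']; generalize m ^ k = mk; group
        rw [e1]
        exact W.mul_mem (hmW _ (ih1 q hq)) (hm_actW q hq)
      · intro w hw
        have e1 : m ^ (k + 1) * w * (m ^ (k + 1))⁻¹ = m * (m ^ k * w * (m ^ k)⁻¹) * m⁻¹ := by
          rw [pow_succ']; generalize m ^ k = mk; group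
        rw [e1]
        exact hmW _ (ih2 w hw)
      · have e1 : m ^ (k + 1) * (d ^ (k + 1))⁻¹ =
            (m ^ k * (m * d⁻¹) * (m ^ k)⁻¹) * (m ^ k * (d ^ k)⁻¹) := by
          rw [pow_succ, pow_succ]; generalize m ^ k = mk; generalize d ^ k = dk; group
        rw [e1, hmd]
        exact Q.mul_mem (hnQ _ ih4 q' hq') ih3
      · rw [pow_succ]; exact Y.mul_mem ih4 hmY
  -- the element `t`
  obtain ⟨n, hn⟩ := (IsPGroup.iff_card (p := 2) (G := ↥Q)).1 h2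
  obtain ⟨N, hN⟩ : ∃ N : ℕ, N = Nat.card Q := ⟨_, rfl⟩
  have hNN : (N * N) % 3 = 1 := by
    rw [hN, hn, ← mul_pow, Nat.pow_mod]; norm_num
  obtain ⟨t, ht_def⟩ : ∃ t : G, t = m ^ (N * N) := ⟨_, rfl⟩
  have hdNN : d ^ (N * N) = d := by
    rw [← pow_mod_orderOf, hod, hNN, pow_one]
  obtain ⟨hp1, hp2, hp3, hp4⟩ := hpow (N * N)
  rw [← ht_def] at hp1 hp2 hp3 hp4
  rw [hdNN] at hp3
  obtain ⟨q'', hq''d⟩ : ∃ q'' : G, q'' = t * d⁻¹ := ⟨_, rfl⟩
  have hq'' : q'' ∈ Q := by rw [hq''d]; exact hp3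
  have ht_eq : t = q'' * d := by rw [hq''d]; group
  have htY : t ∈ Y := hp4
  have htQ : t ∉ Q := by
    intro h
    apply hdQ
    have e1 : d = (t * d⁻¹)⁻¹ * t := by group
    rw [e1]
    exact Q.mul_mem (Q.inv_mem hp3) h
  have hm3 : m ^ 3 ∈ Q := by
    have h1 := (hpow 3).2.2.1
    rwa [hd3, inv_one, mul_one] at h1
  have hm3N : (m ^ 3) ^ N = 1 := by
    have h1 : (⟨m ^ 3, hm3⟩ : ↥Q) ^ Nat.card ↥Q = 1 := pow_card_eq_one'
    have h2' : (m ^ 3) ^ Nat.card ↥Q = 1 := congrArg Subtype.val h1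
    rw [hN]; exact h2'
  have ht3p : t ^ 3 = 1 := by
    rw [ht_def]
    have e1 : (m ^ (N * N)) ^ 3 = ((m ^ 3) ^ N) ^ N := by
      simp only [← pow_mul]; congr 1; ring
    rw [e1, hm3N, one_pow]
  have ht3 : t * t * t = 1 := by rw [← ht3p, pow_succ, pow_two]
  have hcjQ : ∀ (x : G), (∀ q ∈ Q, q * x = x * q) → ∀ q ∈ Q, q * x * q⁻¹ = x := by
    intro x hx q hq
    rw [hx q hq]; group
  have hte : t * e * t⁻¹ = e2 := by
    have e1 : t * e * t⁻¹ = q'' * (d * e * d⁻¹) * q''⁻¹ := by rw [ht_eq]; group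
    rw [e1, hde]
    exact hcjQ e2 hce2 q'' hq''
  have hte2 : t * e2 * t⁻¹ = e3 := by
    have e1 : t * e2 * t⁻¹ = q'' * (d * e2 * d⁻¹) * q''⁻¹ := by rw [ht_eq]; group
    rw [e1, hde2]
    exact hcjQ e3 hce3 q'' hq''
  have hte3 : t * e3 * t⁻¹ = e := by
    have e1 : t * e3 * t⁻¹ = q'' * (d * e3 * d⁻¹) * q''⁻¹ := by rw [ht_eq]; group
    rw [e1, hde3]
    exact hcjQ e hce q'' hq''
  have ht1 : t ≠ 1 := fun h => htQ (by rw [h]; exact Q.one_mem)
  have hot : orderOf t = 3 := orderOf_eq_prime ht3p ht1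
  have hut : u * t * u⁻¹ * t ∈ Q := hd t htY hot
  have htq : ∀ q ∈ Q, t * q * t⁻¹ * q⁻¹ = 1 ∨ t * q * t⁻¹ * q⁻¹ = e ∨ t * q * t⁻¹ * q⁻¹ = e2 ∨
      t * q * t⁻¹ * q⁻¹ = e3 := fun q hq => (hW _).1 (hp1 q hq)
  exact ⟨e2, e3, t, ⟨he2, he3, hce, hce2, hce3, hee, he2e2, he3e3, h23, hne2, hne3, hue, hue2,
    htY, ht3, htQ, hte, hte2, hte3, htq, hut⟩⟩

/-- **S3685 / DEC** -/
theorem main : StDEC.{u} := by
  intro G _ _ Y Q u e hQY hNrm h2 hcard hCQ huY huQ hu2 hne he hc hd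
  have hnQ : ∀ y ∈ Y, ∀ q ∈ Q, y * q * y⁻¹ ∈ Q := by
    intro y hy q hq
    have h1 := conj_mem_conj_smul (g := y) hq
    rwa [hNrm y hy] at h1
  obtain ⟨e2, e3, t, cfg⟩ :=
    config_exists Y Q u e hQY hnQ h2 hcard hCQ huY huQ hu2 hne he hc hd
  exact dec_of_config Y Q u e e2 e3 t hQY hnQ h2 hcard huY huQ hu2 hne he hc cfg

end Cfsg.Agent.Lib.Helper64.SWDEC
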