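import Mathlib
import Cfsg.Prelude.Def_Classical
import Cfsg.Prelude.Def_GeometricClasses
import Cfsg.Agent.Lib.Helper41.EMStmt

/-!
# S5990 / C2FIX (sub-call by helper64): statement pieces, MINUS form

Characteristic 2, standard minus form `Q = Cfsg.quadFormMinus (d - 1) F a₀ b₀` on `M d → F`,
`β = polar Q`, `x` an isometry with `x * x = 1`.  Defs `M NDegM StabM` of `Helper45.OMiStmt`,
`PlusM` of `Helper41.TMTwoStmt`.  These are the MINUS-FORM PORTS of helper59's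
`Cfsg.Agent.Lib.Helper59.C2Stmt` (S5974C): replace `J d` by `M d`, `Cfsg.quadFormPlus d F` by
`Cfsg.quadFormMinus (d - 1) F a₀ b₀`, `NDeg d F` by `NDegM d F a₀ b₀`, `Plus d F` by
`PlusM d F a₀ b₀`, `Stab` by `StabM`, and add `(a₀ b₀ : F)` after `[Fintype F]` (NO `Aniso`
hypothesis: none of the five needs it).  ONE CHANGE: `QuadVanM` asks for a nonzero singular vector
of `A` instead of `Plus A` (in the proof take `U = span {e}`).

Assembly (`Helper64.C2MAsm`): (1) port of `Helper59.C2Asm.claim`: an invariant nondegenerate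
plus-type `A` of finrank `2 a` contains an invariant nondegenerate plus-type `W` of every even
finrank `n ≤ 2 a` with `4 ∣ n` or `a` odd.  (2) an invariant nondegenerate NON-plus `Y` of even
finrank `≥ 2` contains an invariant elliptic plane `W₀` (peel hyperbolic planes / 4-blocks; the
perp stays non-plus by PLUSSUM; `x = 1`: SUBTYPE).  (3) `A = W₀^⊥` is plus of finrank `2 (d - 1)`
(TwoMinusG); `H ≤ A` invariant hyperbolic of finrank `2 d - m` by (1) (`4 ∣ 2d - m` or `d - 1`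
odd); `W = H^⊥` is an invariant elliptic `m`-space.
-/

set_option autoImplicit false

universe u

open scoped Matrix

namespace Cfsg.Agent.Lib.Helper64.C2MStmt

open Cfsg.Agent.Lib.Helper45.OMiStmt (M Aniso FxM NDegM StabM)
open Cfsg.Agent.Lib.Helper41.TMTwoStmt (PlusM)

/-- PLANE0M (any characteristic, no `x`; SMALL; port of `C2Stmt.Plane0`): singular `e`, `f` with
`β(e, f) ≠ 0` span a nondegenerate plus-type plane. -/
def Plane0M : Prop :=
  ∀ (F : Type u) [Field F] [Fintype F] (a₀ b₀ : F) (d : ℕ) (e f : M d → F),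
    Cfsg.quadFormMinus (d - 1) F a₀ b₀ e = 0 → Cfsg.quadFormMinus (d - 1) F a₀ b₀ f = 0 →
    QuadraticMap.polar (Cfsg.quadFormMinus (d - 1) F a₀ b₀) e f ≠ 0 →
    NDegM d F a₀ b₀ (Submodule.span F {e, f}) ∧ PlusM d F a₀ b₀ (Submodule.span F {e, f}) ∧
      Module.finrank F ↥(Submodule.span F {e, f}) = 2

/-- PLUSSUMM (any characteristic; MEDIUM; port of `C2Stmt.PlusSum`): the orthogonal sum of two
plus-type subspaces is of plus type. -/
def PlusSumM : Prop :=
  ∀ (F : Type u) [Field F] [Fintype F] (a₀ b₀ : F) (d : ℕ) (A B : Submodule F (M d → F)),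
    (∀ u ∈ A, ∀ v ∈ B, QuadraticMap.polar (Cfsg.quadFormMinus (d - 1) F a₀ b₀) u v = 0) →
    A ⊓ B = ⊥ →
    PlusM d F a₀ b₀ A → PlusM d F a₀ b₀ B → PlusM d F a₀ b₀ (A ⊔ B)

/-- SINGPAIRM (any characteristic; SMALL; port of `C2Stmt.SingPair`): a nonzero nondegenerate
plus-type subspace contains a hyperbolic pair. -/
def SingPairM : Prop :=
  ∀ (F : Type u) [Field F] [Fintype F] (a₀ b₀ : F) (d : ℕ) (A : Submodule F (M d → F)),
    NDegM d F a₀ b₀ A → PlusM d F a₀ b₀ A → A ≠ ⊥ →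
    ∃ e ∈ A, ∃ f ∈ A, Cfsg.quadFormMinus (d - 1) F a₀ b₀ e = 0 ∧
      Cfsg.quadFormMinus (d - 1) F a₀ b₀ f = 0 ∧
      QuadraticMap.polar (Cfsg.quadFormMinus (d - 1) F a₀ b₀) e f ≠ 0

/-- QUADVANM (char 2; MEDIUM; port of `C2Stmt.QuadVan` with `Plus A`, `A ≠ ⊥` REPLACED by a nonzero
singular vector `e ∈ A`): if `g(w) := β(w, x w)` vanishes on the singular vectors of a
nondegenerate `A` containing a nonzero singular vector, it vanishes on `A`.  (`g` is additive,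
`g(c u) = c² g u`.  If `f ∈ A` has `β(e, f) ≠ 0`: `f + c e` is singular for `c = Q f / β(e, f)`,
so `g f = g (f + c e) + c² g e = 0`.  Otherwise take `f₁ ∈ A` with `β(e, f₁) ≠ 0`:
`β(e, f + f₁) ≠ 0`, `g f = g (f + f₁) + g f₁ = 0`.) -/
def QuadVanM : Prop :=
  ∀ (F : Type u) [Field F] [Fintype F] [CharP F 2] (a₀ b₀ : F) (d : ℕ)
    (x : Matrix.GeneralLinearGroup (M d) F),
    x ∈ Cfsg.isometryGroup F (Cfsg.quadFormMinus (d - 1) F a₀ b₀) →
    (x : Matrix (M d) (M d) F) * (x : Matrix (M d) (M d) F) = 1 →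
    ∀ A : Submodule F (M d → F), NDegM d F a₀ b₀ A →
    (∃ e ∈ A, e ≠ 0 ∧ Cfsg.quadFormMinus (d - 1) F a₀ b₀ e = 0) →
    (∀ w ∈ A, Cfsg.quadFormMinus (d - 1) F a₀ b₀ w = 0 →
      QuadraticMap.polar (Cfsg.quadFormMinus (d - 1) F a₀ b₀) w
        ((x : Matrix (M d) (M d) F) *ᵥ w) = 0) →
    ∀ u ∈ A, QuadraticMap.polar (Cfsg.quadFormMinus (d - 1) F a₀ b₀) u
      ((x : Matrix (M d) (M d) F) *ᵥ u) = 0

/-- BLOCK4M (char 2; port of `C2Stmt.Block4`; form-free cores: `Helper70.C2BLOCK4.core`,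
`Helper12.C2Blk.peel_four`, `Helper43.C2Core.block4`): `β(a, x a) = 0` on the invariant
nondegenerate `A`, `x u ≠ u`: an invariant nondegenerate plus-type 4-space in `A`. -/
def Block4M : Prop :=
  ∀ (F : Type u) [Field F] [Fintype F] [CharP F 2] (a₀ b₀ : F) (d : ℕ)
    (x : Matrix.GeneralLinearGroup (M d) F),
    x ∈ Cfsg.isometryGroup F (Cfsg.quadFormMinus (d - 1) F a₀ b₀) →
    (x : Matrix (M d) (M d) F) * (x : Matrix (M d) (M d) F) = 1 →
    ∀ A : Submodule F (M d → F), StabM (x : Matrix (M d) (M d) F) A → NDegM d F a₀ b₀ A →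
    (∀ a ∈ A, QuadraticMap.polar (Cfsg.quadFormMinus (d - 1) F a₀ b₀) a
      ((x : Matrix (M d) (M d) F) *ᵥ a) = 0) →
    ∀ u ∈ A, (x : Matrix (M d) (M d) F) *ᵥ u ≠ u →
    ∃ B : Submodule F (M d → F), B ≤ A ∧ StabM (x : Matrix (M d) (M d) F) B ∧ NDegM d F a₀ b₀ B ∧
      PlusM d F a₀ b₀ B ∧ Module.finrank F ↥B = 4

end Cfsg.Agent.Lib.Helper64.C2MStmt
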