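import Cfsg.Agent.Lib.Helper16.BRStmt

/-!
Piece [INV] of S0999/S4701 (helper16's split): an involution of `N_G(P)` outside `P`
inverts `P` when `|P| = p` is odd and `C_G(P) = P`.
-/

set_option autoImplicit false

namespace Cfsg.Agent.Lib.Helper64.BRINV

universe u

theorem main : Cfsg.Agent.Lib.Helper16.BRStmt.InvOfInvol.{u} := by
  intro G _ _ p _ _hp2 P hP hC w hwN hwP hww x hx
  have hwinv : w⁻¹ = w := inv_eq_of_mul_eq_one_left hww
  -- conjugation by w preserves P
  have hconj : ∀ z ∈ (P : Subgroup G), w * z * w⁻¹ ∈ (P : Subgroup G) :=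
    fun z hz => (Subgroup.mem_normalizer_iff.1 hwN z).1 hz
  -- every element of P is a power of any nontrivial element of P
  have hgen : ∀ y ∈ (P : Subgroup G), y ≠ 1 → ∀ z ∈ (P : Subgroup G), ∃ k : ℤ, z = y ^ k := by
    intro y hy hy1 z hz
    have hne : (⟨y, hy⟩ : ↥(P : Subgroup G)) ≠ 1 := fun h => hy1 (congrArg Subtype.val h)
    have hmem : (⟨z, hz⟩ : ↥(P : Subgroup G)) ∈ Subgroup.zpowers (⟨y, hy⟩ : ↥(P : Subgroup G)) :=
      mem_zpowers_of_prime_card hP hne
    obtain ⟨k, hk⟩ := Subgroup.mem_zpowers_iff.1 hmem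
    refine ⟨k, ?_⟩
    have := congrArg Subtype.val hk
    rw [Subgroup.coe_zpow] at this
    exact this.symm
  by_contra hne
  obtain ⟨y, hydef⟩ : ∃ y : G, y = x * (w * x * w⁻¹) := ⟨_, rfl⟩
  have hyP : y ∈ (P : Subgroup G) := by
    rw [hydef]; exact Subgroup.mul_mem _ hx (hconj x hx)
  have hy1 : y ≠ 1 := by
    intro h
    apply hne
    rw [hydef] at h
    exact eq_inv_of_mul_eq_one_right h
  -- P is commutative
  have hcomm : ∀ a ∈ (P : Subgroup G), ∀ b ∈ (P : Subgroup G), a * b = b * a := by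
    intro a ha b hb
    obtain ⟨k, rfl⟩ := hgen y hyP hy1 a ha
    obtain ⟨l, rfl⟩ := hgen y hyP hy1 b hb
    rw [← zpow_add, ← zpow_add, add_comm]
  -- w centralizes y
  have hwy : w * y * w⁻¹ = y := by
    rw [hydef]
    have e : w * (x * (w * x * w⁻¹)) * w⁻¹ = (w * x * w⁻¹) * ((w * w) * x * (w * w)⁻¹) := by
      group
    rw [e, hww, inv_one, one_mul, mul_one]
    exact hcomm _ (hconj x hx) x hx
  -- hence w centralizes P
  apply hwP
  rw [← hC, Subgroup.mem_centralizer_iff]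
  intro z hz
  obtain ⟨k, rfl⟩ := hgen y hyP hy1 z hz
  have hwy' : w * y = y * w := by
    calc w * y = (w * y * w⁻¹) * w := by group
      _ = y * w := by rw [hwy]
  exact ((Commute.zpow_right hwy' k).eq).symm

end Cfsg.Agent.Lib.Helper64.BRINV
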