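import Cfsg.Agent.Lib.Helper16.BRStmt
import Cfsg.Agent.Lib.Helper64.Sylow
import Cfsg.Agent.S1230

/-!
Piece [PJ2] of S0999/S4701 (helper16's split): identification of `PSL(2, 2^m)` from an
involution whose centralizer has order `p - 1` and consists of conjugates of the involution,
via `Cfsg.Agent.S1230.result`.
-/

set_option autoImplicit false
set_option linter.style.haveILetI false

namespace Cfsg.Agent.Lib.Helper64.BRPJ2

open Cfsg.Agent.Lib.Helper64.Sylow

universe u

theorem main : Cfsg.Agent.Lib.Helper16.BRStmt.PslOfInvol.{u} := by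
  intro G _ _ p _ hp7 P hP hN hG w hw hCw hconj
  classical
  have hpp : p.Prime := Fact.out
  haveI : Fact (Nat.Prime 2) := ⟨Nat.prime_two⟩
  obtain ⟨C, hCdef⟩ : ∃ C : Subgroup G, C = Subgroup.centralizer ({w} : Set G) := ⟨_, rfl⟩
  rw [← hCdef] at hCw hconj
  have hpodd : Odd p := hpp.odd_of_ne_two (by omega)
  have hw2 : w * w = 1 := by
    have := pow_orderOf_eq_one w
    rw [hw, pow_two] at this; exact this
  have hmemC : ∀ c : G, c ∈ C ↔ w * c = c * w := by
    intro c
    rw [hCdef, Subgroup.mem_centralizer_iff]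
    constructor
    · intro h; exact h w (Set.mem_singleton _)
    · intro h z hz
      rw [Set.mem_singleton_iff] at hz
      rw [hz]; exact h
  have hconjsq : ∀ c : G, IsConj c w → c * c = 1 := by
    intro c hc
    obtain ⟨g, hg⟩ := isConj_iff.1 hc
    have : c = g⁻¹ * w * g := by rw [← hg]; group
    rw [this]
    calc g⁻¹ * w * g * (g⁻¹ * w * g) = g⁻¹ * (w * w) * g := by group
      _ = 1 := by rw [hw2]; group
  have hsq : ∀ c ∈ C, c * c = 1 := by
    intro c hc
    by_cases h1 : c = 1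
    · rw [h1, one_mul]
    · exact hconjsq c (hconj c hc h1)
  -- an element with square 1 and p-th power 1 is trivial
  have hodd : ∀ z : G, z * z = 1 → z ^ p = 1 → z = 1 := by
    intro z h2 hpz
    have h2' : z ^ 2 = 1 := by rw [pow_two]; exact h2
    have hco : Nat.Coprime 2 p := Nat.coprime_two_left.2 hpodd
    have := pow_gcd_eq_one.2 ⟨h2', hpz⟩
    rw [Nat.Coprime.gcd_eq_one hco, pow_one] at this
    exact this
  have hC2 : IsPGroup 2 ↥C := by
    intro c
    refine ⟨1, ?_⟩
    apply Subtype.ext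
    rw [pow_one, Subgroup.coe_pow, pow_two]
    exact hsq c c.2
  obtain ⟨m, hm⟩ := IsPGroup.iff_card.1 hC2
  rw [hCw] at hm
  -- C is a Sylow 2-subgroup
  obtain ⟨T, hCT⟩ := IsPGroup.exists_le_sylow hC2
  obtain ⟨k, hk⟩ := IsPGroup.iff_card.1 T.2
  have hTC : (T : Subgroup G) = C := by
    symm
    refine Subgroup.eq_of_le_of_card_ge hCT ?_
    have hdvd : Nat.card ↥(T : Subgroup G) ∣ Nat.card G := Subgroup.card_subgroup_dvd_card _
    rw [hk, hG] at hdvd
    have hp2odd : Odd (p - 2) := by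
      obtain ⟨j, hj⟩ := hpodd
      exact ⟨j - 1, by omega⟩
    have hco1 : Nat.Coprime (2 ^ k) p := Nat.Coprime.pow_left k (Nat.coprime_two_left.2 hpodd)
    have hco2 : Nat.Coprime (2 ^ k) (p - 2) :=
      Nat.Coprime.pow_left k (Nat.coprime_two_left.2 hp2odd)
    have h1 : 2 ^ k ∣ p * (p - 1) := hco2.dvd_of_dvd_mul_right hdvd
    have h2 : 2 ^ k ∣ p - 1 := hco1.dvd_of_dvd_mul_left h1
    rw [hk, hCw]
    exact Nat.le_of_dvd (by omega) h2
  have hcardT : Nat.card ↥(T : Subgroup G) = p - 1 := by rw [hTC, hCw]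
  have hmemT : ∀ c : G, c ∈ (T : Subgroup G) ↔ c ∈ C := by intro c; rw [hTC]
  -- T is not cyclic
  have hnc : ¬ IsCyclic ↥(T : Subgroup G) := by
    intro hcyc
    obtain ⟨g, hg⟩ := hcyc.exists_generator
    have hord : orderOf g = Nat.card ↥(T : Subgroup G) := orderOf_eq_card_of_forall_mem_zpowers hg
    have hg2 : g ^ 2 = 1 := by
      apply Subtype.ext
      rw [Subgroup.coe_pow, pow_two]
      exact hsq g ((hmemT _).1 g.2)
    have hle : orderOf g ≤ 2 := orderOf_le_of_pow_eq_one (by norm_num) hg2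
    rw [hord, hcardT] at hle
    omega
  -- every involution is conjugate to w
  have hinvconj : ∀ t : G, orderOf t = 2 → IsConj t w := by
    intro t ht
    have ht2grp : IsPGroup 2 ↥(Subgroup.zpowers t) :=
      IsPGroup.of_card (n := 1) (by rw [Nat.card_zpowers, ht, pow_one])
    obtain ⟨Q, hQ⟩ := IsPGroup.exists_le_sylow ht2grp
    obtain ⟨g, hg⟩ := MulAction.exists_smul_eq G T Q
    have htQ : t ∈ (Q : Subgroup G) := hQ (Subgroup.mem_zpowers t)
    rw [← hg, sylow_smul_coe, mem_map_conj] at htQ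
    have ht1 : g⁻¹ * t * g ≠ 1 := by
      intro h
      have : t = 1 := by
        calc t = g * (g⁻¹ * t * g) * g⁻¹ := by group
          _ = 1 := by rw [h]; group
      rw [this, orderOf_one] at ht
      omega
    have hc := hconj _ ((hmemT _).1 htQ) ht1
    obtain ⟨h, hh⟩ := isConj_iff.1 hc
    refine isConj_iff.2 ⟨h * g⁻¹, ?_⟩
    rw [← hh]; group
  -- T is not normal
  have hnn : ¬ (T : Subgroup G).Normal := by
    intro hTn
    have h2dvd : 2 ∣ Nat.card ↥(Subgroup.normalizer ((P : Subgroup G) : Set G)) := by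
      rw [hN]; exact dvd_mul_left 2 p
    obtain ⟨u', hu'⟩ := exists_prime_orderOf_dvd_card' 2 h2dvd
    have hu : orderOf (u' : G) = 2 := by rw [Subgroup.orderOf_coe]; exact hu'
    obtain ⟨g, hg⟩ := isConj_iff.1 (hinvconj _ hu)
    have huT : (u' : G) ∈ (T : Subgroup G) := by
      have hwT : w ∈ (T : Subgroup G) := (hmemT w).2 ((hmemC w).2 rfl)
      have : (u' : G) = g⁻¹ * w * g⁻¹⁻¹ := by rw [← hg]; group
      rw [this]
      exact hTn.conj_mem w hwT g⁻¹
    -- u' centralizes P
    have hdisj : Disjoint (P : Subgroup G) (T : Subgroup G) :=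
      IsPGroup.disjoint_of_ne p 2 (by omega) _ _ P.2 T.2
    have hucent : ∀ x ∈ (P : Subgroup G), (u' : G) * x = x * (u' : G) := by
      intro x hx
      have h1 : (u' : G) * x * (u' : G)⁻¹ * x⁻¹ ∈ (P : Subgroup G) :=
        Subgroup.mul_mem _ ((Subgroup.mem_normalizer_iff.1 u'.2 x).1 hx) (Subgroup.inv_mem _ hx)
      have h2 : (u' : G) * x * (u' : G)⁻¹ * x⁻¹ ∈ (T : Subgroup G) := by
        have e : (u' : G) * x * (u' : G)⁻¹ * x⁻¹ = (u' : G) * (x * (u' : G)⁻¹ * x⁻¹) := by group
        rw [e]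
        exact Subgroup.mul_mem _ huT (hTn.conj_mem _ (Subgroup.inv_mem _ huT) x)
      have h3 := Subgroup.disjoint_def.1 hdisj h1 h2
      calc (u' : G) * x = ((u' : G) * x * (u' : G)⁻¹ * x⁻¹) * x * (u' : G) := by group
        _ = x * (u' : G) := by rw [h3, one_mul]
    -- a nontrivial element of P
    have hPne : (P : Subgroup G) ≠ ⊥ := by
      rw [← Subgroup.one_lt_card_iff_ne_bot, hP]; omega
    obtain ⟨x', hx'⟩ := (Subgroup.ne_bot_iff_exists_ne_one).1 hPne
    have hx1 : (x' : G) ≠ 1 := fun h => hx' (Subtype.ext h)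
    have hxp : (x' : G) ^ p = 1 := by
      have : x' ^ Nat.card ↥(P : Subgroup G) = 1 := pow_card_eq_one'
      rw [hP] at this
      have := congrArg Subtype.val this
      rwa [Subgroup.coe_pow] at this
    -- conjugate into C
    have hcx : g * (x' : G) * g⁻¹ ∈ C := by
      rw [hmemC, ← hg]
      have := hucent _ x'.2
      calc g * (u' : G) * g⁻¹ * (g * (x' : G) * g⁻¹) = g * ((u' : G) * (x' : G)) * g⁻¹ := by group
        _ = g * ((x' : G) * (u' : G)) * g⁻¹ := by rw [this]
        _ = g * (x' : G) * g⁻¹ * (g * (u' : G) * g⁻¹) := by group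
    have hcx1 : g * (x' : G) * g⁻¹ ≠ 1 := by
      intro h
      apply hx1
      calc (x' : G) = g⁻¹ * (g * (x' : G) * g⁻¹) * g := by group
        _ = 1 := by rw [h]; group
    apply hcx1
    apply hodd _ (hsq _ hcx)
    rw [conj_pow, hxp]; group
  -- centralizers of involutions
  have hCt : ∀ t : G, orderOf t = 2 →
      IsMulCommutative ↥(Subgroup.centralizer ({t} : Set G)) ∧
        ∀ c ∈ Subgroup.centralizer ({t} : Set G), c ^ 2 = 1 := by
    intro t ht
    obtain ⟨g, hg⟩ := isConj_iff.1 (hinvconj t ht)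
    have hsqt : ∀ c ∈ Subgroup.centralizer ({t} : Set G), c * c = 1 := by
      intro c hc
      have hct : t * c = c * t := (Subgroup.mem_centralizer_iff.1 hc) t (Set.mem_singleton _)
      have hmem : g * c * g⁻¹ ∈ C := by
        rw [hmemC, ← hg]
        calc g * t * g⁻¹ * (g * c * g⁻¹) = g * (t * c) * g⁻¹ := by group
          _ = g * (c * t) * g⁻¹ := by rw [hct]
          _ = g * c * g⁻¹ * (g * t * g⁻¹) := by group
      have h1 := hsq _ hmem
      calc c * c = g⁻¹ * (g * c * g⁻¹ * (g * c * g⁻¹)) * g := by group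
        _ = 1 := by rw [h1]; group
    refine ⟨isMulCommutative_iff.2 ?_, fun c hc => by rw [pow_two]; exact hsqt c hc⟩
    intro a b
    apply Subtype.ext
    have ha := hsqt a a.2
    have hb := hsqt b b.2
    have hab := hsqt (a * b) (Subgroup.mul_mem _ a.2 b.2)
    show (a : G) * (b : G) = (b : G) * (a : G)
    have hab' : (a : G) * (b : G) * ((a : G) * (b : G)) = 1 := hab
    have ha' : (a : G)⁻¹ = (a : G) := inv_eq_of_mul_eq_one_left ha
    have hb' : (b : G)⁻¹ = (b : G) := inv_eq_of_mul_eq_one_left hb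
    have hab'' : ((a : G) * (b : G))⁻¹ = (a : G) * (b : G) := inv_eq_of_mul_eq_one_left hab'
    calc (a : G) * (b : G) = ((a : G) * (b : G))⁻¹ := hab''.symm
      _ = (b : G)⁻¹ * (a : G)⁻¹ := mul_inv_rev _ _
      _ = (b : G) * (a : G) := by rw [ha', hb']
  obtain ⟨F, hF1, hF2, hcardF, hiso⟩ := Cfsg.Agent.S1230.result T hnc hnn hCt
  refine ⟨m, F, hF1, hF2, ?_, ?_, hiso⟩
  · rw [hcardF, hcardT, hm]
  · omega

end Cfsg.Agent.Lib.Helper64.BRPJ2
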