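import Mathlib
import Cfsg.Agent.Lib.Helper4.UniStmt

set_option autoImplicit false

/-!
# S4395 / LD : the field of a model has `p ^ (order of p mod q)` elements
-/

namespace Cfsg.Agent.Lib.Helper64.UniLD

open Cfsg.Agent.Lib.Helper4.UniStmt

theorem main : LD := by
  intro p q hp hq hpq F _ _ _ lam hlam1 hlamq hirr
  classical
  have := Fintype.ofFinite F
  obtain ⟨d, -, hd⟩ := FiniteField.card F p
  have hcardF : Nat.card F = p ^ (d : ℕ) := by rw [Nat.card_eq_fintype_card]; exact hd
  have hp1 : 1 < p := hp.out.one_lt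
  have hlam0 : lam ≠ 0 := by
    intro h
    rw [h, zero_pow hq.out.ne_zero] at hlamq
    exact zero_ne_one hlamq
  have ho : orderOf lam = q := orderOf_eq_prime hlamq hlam1
  obtain ⟨a, ha⟩ : ∃ a : ℕ, a = orderOf (p : ZMod q) := ⟨_, rfl⟩
  rw [← ha]
  -- (1) `a ∣ d`
  have h1 : lam ^ (p ^ (d : ℕ) - 1) = 1 := by
    have h0 := FiniteField.pow_card_sub_one_eq_one lam hlam0
    rwa [hd] at h0
  have hqd : q ∣ p ^ (d : ℕ) - 1 := by
    rw [← ho]; exact orderOf_dvd_of_pow_eq_one h1
  have hpd : (p : ZMod q) ^ (d : ℕ) = 1 := by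
    have h2 : ((p ^ (d : ℕ) - 1 : ℕ) : ZMod q) = 0 := (ZMod.natCast_eq_zero_iff _ _).2 hqd
    have h3 : 1 ≤ p ^ (d : ℕ) := Nat.one_le_pow _ _ hp.out.pos
    rw [Nat.cast_sub h3, Nat.cast_pow, Nat.cast_one, sub_eq_zero] at h2
    exact h2
  have had : a ∣ (d : ℕ) := by rw [ha]; exact orderOf_dvd_of_pow_eq_one hpd
  have ha0 : a ≠ 0 := by
    intro h0
    rw [h0, zero_dvd_iff] at had
    exact d.ne_zero had
  -- (2) `d ≤ a`
  have hpa : (p : ZMod q) ^ a = 1 := by rw [ha]; exact pow_orderOf_eq_one _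
  have h3a : 1 ≤ p ^ a := Nat.one_le_pow _ _ hp.out.pos
  have hqa : q ∣ p ^ a - 1 := by
    rw [← ZMod.natCast_eq_zero_iff, Nat.cast_sub h3a, Nat.cast_pow, Nat.cast_one, hpa, sub_self]
  have hlampa : lam ^ (p ^ a) = lam := by
    obtain ⟨c, hc⟩ := hqa
    have h4 : lam ^ (p ^ a - 1) = 1 := by rw [hc, pow_mul, hlamq, one_pow]
    calc lam ^ (p ^ a) = lam ^ (p ^ a - 1 + 1) := by rw [Nat.sub_add_cancel h3a]
      _ = lam := by rw [pow_succ, h4, one_mul]
  have : ExpChar F p := ExpChar.prime hp.out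
  let A : AddSubgroup F :=
    { carrier := {x | iterateFrobenius F p a x = x}
      zero_mem' := map_zero _
      add_mem' := by
        intro x y hx hy
        show iterateFrobenius F p a (x + y) = x + y
        rw [map_add, hx, hy]
      neg_mem' := by
        intro x hx
        show iterateFrobenius F p a (-x) = -x
        rw [map_neg, hx] }
  have hAmem : ∀ x, x ∈ A ↔ iterateFrobenius F p a x = x := fun x => Iff.rfl
  have hAstab : ∀ x ∈ A, lam * x ∈ A := by
    intro x hx
    rw [hAmem] at hx ⊢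
    rw [map_mul, hx, iterateFrobenius_def, hlampa]
  have h1A : (1 : F) ∈ A := by rw [hAmem]; exact map_one _
  have hAtop : A = ⊤ := by
    rcases hirr A hAstab with h | h
    · exfalso
      rw [h, AddSubgroup.mem_bot] at h1A
      exact one_ne_zero h1A
    · exact h
  have hall : ∀ x : F, x ^ (p ^ a) = x := by
    intro x
    have hx : x ∈ A := by rw [hAtop]; exact AddSubgroup.mem_top x
    rw [hAmem, iterateFrobenius_def] at hx
    exact hx
  have hle : Fintype.card F ≤ p ^ a := by
    have hne : (Polynomial.X ^ p ^ a - Polynomial.X : Polynomial F) ≠ 0 :=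
      FiniteField.X_pow_card_pow_sub_X_ne_zero F ha0 hp1
    have hdeg : (Polynomial.X ^ p ^ a - Polynomial.X : Polynomial F).natDegree = p ^ a :=
      FiniteField.X_pow_card_pow_sub_X_natDegree_eq F ha0 hp1
    have hsub : (Finset.univ : Finset F) ⊆
        (Polynomial.X ^ p ^ a - Polynomial.X : Polynomial F).roots.toFinset := by
      intro x _
      rw [Multiset.mem_toFinset, Polynomial.mem_roots hne]
      simp [Polynomial.IsRoot, hall x]
    calc Fintype.card F = (Finset.univ : Finset F).card := rfl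
      _ ≤ (Polynomial.X ^ p ^ a - Polynomial.X : Polynomial F).roots.toFinset.card :=
          Finset.card_le_card hsub
      _ ≤ Multiset.card (Polynomial.X ^ p ^ a - Polynomial.X : Polynomial F).roots :=
          Multiset.toFinset_card_le _
      _ ≤ (Polynomial.X ^ p ^ a - Polynomial.X : Polynomial F).natDegree :=
          Polynomial.card_roots' _
      _ = p ^ a := hdeg
  rw [hd] at hle
  have hda : (d : ℕ) ≤ a := (Nat.pow_le_pow_iff_right hp1).1 hle
  have had' : a ≤ (d : ℕ) := Nat.le_of_dvd d.pos had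
  rw [hcardF, le_antisymm hda had']

end Cfsg.Agent.Lib.Helper64.UniLD
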