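import Mathlib
import Cfsg.Agent.Lib.Helper4.UniStmt

set_option autoImplicit false

/-!
# S4395 / MATCHF : matching two finite fields of the same order with elements of order `q`
-/

namespace Cfsg.Agent.Lib.Helper64.UniMATCHF

open Cfsg.Agent.Lib.Helper4.UniStmt

theorem main : MATCHF := by
  intro q hq F₁ F₂ _ _ _ _ lam₁ lam₂ hcard h1 h1q h2 h2q
  classical
  have := Fintype.ofFinite F₁
  have := Fintype.ofFinite F₂
  have hc : Fintype.card F₁ = Fintype.card F₂ := by
    rw [← Nat.card_eq_fintype_card, ← Nat.card_eq_fintype_card]; exact hcard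
  let θ : F₁ ≃+* F₂ := FiniteField.ringEquivOfCardEq hc
  have ho : orderOf lam₂ = q := orderOf_eq_prime h2q h2
  have hprim : IsPrimitiveRoot lam₂ q := ho ▸ IsPrimitiveRoot.orderOf lam₂
  have hθq : (θ lam₁) ^ q = 1 := by rw [← map_pow, h1q, map_one]
  have hθ1 : θ lam₁ ≠ 1 := by
    intro h
    apply h1
    apply θ.injective
    rw [h, map_one]
  have : NeZero q := ⟨hq.out.ne_zero⟩
  obtain ⟨i, hi, hie⟩ := hprim.eq_pow_of_pow_eq_one hθq
  refine ⟨θ, i, hie.symm, ?_⟩
  have hi0 : i ≠ 0 := by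
    intro h0
    apply hθ1
    rw [← hie, h0, pow_zero]
  exact ((Nat.Prime.coprime_iff_not_dvd hq.out).2
    (Nat.not_dvd_of_pos_of_lt (Nat.pos_of_ne_zero hi0) hi)).symm

end Cfsg.Agent.Lib.Helper64.UniMATCHF
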