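import Mathlib
import Cfsg.Agent.Lib.Helper64.Sylow

set_option autoImplicit false

namespace Cfsg.Agent.Lib.Helper64.Index

open Cfsg.Agent.Lib.Helper64.Sylow

variable {G : Type*} [Group G]

theorem card_inf_mul_relIndex (X Y : Subgroup G) :
    Nat.card ↥(X ⊓ Y) * X.relIndex Y = Nat.card Y := by
  have h1 := Subgroup.card_mul_index ((X ⊓ Y).subgroupOf Y)
  have h2 : Nat.card ((X ⊓ Y).subgroupOf Y) = Nat.card ↥(X ⊓ Y) :=
    Nat.card_congr (Subgroup.subgroupOfEquivOfLe inf_le_right).toEquiv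
  rw [h2] at h1
  have h3 : ((X ⊓ Y).subgroupOf Y).index = X.relIndex Y := by
    rw [← Subgroup.inf_relIndex_right]; rfl
  rw [h3] at h1
  exact h1

/-- For `K` normal, `|KH : H| = |K : K ∩ H|`. -/
theorem relIndex_sup_of_normal [Finite G] (H K : Subgroup G) [K.Normal] :
    H.relIndex (K ⊔ H) = H.relIndex K := by
  have e1 := card_inf_mul_relIndex K (K ⊔ H)
  rw [inf_of_le_left le_sup_left, Subgroup.relIndex_sup_left] at e1
  have e2 := card_inf_mul_relIndex K H
  have e3 := card_inf_mul_relIndex H (K ⊔ H)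
  rw [inf_of_le_left le_sup_right] at e3
  have e4 := card_inf_mul_relIndex H K
  rw [inf_comm] at e4
  have hpos : 0 < Nat.card H := Nat.card_pos
  have : Nat.card H * H.relIndex (K ⊔ H) = Nat.card H * H.relIndex K := by
    rw [e3, ← e1, ← e4, ← e2]; ring
  exact Nat.eq_of_mul_eq_mul_left hpos this

/-- If `K` is normal and `K ⊔ H = ⊤` then `|G : H| = |K : K ∩ H|`. -/
theorem index_eq_relIndex_of_sup_eq_top [Finite G] (H K : Subgroup G) [K.Normal]
    (h : K ⊔ H = ⊤) : H.index = H.relIndex K := by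
  have h2 := relIndex_sup_of_normal H K
  rw [h, Subgroup.relIndex_top_right] at h2
  exact h2

theorem exists_pow_mem_of_mem_sup_sylow {p : ℕ} (P : Sylow p G) (K : Subgroup G) [K.Normal]
    {x : G} (hx : x ∈ (P : Subgroup G) ⊔ K) : ∃ k : ℕ, x ^ p ^ k ∈ K := by
  obtain ⟨u, hu, c, hc, rfl⟩ := Subgroup.mem_sup_of_normal_right.1 hx
  obtain ⟨k, hk⟩ := P.2 ⟨u, hu⟩
  refine ⟨k, ?_⟩
  have h1 : ((u * c : G) : G ⧸ K) = (u : G ⧸ K) := by
    rw [QuotientGroup.eq]
    have : (u * c)⁻¹ * u = c⁻¹ := by group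
    rw [this]; exact K.inv_mem hc
  have h2 : u ^ p ^ k = 1 := by simpa using congrArg Subtype.val hk
  rw [← QuotientGroup.eq_one_iff, QuotientGroup.mk_pow, h1, ← QuotientGroup.mk_pow, h2]
  rfl

theorem normalizer_sup_sylow [Finite G] {p : ℕ} [Fact p.Prime] (P : Sylow p G) (K : Subgroup G)
    [K.Normal] :
    Subgroup.normalizer ((K ⊔ (P : Subgroup G) : Subgroup G) : Set G)
      = K ⊔ Subgroup.normalizer ((P : Subgroup G) : Set G) := by
  apply le_antisymm
  · intro g hg
    have h1 : ((g • P : Sylow p G) : Subgroup G) ≤ K ⊔ (P : Subgroup G) := by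
      intro x hx
      rw [sylow_smul_coe, mem_map_conj] at hx
      have h2 : g * (g⁻¹ * x * g) * g⁻¹ ∈ K ⊔ (P : Subgroup G) :=
        (Subgroup.mem_normalizer_iff.1 hg _).1 (Subgroup.mem_sup_right hx)
      have : g * (g⁻¹ * x * g) * g⁻¹ = x := by group
      rwa [this] at h2
    obtain ⟨l, hl, hlP⟩ := exists_mem_smul_eq_of_le (g • P) P (K ⊔ (P : Subgroup G)) h1 le_sup_right
    have hlg : l * g ∈ Subgroup.normalizer ((P : Subgroup G) : Set G) := by
      refine Sylow.smul_eq_iff_mem_normalizer.1 ?_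
      rw [mul_smul]; exact hlP
    have : g = l⁻¹ * (l * g) := by group
    rw [this]
    have hl' : l⁻¹ ∈ K ⊔ Subgroup.normalizer ((P : Subgroup G) : Set G) :=
      (sup_le_sup_left Subgroup.le_normalizer K) (Subgroup.inv_mem _ hl)
    exact Subgroup.mul_mem _ hl' (Subgroup.mem_sup_right hlg)
  · apply sup_le
    · exact le_sup_left.trans Subgroup.le_normalizer
    · intro a ha
      rw [Subgroup.mem_normalizer_iff_map_conj_eq] at ha ⊢
      rw [Subgroup.map_sup, ha]
      congr 1
      exact (Subgroup.mem_normalizer_iff_map_conj_eq.1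
        (Subgroup.normalizer_eq_top (H := K) ▸ Subgroup.mem_top a))

/-- The number of Sylow `p`-subgroups of `G ⧸ K` is the index of `K N_G(P)`. -/
theorem card_sylow_quotient [Finite G] {p : ℕ} [Fact p.Prime] (P : Sylow p G) (K : Subgroup G)
    [K.Normal] :
    Nat.card (Sylow p (G ⧸ K))
      = (K ⊔ Subgroup.normalizer ((P : Subgroup G) : Set G)).index := by
  have hsurj := QuotientGroup.mk'_surjective K
  have h := (P.mapSurjective hsurj).card_eq_index_normalizer
  rw [h]
  show (Subgroup.normalizer (((P : Subgroup G).map (QuotientGroup.mk' K) : Subgroup (G ⧸ K)) :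
    Set (G ⧸ K))).index = _
  rw [← Subgroup.index_comap_of_surjective _ hsurj, Subgroup.comap_normalizer_eq_of_surjective _ hsurj,
    Subgroup.comap_map_eq, QuotientGroup.ker_mk', sup_comm, normalizer_sup_sylow]

end Cfsg.Agent.Lib.Helper64.Index
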