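import Mathlib
import Cfsg.Agent.H84.FusNorm
import Cfsg.Agent.H85.Syl
import Cfsg.Agent.Lib.Helper87.FSBasic
import Cfsg.Agent.Lib.Helper87.FSLocal

/-!
# Tools for "small exponent abelian subgroups control fusion" (Benson–Grodal–Henke, Theorem B)

`FixP F p R A`: the automorphisms of `R` in `F` fixing `A` pointwise are `p`-elements.
* `FixP.transport`: transport along an isomorphism of the system.
* `exists_sylow_iso`: an isomorphism `R ≃ P` onto a fully automized `P` carrying `C_{Aut_F(R)}(A)`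
  into `Aut_S(P)`.
* `iso_mem_of_extends`: such an isomorphism lies in `E` when some `y ∈ N_S(R) ∖ R` centralizes `A`
  and all maps of `F` on larger subgroups lie in `E`.
* `case2`: a map `θ` of `F` on `R` fixing `A` pointwise lies in `E` under these conditions for `R`
  and `θ(R)`.
-/

set_option autoImplicit false

namespace Cfsg.Agent.Lib.Helper64.BGH

open Cfsg Cfsg.FusionSystem Cfsg.Agent.H84

variable {Ω : Type*} [Group Ω] {S : Subgroup Ω}

/-- the automorphisms of `R` in the system that fix `A` pointwise are `p`-elements -/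
def FixP (F : FusionSystem S) (p : ℕ) (R A : Subgroup Ω) : Prop :=
  ∀ τ : MulAut R, IsIso F (τ : R ≃* R) → (∀ x : R, (x : Ω) ∈ A → τ x = x) →
    ∃ k : ℕ, τ ^ (p ^ k) = 1

theorem FixP.transport {F : FusionSystem S} {p : ℕ} {R R' A A' : Subgroup Ω}
    (h : FixP F p R A) (e : R ≃* R') (he : IsIso F e)
    (hA : ∀ x : R, (x : Ω) ∈ A → ((e x : R') : Ω) ∈ A') : FixP F p R' A' := by
  intro τ' hτ' hfix
  have hτ : IsIso F ((MulAut.congr e.symm τ' : MulAut R) : R ≃* R) := by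
    have h1 : IsIso F (e.trans ((τ' : R' ≃* R').trans e.symm)) :=
      IsIso.trans he (IsIso.trans hτ' he.symm)
    exact IsIso.of_hom h1.hom _ (fun x => rfl)
  obtain ⟨k, hk⟩ := h (MulAut.congr e.symm τ') hτ (by
    intro x hx
    show e.symm (τ' (e x)) = x
    rw [hfix (e x) (hA x hx), e.symm_apply_apply])
  refine ⟨k, ?_⟩
  apply (MulAut.congr e.symm).injective
  rw [map_pow, hk, map_one]

/-- Sylow conjugation: an isomorphism onto the fully automized `P` carrying the automorphisms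
fixing `A` into `Aut_S(P)`. -/
theorem exists_sylow_iso [Finite S] {p : ℕ} [Fact p.Prime] (F : FusionSystem S)
    {P R A : Subgroup Ω} (hfa : F.IsFullyAutomized p P) (e₀ : R ≃* P) (he₀ : IsIso F e₀)
    (hfix : FixP F p R A) :
    ∃ e : R ≃* P, IsIso F e ∧ ∀ τ : MulAut R, IsIso F (τ : R ≃* R) →
      (∀ x : R, (x : Ω) ∈ A → τ x = x) → MulAut.congr e τ ∈ autInducedBy S P := by
  obtain ⟨hPS, R₀, hR₀⟩ := hfa
  have hRS : R ≤ S := he₀.le_left
  have hfinP : Finite P := finite_of_le hPS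
  let U : Subgroup (MulAut R) :=
    { carrier := {τ | IsIso F (τ : R ≃* R) ∧ ∀ x : R, (x : Ω) ∈ A → τ x = x}
      mul_mem' := by
        rintro a b ⟨ha1, ha2⟩ ⟨hb1, hb2⟩
        refine ⟨IsIso.of_hom (IsIso.trans hb1 ha1).hom _ (fun x => rfl), fun x hx => ?_⟩
        show a (b x) = x
        rw [hb2 x hx, ha2 x hx]
      one_mem' := ⟨IsIso.refl F hRS, fun x _ => rfl⟩
      inv_mem' := by
        rintro a ⟨ha1, ha2⟩
        refine ⟨IsIso.of_hom ha1.symm.hom _ (fun x => rfl), fun x hx => ?_⟩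
        show a.symm x = x
        rw [MulEquiv.symm_apply_eq]
        exact (ha2 x hx).symm }
  have hU : IsPGroup p U := by
    rintro ⟨τ, hτ1, hτ2⟩
    obtain ⟨k, hk⟩ := hfix τ hτ1 hτ2
    refine ⟨k, Subtype.ext ?_⟩
    show τ ^ p ^ k = 1
    exact hk
  have hΘA : ∀ u : U, (MulAut.congr e₀) (u : MulAut R) ∈ F.autGroup P := by
    rintro ⟨τ, hτ1, hτ2⟩
    rw [mem_autGroup_iff_isIso F hPS]
    exact IsIso.of_hom ((he₀.symm.trans hτ1).trans he₀).hom _ (fun x => rfl)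
  let ΘA : U →* ↥(F.autGroup P) :=
    ((MulAut.congr e₀).toMonoidHom.comp U.subtype).codRestrict (F.autGroup P) hΘA
  have hB : IsPGroup p ΘA.range := hU.of_surjective ΘA.rangeRestrict ΘA.rangeRestrict_surjective
  obtain ⟨χ, hχ⟩ := Cfsg.Agent.H85.sylow_conj_le R₀ hB
  have hχiso : IsIso F ((χ : MulAut P) : P ≃* P) := (mem_autGroup_iff_isIso F hPS χ).mp χ.2
  refine ⟨e₀.trans ((χ : MulAut P) : P ≃* P), he₀.trans hχiso, fun τ hτ1 hτ2 => ?_⟩
  have h1 := hχ (ΘA ⟨τ, hτ1, hτ2⟩) ⟨_, rfl⟩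
  rw [hR₀] at h1
  have h2 : ((χ * ΘA ⟨τ, hτ1, hτ2⟩ * χ⁻¹ : ↥(F.autGroup P)) : MulAut P) ∈ autInducedBy S P := h1
  have h3 : MulAut.congr (e₀.trans ((χ : MulAut P) : P ≃* P)) τ =
      ((χ * ΘA ⟨τ, hτ1, hτ2⟩ * χ⁻¹ : ↥(F.autGroup P)) : MulAut P) := by
    ext z
    rfl
  rw [h3]
  exact h2

/-- An isomorphism as in `exists_sylow_iso` lies in `E` (and transports conjugation by `y` to
conjugation by some `g ∈ N_S(P) ∖ P`) when `y ∈ N_S(R) ∖ R` centralizes `A`. -/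
theorem iso_mem_of_extends [Finite S] (F E : FusionSystem S) {P R A : Subgroup Ω}
    (hrec : F.IsReceptive P)
    (IH : ∀ Q : Subgroup Ω, Nat.card P < Nat.card Q → F.Hom Q ⊆ E.Hom Q)
    (e : R ≃* P) (he : IsIso F e)
    (hsyl : ∀ τ : MulAut R, IsIso F (τ : R ≃* R) → (∀ x : R, (x : Ω) ∈ A → τ x = x) →
      MulAut.congr e τ ∈ autInducedBy S P)
    {y : Ω} (hyS : y ∈ S) (hyN : y ∈ Subgroup.normalizer (R : Set Ω)) (hyR : y ∉ R)
    (hyA : ∀ a ∈ A, y * a = a * y) :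
    IsIso E e ∧ ∃ g ∈ S, ∃ hgN : g ∈ Subgroup.normalizer (P : Set Ω), g ∉ P ∧
      ∀ x : R, P.normalizerMonoidHom ⟨g, hgN⟩ (e x) = e (R.normalizerMonoidHom ⟨y, hyN⟩ x) := by
  have hRS : R ≤ S := he.le_left
  have hPS : P ≤ S := he.le_right
  obtain ⟨φ, hφdef⟩ : ∃ φ : R →* Ω, φ = P.subtype.comp e.toMonoidHom := ⟨_, rfl⟩
  have hφ : φ ∈ F.Hom R := by rw [hφdef]; exact he
  have hφval : ∀ x : R, φ x = ((e x : P) : Ω) := fun x => by rw [hφdef]; rfl
  have hrange : φ.range = P := by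
    ext z
    constructor
    · rintro ⟨x, rfl⟩
      rw [hφval]; exact (e x).2
    · intro hz
      refine ⟨e.symm ⟨z, hz⟩, ?_⟩
      rw [hφval, e.apply_symm_apply]
  -- conjugation by y on R
  have hτiso : IsIso F ((R.normalizerMonoidHom ⟨y, hyN⟩ : MulAut R) : R ≃* R) :=
    hom_congr F (F.conj_mem hRS hyS : conjHom R y ∈ F.Hom R) (fun x => rfl)
  have hτfix : ∀ x : R, (x : Ω) ∈ A → R.normalizerMonoidHom ⟨y, hyN⟩ x = x := by
    intro x hx
    apply Subtype.ext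
    show y * (x : Ω) * y⁻¹ = x
    rw [hyA _ hx, mul_inv_cancel_right]
  obtain ⟨h, hhS, hh⟩ := (mem_autInducedBy_iff S P _).mp (hsyl _ hτiso hτfix)
  have hyext : y ∈ extender S R φ := by
    refine Subgroup.subset_closure ⟨hyS, hyN, h, hhS, fun x hx => ?_⟩
    have h1 := hh (e x)
    have h2 : (MulAut.congr e (R.normalizerMonoidHom ⟨y, hyN⟩)) (e x) =
        e (R.normalizerMonoidHom ⟨y, hyN⟩ x) := by
      show e (R.normalizerMonoidHom ⟨y, hyN⟩ (e.symm (e x))) = _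
      rw [e.symm_apply_apply]
    rw [h2] at h1
    rw [hφval, hφval]
    exact h1
  have hRle : R ≤ extender S R φ :=
    le_extender S R φ hRS (fun x => (F.le_of_mem hφ).2 x)
  obtain ⟨ψ, hψ, hext⟩ := hrec.2 R φ hφ hrange
  have hfinE : Finite (extender S R φ) :=
    finite_of_le (Cfsg.Agent.Lib.Helper87.FSLocal.extender_le S R φ)
  have hfinR : Finite R := finite_of_le hRS
  have hcard : Nat.card P < Nat.card (extender S R φ) := by
    rw [← Nat.card_congr e.toEquiv]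
    by_contra hcon
    have := Subgroup.eq_of_le_of_card_ge hRle (not_lt.mp hcon)
    apply hyR
    rw [this]
    exact hyext
  have hψE : ψ ∈ E.Hom (extender S R φ) := IH _ hcard hψ
  have hψR : ∀ x : R, ψ ⟨x, hRle x.2⟩ = φ x := fun x => hext x x.2 (hRle x.2)
  have heE : IsIso E e := by
    have h1 := Cfsg.Agent.Lib.Helper87.FSBasic.restrict_mem E hψE hRle
    refine Cfsg.Agent.Lib.Helper87.FSBasic.mem_of_eq E h1 fun x => ?_
    show ((e x : P) : Ω) = ψ ⟨x, hRle x.2⟩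
    rw [hψR, hφval]
  -- the element g
  obtain ⟨g, hgdef⟩ : ∃ g : Ω, g = ψ ⟨y, hyext⟩ := ⟨_, rfl⟩
  have hgS : g ∈ S := by rw [hgdef]; exact (F.le_of_mem hψ).2 _
  have hconj : ∀ x : R, ((e (R.normalizerMonoidHom ⟨y, hyN⟩ x) : P) : Ω) = g * ((e x : P) : Ω) * g⁻¹ := by
    intro x
    have e1 : (⟨((R.normalizerMonoidHom ⟨y, hyN⟩ x : R) : Ω), hRle (R.normalizerMonoidHom ⟨y, hyN⟩ x).2⟩ :
        extender S R φ) = ⟨y, hyext⟩ * ⟨x, hRle x.2⟩ * ⟨y, hyext⟩⁻¹ := Subtype.ext rfl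
    have e2 := hψR (R.normalizerMonoidHom ⟨y, hyN⟩ x)
    rw [e1, map_mul, map_mul, map_inv, hψR, hφval, hφval, ← hgdef] at e2
    exact e2.symm
  have hconj' : ∀ z : P, g⁻¹ * (z : Ω) * g ∈ P := by
    intro z
    have h1 := hconj ((R.normalizerMonoidHom ⟨y, hyN⟩)⁻¹ (e.symm z))
    rw [MulAut.apply_inv_self, e.apply_symm_apply] at h1
    have h2 : g⁻¹ * (z : Ω) * g = ((e ((R.normalizerMonoidHom ⟨y, hyN⟩)⁻¹ (e.symm z)) : P) : Ω) := by
      rw [h1]; group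
    rw [h2]
    exact (e _).2
  have hgN : g ∈ Subgroup.normalizer (P : Set Ω) := by
    rw [Subgroup.mem_normalizer_iff]
    intro z
    constructor
    · intro hz
      have h1 := hconj (e.symm ⟨z, hz⟩)
      rw [e.apply_symm_apply] at h1
      rw [← h1]
      exact (e _).2
    · intro hz
      have h1 := hconj' ⟨_, hz⟩
      have h2 : g⁻¹ * (g * z * g⁻¹) * g = z := by group
      rw [← h2]
      exact h1
  have hgP : g ∉ P := by
    intro hg
    obtain ⟨x₀, hx₀⟩ : ∃ x₀ : R, φ x₀ = g := ⟨e.symm ⟨g, hg⟩, by rw [hφval, e.apply_symm_apply]⟩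
    have h1 : ψ ⟨x₀, hRle x₀.2⟩ = ψ ⟨y, hyext⟩ := by rw [hψR, hx₀, hgdef]
    have h2 := F.injective_of_mem hψ h1
    apply hyR
    have h3 : (x₀ : Ω) = y := congrArg Subtype.val h2
    rw [← h3]
    exact x₀.2
  refine ⟨heE, g, hgS, hgN, hgP, fun x => ?_⟩
  apply Subtype.ext
  show g * ((e x : P) : Ω) * g⁻¹ = _
  rw [hconj]

/-- **Case 2.** A map of `F` on `R` fixing `A` pointwise lies in `E`. -/
theorem case2 [Finite S] {p : ℕ} [Fact p.Prime] (F E : FusionSystem S) {P R A : Subgroup Ω}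
    (hfa : F.IsFullyAutomized p P) (hrec : F.IsReceptive P)
    (IH : ∀ Q : Subgroup Ω, Nat.card P < Nat.card Q → F.Hom Q ⊆ E.Hom Q)
    (e₀ : R ≃* P) (he₀ : IsIso F e₀) (hfix : FixP F p R A)
    (θ : R →* Ω) (hθ : θ ∈ F.Hom R) (hθA : ∀ x : R, (x : Ω) ∈ A → θ x = x)
    (hAR : A ≤ R)
    {y : Ω} (hyS : y ∈ S) (hyN : y ∈ Subgroup.normalizer (R : Set Ω)) (hyR : y ∉ R)
    (hyA : ∀ a ∈ A, y * a = a * y)
    {y' : Ω} (hy'S : y' ∈ S) (hy'N : y' ∈ Subgroup.normalizer (θ.range : Set Ω))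
    (hy'R : y' ∉ θ.range) (hy'A : ∀ a ∈ A, y' * a = a * y') :
    θ ∈ E.Hom R := by
  have hPS : P ≤ S := hfa.1
  obtain ⟨eθ, heθ⟩ : ∃ eθ : R ≃* θ.range, eθ = θ.ofInjective (F.injective_of_mem hθ) := ⟨_, rfl⟩
  have hθiso : IsIso F eθ := by rw [heθ]; exact isIso_ofInjective hθ
  have heθval : ∀ x : R, ((eθ x : θ.range) : Ω) = θ x := fun x => by rw [heθ]; rfl
  have hfix' : FixP F p θ.range A := hfix.transport eθ hθiso (fun x hx => by
    rw [heθval, hθA x hx]; exact hx)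
  obtain ⟨e, he, hsyl⟩ := exists_sylow_iso F hfa e₀ he₀ hfix
  obtain ⟨e', he', hsyl'⟩ := exists_sylow_iso F hfa (eθ.symm.trans e₀) (hθiso.symm.trans he₀) hfix'
  obtain ⟨heE, g, hgS, hgN, hgP, hg⟩ := iso_mem_of_extends F E hrec IH e he hsyl hyS hyN hyR hyA
  obtain ⟨he'E, -⟩ := iso_mem_of_extends F E hrec IH e' he' hsyl' hy'S hy'N hy'R hy'A
  obtain ⟨τ, hτdef⟩ : ∃ τ : MulAut P, τ = (e.symm.trans eθ).trans e' := ⟨_, rfl⟩
  have hτiso : IsIso F (τ : P ≃* P) := by rw [hτdef]; exact (he.symm.trans hθiso).trans he'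
  have hτ : τ ∈ F.autGroup P := (mem_autGroup_iff_isIso F hPS τ).mpr hτiso
  -- the transported conjugation on θ(R)
  have hcy : IsIso F ((R.normalizerMonoidHom ⟨y, hyN⟩ : MulAut R) : R ≃* R) :=
    hom_congr F (F.conj_mem he.le_left hyS : conjHom R y ∈ F.Hom R) (fun x => rfl)
  obtain ⟨σ, hσdef⟩ : ∃ σ : MulAut θ.range, σ = MulAut.congr eθ (R.normalizerMonoidHom ⟨y, hyN⟩) :=
    ⟨_, rfl⟩
  have hσval : ∀ x : θ.range, σ x = eθ (R.normalizerMonoidHom ⟨y, hyN⟩ (eθ.symm x)) := fun x => by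
    rw [hσdef]; rfl
  have hσiso : IsIso F (σ : θ.range ≃* θ.range) := by
    rw [hσdef]
    exact IsIso.of_hom ((hθiso.symm.trans hcy).trans hθiso).hom _ (fun x => rfl)
  have hσfix : ∀ x : θ.range, (x : Ω) ∈ A → σ x = x := by
    intro x hx
    have h1 : eθ ⟨(x : Ω), hAR hx⟩ = x := Subtype.ext (by rw [heθval]; exact hθA _ hx)
    have h2 : eθ.symm x = ⟨(x : Ω), hAR hx⟩ := by rw [MulEquiv.symm_apply_eq, h1]
    have h3 : R.normalizerMonoidHom ⟨y, hyN⟩ ⟨(x : Ω), hAR hx⟩ = ⟨(x : Ω), hAR hx⟩ := by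
      apply Subtype.ext
      show y * (x : Ω) * y⁻¹ = x
      rw [hyA _ hx, mul_inv_cancel_right]
    rw [hσval, h2, h3, h1]
  obtain ⟨h, hhS, hh⟩ := (mem_autInducedBy_iff S P _).mp (hsyl' σ hσiso hσfix)
  have hconj : τ * P.normalizerMonoidHom ⟨g, hgN⟩ * τ⁻¹ ∈ autInducedBy S P := by
    refine (mem_autInducedBy_iff S P _).mpr ⟨h, hhS, fun z => ?_⟩
    rw [← hh z]
    congr 1
    have h1 : τ⁻¹ z = e (eθ.symm (e'.symm z)) := by rw [hτdef]; rfl
    show τ (P.normalizerMonoidHom ⟨g, hgN⟩ (τ⁻¹ z)) = e' (σ (e'.symm z))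
    rw [h1, hg, hσval, hτdef]
    show e' (eθ (e.symm (e _))) = _
    rw [e.symm_apply_apply]
  have hτE : IsIso E (τ : P ≃* P) :=
    Cfsg.Agent.Lib.Helper87.FSLocal.aut_mem_of_extends F E hrec IH hτ hgS hgN hgP hconj
  have hfinal : IsIso E (e.trans ((τ : P ≃* P).trans e'.symm)) := heE.trans (hτE.trans he'E.symm)
  refine Cfsg.Agent.Lib.Helper87.FSBasic.mem_of_eq E hfinal.hom fun x => ?_
  show θ x = ((e'.symm (τ (e x)) : θ.range) : Ω)
  rw [hτdef]
  show θ x = ((e'.symm (e' (eθ (e.symm (e x)))) : θ.range) : Ω)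
  rw [e'.symm_apply_apply, e.symm_apply_apply, heθval]

end Cfsg.Agent.Lib.Helper64.BGH
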