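import Mathlib
import Cfsg.Agent.Lib.Helper33.Omega

/-!
# Relative form of Alperin's lemma on maximal normal abelian subgroups of small exponent

`T` a finite `p`-group (a subgroup of an ambient group), `H ≤ T` normalized by `T`, `A ≤ H` maximal
among the `T`-invariant abelian subgroups of `H` all of whose elements satisfy `Om p`
(`x ^ p = 1`, or `x ^ 4 = 1` when `p = 2`).  Then every `Om`-element of `C_H(A)` lies in `A`.
-/

set_option autoImplicit false

namespace Cfsg.Agent.Lib.Helper64.RelAlp

open Cfsg.Agent.Lib.Helper33.Omega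
open scoped commutatorElement

variable {G : Type*} [Group G]

/-- triangular numbers -/
def tri : ℕ → ℕ
  | 0 => 0
  | n + 1 => tri n + n

theorem two_mul_tri (n : ℕ) : 2 * tri n = n * (n - 1) := by
  induction n with
  | zero => rfl
  | succ n ih =>
    show 2 * (tri n + n) = (n + 1) * (n + 1 - 1)
    rw [mul_add, ih]
    cases n with
    | zero => rfl
    | succ k => simp only [Nat.add_sub_cancel]; ring

theorem dvd_tri_of_odd {p : ℕ} (hp : p.Prime) (hp2 : p ≠ 2) : p ∣ tri p := by
  have h1 : p ∣ 2 * tri p := by rw [two_mul_tri]; exact dvd_mul_right _ _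
  have hcop : Nat.Coprime p 2 := (Nat.coprime_primes hp Nat.prime_two).mpr hp2
  exact hcop.dvd_of_dvd_mul_left h1

theorem pow_mul_aux {x u c : G} (hc : u * x = x * u * c) (hcu : Commute c u) :
    ∀ n : ℕ, u ^ n * x = x * u ^ n * c ^ n := by
  intro n
  induction n with
  | zero => simp
  | succ n ih =>
    calc u ^ (n + 1) * x = u ^ n * (u * x) := by rw [pow_succ, mul_assoc]
      _ = u ^ n * (x * u * c) := by rw [hc]
      _ = (u ^ n * x) * u * c := by simp only [mul_assoc]
      _ = (x * u ^ n * c ^ n) * u * c := by rw [ih]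
      _ = x * u ^ n * (c ^ n * u) * c := by simp only [mul_assoc]
      _ = x * u ^ n * (u * c ^ n) * c := by rw [(hcu.pow_left n).eq]
      _ = x * (u ^ n * u) * (c ^ n * c) := by simp only [mul_assoc]
      _ = x * u ^ (n + 1) * c ^ (n + 1) := by rw [← pow_succ, ← pow_succ]

theorem mul_pow_aux {x u c : G} (hc : u * x = x * u * c) (hcx : Commute c x) (hcu : Commute c u) :
    ∀ n : ℕ, (x * u) ^ n = x ^ n * u ^ n * c ^ tri n := by
  intro n
  induction n with
  | zero => simp [tri]
  | succ n ih =>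
    calc (x * u) ^ (n + 1) = (x * u) ^ n * (x * u) := pow_succ _ _
      _ = x ^ n * u ^ n * c ^ tri n * (x * u) := by rw [ih]
      _ = x ^ n * u ^ n * (c ^ tri n * x) * u := by simp only [mul_assoc]
      _ = x ^ n * u ^ n * (x * c ^ tri n) * u := by rw [(hcx.pow_left (tri n)).eq]
      _ = x ^ n * (u ^ n * x) * c ^ tri n * u := by simp only [mul_assoc]
      _ = x ^ n * (x * u ^ n * c ^ n) * c ^ tri n * u := by rw [pow_mul_aux hc hcu n]
      _ = x ^ n * x * u ^ n * (c ^ n * c ^ tri n * u) := by simp only [mul_assoc]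
      _ = x ^ n * x * u ^ n * (u * (c ^ n * c ^ tri n)) := by
          rw [((hcu.pow_left n).mul_left (hcu.pow_left (tri n))).eq]
      _ = (x ^ n * x) * (u ^ n * u) * (c ^ n * c ^ tri n) := by simp only [mul_assoc]
      _ = x ^ (n + 1) * u ^ (n + 1) * c ^ tri (n + 1) := by
          rw [← pow_succ, ← pow_succ, ← pow_add]
          congr 2
          show n + tri n = tri n + n
          exact Nat.add_comm _ _

theorem om_two_iff (a : G) : Om 2 a ↔ a ^ 4 = 1 := by
  constructor
  · rintro (h | ⟨-, h⟩)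
    · have : a ^ 4 = (a ^ 2) ^ 2 := by rw [← pow_mul]
      rw [this, h, one_pow]
    · exact h
  · intro h
    exact Or.inr ⟨rfl, h⟩

theorem om_odd_iff {p : ℕ} (hp2 : p ≠ 2) (a : G) : Om p a ↔ a ^ p = 1 := by
  constructor
  · rintro (h | ⟨h, -⟩)
    · exact h
    · exact absurd h hp2
  · intro h
    exact Or.inl h

theorem om_one (p : ℕ) : Om p (1 : G) := Or.inl (one_pow _)

theorem om_inv {p : ℕ} {a : G} (h : Om p a) : Om p a⁻¹ := by
  rcases h with h | ⟨h2, h⟩
  · exact Or.inl (by rw [inv_pow, h, inv_one])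
  · exact Or.inr ⟨h2, by rw [inv_pow, h, inv_one]⟩

theorem om_mul {p : ℕ} [Fact p.Prime] {a b : G} (hab : a * b = b * a) (ha : Om p a) (hb : Om p b) :
    Om p (a * b) := by
  by_cases hp2 : p = 2
  · subst hp2
    rw [om_two_iff] at ha hb ⊢
    rw [(show Commute a b from hab).mul_pow, ha, hb, one_mul]
  · rw [om_odd_iff hp2] at ha hb ⊢
    rw [(show Commute a b from hab).mul_pow, ha, hb, one_mul]

theorem om_conj {p : ℕ} {a : G} (t : G) (h : Om p a) : Om p (t * a * t⁻¹) := by
  rcases h with h | ⟨h2, h⟩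
  · exact Or.inl (by rw [conj_pow, h, mul_one, mul_inv_cancel])
  · exact Or.inr ⟨h2, by rw [conj_pow, h, mul_one, mul_inv_cancel]⟩

section main

variable {p : ℕ} [Fact p.Prime] (T H A : Subgroup G)

/-- adjoining an element whose `T`-conjugates stay in its coset mod `A`. -/
theorem mem_of_adjoin
    (hAH : A ≤ H)
    (hAn : ∀ t ∈ T, ∀ a ∈ A, t * a * t⁻¹ ∈ A)
    (hAc : ∀ a ∈ A, ∀ b ∈ A, a * b = b * a)
    (hAe : ∀ a ∈ A, Om p a)
    (hmax : ∀ B : Subgroup G, A ≤ B → B ≤ H → (∀ t ∈ T, ∀ b ∈ B, t * b * t⁻¹ ∈ B) →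
      (∀ a ∈ B, ∀ b ∈ B, a * b = b * a) → (∀ b ∈ B, Om p b) → B ≤ A)
    (x : G) (hxH : x ∈ H) (hxA : ∀ a ∈ A, x * a = a * x) (hx : Om p x)
    (hQ : ∀ t ∈ T, x⁻¹ * t * x * t⁻¹ ∈ A) : x ∈ A := by
  obtain ⟨B, hB⟩ : ∃ B : Subgroup G, B = Subgroup.closure ((A : Set G) ∪ {x}) := ⟨_, rfl⟩
  have hAB : A ≤ B := by
    rw [hB]; intro a ha; exact Subgroup.subset_closure (Or.inl ha)
  have hxB : x ∈ B := by
    rw [hB]; exact Subgroup.subset_closure (Or.inr rfl)
  have hBH : B ≤ H := by
    rw [hB, Subgroup.closure_le]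
    rintro y (hy | hy)
    · exact hAH hy
    · rw [Set.mem_singleton_iff] at hy; rw [hy]; exact hxH
  -- generators commute with everything in B
  have hgen : ∀ g ∈ (A : Set G) ∪ {x}, ∀ g' ∈ (A : Set G) ∪ {x}, g * g' = g' * g := by
    rintro g (hg | hg) g' (hg' | hg')
    · exact hAc g hg g' hg'
    · rw [Set.mem_singleton_iff] at hg'; rw [hg']; exact (hxA g hg).symm
    · rw [Set.mem_singleton_iff] at hg; rw [hg]; exact hxA g' hg'
    · rw [Set.mem_singleton_iff] at hg hg'; rw [hg, hg']
  have hBc1 : ∀ b ∈ B, ∀ g ∈ (A : Set G) ∪ {x}, b * g = g * b := by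
    intro b hb g hg
    have hle : B ≤ Subgroup.centralizer {g} := by
      rw [hB, Subgroup.closure_le]
      intro y hy
      rw [SetLike.mem_coe, Subgroup.mem_centralizer_iff]
      intro z hz
      rw [Set.mem_singleton_iff] at hz
      rw [hz]
      exact hgen g hg y hy
    have := Subgroup.mem_centralizer_iff.mp (hle hb) g rfl
    exact this.symm
  have hBc : ∀ a ∈ B, ∀ b ∈ B, a * b = b * a := by
    intro a ha b hb
    have hle : B ≤ Subgroup.centralizer {a} := by
      rw [hB, Subgroup.closure_le]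
      intro y hy
      rw [SetLike.mem_coe, Subgroup.mem_centralizer_iff]
      intro z hz
      rw [Set.mem_singleton_iff] at hz
      rw [hz]
      exact hBc1 a ha y hy
    have := Subgroup.mem_centralizer_iff.mp (hle hb) a rfl
    exact this
  have hBe : ∀ b ∈ B, Om p b := by
    intro b hb
    rw [hB] at hb
    induction hb using Subgroup.closure_induction with
    | mem y hy =>
      rcases hy with hy | hy
      · exact hAe y hy
      · rw [Set.mem_singleton_iff] at hy; rw [hy]; exact hx
    | one => exact om_one p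
    | mul y z hy hz ihy ihz =>
      exact om_mul (hBc y (by rw [hB]; exact hy) z (by rw [hB]; exact hz)) ihy ihz
    | inv y hy ihy => exact om_inv ihy
  have hBn : ∀ t ∈ T, ∀ b ∈ B, t * b * t⁻¹ ∈ B := by
    intro t ht b hb
    have hle : B ≤ B.comap (MulAut.conj t).toMonoidHom := by
      conv_lhs => rw [hB]
      rw [Subgroup.closure_le]
      rintro y (hy | hy)
      · show t * y * t⁻¹ ∈ B
        exact hAB (hAn t ht y hy)
      · rw [Set.mem_singleton_iff] at hy
        show t * y * t⁻¹ ∈ B
        rw [hy]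
        have e : t * x * t⁻¹ = x * (x⁻¹ * t * x * t⁻¹) := by group
        rw [e]
        exact B.mul_mem hxB (hAB (hQ t ht))
    exact hle hb
  exact hmax B hAB hBH hBn hBc hBe hxB

/-- the core step -/
theorem core [Finite T] (hT : IsPGroup p T)
    (hHT : H ≤ T) (hAH : A ≤ H)
    (hHn : ∀ t ∈ T, ∀ h ∈ H, t * h * t⁻¹ ∈ H)
    (hAn : ∀ t ∈ T, ∀ a ∈ A, t * a * t⁻¹ ∈ A)
    (hAc : ∀ a ∈ A, ∀ b ∈ A, a * b = b * a)
    (hAe : ∀ a ∈ A, Om p a)
    (hmax : ∀ B : Subgroup G, A ≤ B → B ≤ H → (∀ t ∈ T, ∀ b ∈ B, t * b * t⁻¹ ∈ B) →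
      (∀ a ∈ B, ∀ b ∈ B, a * b = b * a) → (∀ b ∈ B, Om p b) → B ≤ A)
    (k : ℕ)
    (IH : ∀ y ∈ T.lowerCentralSeries (k + 1), y ∈ H → (∀ a ∈ A, y * a = a * y) → Om p y → y ∈ A)
    (x : G) (hxk : x ∈ T.lowerCentralSeries k) (hxH : x ∈ H) (hxA : ∀ a ∈ A, x * a = a * x)
    (hx : Om p x) (hx2 : p = 2 → x ^ 2 ∈ A) : x ∈ A := by
  have hp : p.Prime := Fact.out
  have hxT : x ∈ T := hHT hxH
  obtain ⟨m, hm⟩ := (Subgroup.isNilpotent_iff_lowerCentralSeries T).mp hT.isNilpotent
  -- inner descending induction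
  have hQ : ∀ j : ℕ, ∀ t ∈ T.lowerCentralSeries (m - j), x⁻¹ * t * x * t⁻¹ ∈ A := by
    intro j
    induction j with
    | zero =>
      intro t ht
      rw [Nat.sub_zero, hm, Subgroup.mem_bot] at ht
      rw [ht]
      simp
    | succ j ih =>
      by_cases hj : m ≤ j
      · have e : m - (j + 1) = m - j := by omega
        rw [e]; exact ih
      · have e : m - j = (m - (j + 1)) + 1 := by omega
        rw [e] at ih
        intro t ht
        have htT : t ∈ T := T.lowerCentralSeries_le_self _ ht
        obtain ⟨u, hu⟩ : ∃ u : G, u = x⁻¹ * t * x * t⁻¹ := ⟨_, rfl⟩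
        rw [← hu]
        -- u lies deep
        have hu1 : u ∈ T.lowerCentralSeries (k + 1) := by
          rw [Subgroup.lowerCentralSeries_succ]
          have : u = ⁅x⁻¹, t⁆ := by rw [hu, commutatorElement_def, inv_inv]
          rw [this]
          exact Subgroup.commutator_mem_commutator ((T.lowerCentralSeries k).inv_mem hxk) htT
        have hu2 : u ∈ T.lowerCentralSeries ((m - (j + 1)) + 1) := by
          rw [Subgroup.lowerCentralSeries_succ]
          have : u = ⁅t, x⁻¹⁆⁻¹ := by rw [hu, commutatorElement_inv, commutatorElement_def, inv_inv]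
          rw [this]
          exact Subgroup.inv_mem _ (Subgroup.commutator_mem_commutator ht (T.inv_mem hxT))
        have huH : u ∈ H := by
          have e : u = x⁻¹ * (t * x * t⁻¹) := by rw [hu]; group
          rw [e]
          exact H.mul_mem (H.inv_mem hxH) (hHn t htT x hxH)
        -- conjugate of x centralizes A
        have hx'A : ∀ a ∈ A, (t * x * t⁻¹) * a = a * (t * x * t⁻¹) := by
          intro a ha
          have h1 : t⁻¹ * a * t ∈ A := by
            have := hAn t⁻¹ (T.inv_mem htT) a ha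
            rwa [inv_inv] at this
          have h2 := hxA _ h1
          calc t * x * t⁻¹ * a = t * (x * (t⁻¹ * a * t)) * t⁻¹ := by group
            _ = t * ((t⁻¹ * a * t) * x) * t⁻¹ := by rw [h2]
            _ = a * (t * x * t⁻¹) := by group
        have huA : ∀ a ∈ A, u * a = a * u := by
          intro a ha
          have e : u = x⁻¹ * (t * x * t⁻¹) := by rw [hu]; group
          have h3 : x⁻¹ * a = a * x⁻¹ := by
            have := hxA a ha
            calc x⁻¹ * a = x⁻¹ * (a * x) * x⁻¹ := by group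
              _ = x⁻¹ * (x * a) * x⁻¹ := by rw [this]
              _ = a * x⁻¹ := by group
          rw [e, mul_assoc, hx'A a ha, ← mul_assoc, h3, mul_assoc]
        -- the commutator c
        obtain ⟨c, hcdef⟩ : ∃ c : G, c = x⁻¹ * u * x * u⁻¹ := ⟨_, rfl⟩
        have hcA : c ∈ A := by rw [hcdef]; exact ih u hu2
        have hcu : Commute c u := (huA c hcA).symm
        have hcx : Commute c x := (hxA c hcA).symm
        have hrel : u * x = x * u * c := by
          have e1 : u * x = x * c * u := by rw [hcdef]; group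
          rw [e1, mul_assoc, hcu.eq, ← mul_assoc]
        have hxu : x * u = t * x * t⁻¹ := by rw [hu]; group
        -- Om p u
        have hOu : Om p u := by
          by_cases hp2 : p = 2
          · have hx4 : x ^ 4 = 1 := by
              have := hx; rw [hp2, om_two_iff] at this; exact this
            have hx2A : x ^ 2 ∈ A := hx2 hp2
            -- u^2 ∈ A
            have hsq : (x * u) ^ 2 = x ^ 2 * u ^ 2 * c := by
              have := mul_pow_aux hrel hcx hcu 2
              simpa [tri] using this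
            have hx'2 : (x * u) ^ 2 ∈ A := by
              rw [hxu, conj_pow]
              exact hAn t htT _ hx2A
            have hu2A : u ^ 2 ∈ A := by
              have e : u ^ 2 = (x ^ 2)⁻¹ * (x * u) ^ 2 * c⁻¹ := by rw [hsq]; group
              rw [e]
              exact A.mul_mem (A.mul_mem (A.inv_mem hx2A) hx'2) (A.inv_mem hcA)
            -- c^2 = 1
            have hc2 : c ^ 2 = 1 := by
              have h1 := pow_mul_aux hrel hcu 2
              have h2 : u ^ 2 * x = x * u ^ 2 := (hxA _ hu2A).symm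
              rw [h2] at h1
              have h3 : x * u ^ 2 * c ^ 2 = x * u ^ 2 * 1 := by rw [mul_one]; exact h1.symm
              exact mul_left_cancel h3
            -- u^4 = 1
            have hu4 : u ^ 4 = 1 := by
              have e4 : (x * u) ^ 4 = 1 := by rw [hxu, conj_pow, hx4, mul_one, mul_inv_cancel]
              have e5 : (x * u) ^ 4 = ((x * u) ^ 2) ^ 2 := by rw [← pow_mul]
              rw [e5, hsq] at e4
              have hcomm1 : Commute (x ^ 2) (u ^ 2) := hAc _ hx2A _ hu2A
              have hcomm2 : Commute (x ^ 2 * u ^ 2) c := hAc _ (A.mul_mem hx2A hu2A) _ hcA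
              rw [hcomm2.mul_pow, hcomm1.mul_pow, hc2, mul_one, ← pow_mul, ← pow_mul, hx4, one_mul] at e4
              exact e4
            exact Or.inr ⟨hp2, hu4⟩
          · have hxp : x ^ p = 1 := (om_odd_iff hp2 x).mp hx
            have hcp : c ^ p = 1 := (om_odd_iff hp2 c).mp (hAe c hcA)
            have hct : c ^ tri p = 1 := by
              obtain ⟨d, hd⟩ := dvd_tri_of_odd hp hp2
              rw [hd, pow_mul, hcp, one_pow]
            have e1 : (x * u) ^ p = 1 := by rw [hxu, conj_pow, hxp, mul_one, mul_inv_cancel]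
            rw [mul_pow_aux hrel hcx hcu p, hxp, hct, one_mul, mul_one] at e1
            exact Or.inl e1
        exact IH u hu1 huH huA hOu
  have hQ0 : ∀ t ∈ T, x⁻¹ * t * x * t⁻¹ ∈ A := by
    intro t ht
    have := hQ m t (by rw [Nat.sub_self]; exact ht)
    exact this
  exact mem_of_adjoin T H A hAH hAn hAc hAe hmax x hxH hxA hx hQ0

/-- **Relative Alperin lemma.** -/
theorem relAlp [Finite T] (hT : IsPGroup p T)
    (hHT : H ≤ T) (hAH : A ≤ H)
    (hHn : ∀ t ∈ T, ∀ h ∈ H, t * h * t⁻¹ ∈ H)
    (hAn : ∀ t ∈ T, ∀ a ∈ A, t * a * t⁻¹ ∈ A)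
    (hAc : ∀ a ∈ A, ∀ b ∈ A, a * b = b * a)
    (hAe : ∀ a ∈ A, Om p a)
    (hmax : ∀ B : Subgroup G, A ≤ B → B ≤ H → (∀ t ∈ T, ∀ b ∈ B, t * b * t⁻¹ ∈ B) →
      (∀ a ∈ B, ∀ b ∈ B, a * b = b * a) → (∀ b ∈ B, Om p b) → B ≤ A) :
    ∀ x ∈ H, (∀ a ∈ A, x * a = a * x) → Om p x → x ∈ A := by
  obtain ⟨m, hm⟩ := (Subgroup.isNilpotent_iff_lowerCentralSeries T).mp hT.isNilpotent
  have key : ∀ j : ℕ, ∀ x ∈ T.lowerCentralSeries (m - j), x ∈ H → (∀ a ∈ A, x * a = a * x) →
      Om p x → x ∈ A := by
    intro j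
    induction j with
    | zero =>
      intro x hx _ _ _
      rw [Nat.sub_zero, hm, Subgroup.mem_bot] at hx
      rw [hx]; exact A.one_mem
    | succ j ih =>
      by_cases hj : m ≤ j
      · have e : m - (j + 1) = m - j := by omega
        rw [e]; exact ih
      · have e : m - j = (m - (j + 1)) + 1 := by omega
        rw [e] at ih
        intro x hxk hxH hxA hx
        by_cases hp2 : p = 2
        · -- first the square
          have hx4 : x ^ 4 = 1 := by
            have := hx; rw [hp2, om_two_iff] at this; exact this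
          have hsqA : x ^ 2 ∈ A := by
            refine core T H A hT hHT hAH hHn hAn hAc hAe hmax _ ih (x ^ 2)
              (Subgroup.pow_mem _ hxk 2) (H.pow_mem hxH 2) ?_ ?_ ?_
            · intro a ha
              exact ((show Commute x a from hxA a ha).pow_left 2).eq
            · rw [hp2, om_two_iff, ← pow_mul]
              have : x ^ (2 * 4) = (x ^ 4) ^ 2 := by rw [← pow_mul]
              rw [this, hx4, one_pow]
            · intro _
              rw [← pow_mul]
              show x ^ 4 ∈ A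
              rw [hx4]; exact A.one_mem
          exact core T H A hT hHT hAH hHn hAn hAc hAe hmax _ ih x hxk hxH hxA hx (fun _ => hsqA)
        · exact core T H A hT hHT hAH hHn hAn hAc hAe hmax _ ih x hxk hxH hxA hx
            (fun h => absurd h hp2)
  intro x hxH hxA hx
  have := key m x (by rw [Nat.sub_self]; exact hHT hxH) hxH hxA hx
  exact this

end main

end Cfsg.Agent.Lib.Helper64.RelAlp
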