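import Mathlib
import Cfsg.Agent.Lib.Helper64.RelAlp
import Cfsg.Agent.Lib.Helper64.BGHa
import Cfsg.Agent.Lib.Helper88.AutOmega
import Cfsg.Agent.Lib.Helper87.FSRadical
import Cfsg.Agent.H85.Hyp

/-!
# The small-exponent abelian subgroup detecting `p'`-automorphisms

For `P ≤ S` there is an abelian subgroup `A ≤ P` of exponent `p` (`4` if `p = 2`) inside the
hyperfocal subgroup, invariant under `N_S(P)`, such that the automorphisms of `P` in `F` fixing
`A` pointwise are `p`-elements (`exists_A`).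
-/

set_option autoImplicit false

namespace Cfsg.Agent.Lib.Helper64.BGH

open Cfsg Cfsg.FusionSystem Cfsg.Agent.H84 Cfsg.Agent.Lib.Helper33.Omega

universe u

variable {Ω : Type u} [Group Ω] {S : Subgroup Ω}

/-- existence of a maximal subgroup with a property, below a finite subgroup -/
theorem exists_max_subgroup (H : Subgroup Ω) [Finite H] (Pr : Subgroup Ω → Prop)
    (hle : ∀ B, Pr B → B ≤ H) (h0 : ∃ B, Pr B) :
    ∃ A, Pr A ∧ ∀ B, Pr B → A ≤ B → B ≤ A := by
  classical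
  have hbound : ∀ B, Pr B → Nat.card B ≤ Nat.card H := fun B hB =>
    Subgroup.card_le_of_le (hle B hB)
  obtain ⟨B₀, hB₀⟩ := h0
  have hex : ∃ n, n ≤ Nat.card H ∧ ∃ B, Pr B ∧ Nat.card B = n :=
    ⟨Nat.card B₀, hbound B₀ hB₀, B₀, hB₀, rfl⟩
  have hspec := Nat.findGreatest_spec (P := fun n => ∃ B, Pr B ∧ Nat.card B = n)
    (hbound B₀ hB₀) ⟨B₀, hB₀, rfl⟩
  obtain ⟨A, hA, hAcard⟩ := hspec
  refine ⟨A, hA, fun B hB hAB => ?_⟩
  have hBfin : Finite B := Finite.of_injective (Subgroup.inclusion (hle B hB))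
    (Subgroup.inclusion_injective _)
  have h1 : Nat.card B ≤ Nat.findGreatest (fun n => ∃ B, Pr B ∧ Nat.card B = n) (Nat.card H) :=
    Nat.le_findGreatest (hbound B hB) ⟨B, hB, rfl⟩
  rw [← hAcard] at h1
  exact (Subgroup.eq_of_le_of_card_ge hAB h1).ge

theorem exists_A [Finite S] {p : ℕ} [Fact p.Prime] (hS : IsPGroup p S) (F : FusionSystem S)
    {P : Subgroup Ω} (hPS : P ≤ S) :
    ∃ A : Subgroup Ω, A ≤ P ∧ A ≤ F.hyperfocalSubgroup p ∧
      (∀ t ∈ normalizerIn S P, ∀ a ∈ A, t * a * t⁻¹ ∈ A) ∧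
      (∀ a ∈ A, ∀ b ∈ A, a * b = b * a) ∧ (∀ a ∈ A, Om p a) ∧ FixP F p P A := by
  have hfinP : Finite P := finite_of_le hPS
  have hPp : IsPGroup p P := hS.to_le hPS
  -- the subgroup generated by the x⁻¹ α(x), α of order prime to p
  obtain ⟨HP, hHPdef⟩ : ∃ HP : Subgroup P, HP = Subgroup.closure {y : P | ∃ (α : MulAut P) (x : P),
      α ∈ F.autGroup P ∧ (orderOf α).Coprime p ∧ y = x⁻¹ * α x} := ⟨_, rfl⟩
  have hHPinv : ∀ β ∈ F.autGroup P, ∀ x ∈ HP, β x ∈ HP := by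
    intro β hβ x hx
    have hle : HP ≤ HP.comap β.toMonoidHom := by
      conv_lhs => rw [hHPdef]
      rw [Subgroup.closure_le]
      rintro _ ⟨α, x, hα, hcop, rfl⟩
      show β (x⁻¹ * α x) ∈ HP
      rw [hHPdef]
      apply Subgroup.subset_closure
      refine ⟨β * α * β⁻¹, β x, ?_, ?_, ?_⟩
      · exact (F.autGroup P).mul_mem ((F.autGroup P).mul_mem hβ hα) ((F.autGroup P).inv_mem hβ)
      · have : orderOf (β * α * β⁻¹) = orderOf α := by
          have := orderOf_injective (MulAut.conj β).toMonoidHom (MulAut.conj β).injective α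
          simpa [MulAut.conj_apply] using this
        rw [this]; exact hcop
      · rw [map_mul, map_inv]
        show (β x)⁻¹ * β (α x) = (β x)⁻¹ * β (α (β⁻¹ (β x)))
        rw [MulAut.inv_apply_self]
    exact hle hx
  obtain ⟨H, hHdef⟩ : ∃ H : Subgroup Ω, H = HP.map P.subtype := ⟨_, rfl⟩
  have hHP : H ≤ P := by rw [hHdef]; exact Subgroup.map_subtype_le HP
  have hmemH : ∀ x : P, (x : Ω) ∈ H ↔ x ∈ HP := by
    intro x
    rw [hHdef]
    constructor
    · rintro ⟨y, hy, hyx⟩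
      have : y = x := Subtype.ext hyx
      rwa [← this]
    · intro hx
      exact ⟨x, hx, rfl⟩
  have hHhyp : H ≤ F.hyperfocalSubgroup p := by
    rw [hHdef, Subgroup.map_le_iff_le_comap, hHPdef, Subgroup.closure_le]
    rintro _ ⟨α, x, hα, hcop, rfl⟩
    show ((x⁻¹ * α x : P) : Ω) ∈ F.hyperfocalSubgroup p
    have hres : (⟨α, hα⟩ : F.autGroup P) ∈ pResidual p (F.autGroup P) := by
      apply Subgroup.subset_closure
      show Nat.Coprime (orderOf (⟨α, hα⟩ : F.autGroup P)) p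
      rw [Subgroup.orderOf_mk]
      exact hcop
    exact Cfsg.Agent.H85.mem_hyperfocal_of F p hPS ⟨α, hα⟩ hres x
  obtain ⟨T, hTdef⟩ : ∃ T : Subgroup Ω, T = normalizerIn S P := ⟨_, rfl⟩
  have hTS : T ≤ S := by rw [hTdef]; exact inf_le_left
  have hfinT : Finite T := finite_of_le hTS
  have hTp : IsPGroup p T := hS.to_le hTS
  have hPT : P ≤ T := by rw [hTdef]; exact le_normalizerIn S hPS
  have hHT : H ≤ T := hHP.trans hPT
  have hfinH : Finite H := finite_of_le (hHT.trans hTS)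
  -- conjugation by t ∈ T as an automorphism of P in F
  have hconj : ∀ t ∈ T, ∃ γ ∈ F.autGroup P, ∀ x : P, ((γ x : P) : Ω) = t * x * t⁻¹ := by
    intro t ht
    rw [hTdef] at ht
    refine ⟨P.normalizerMonoidHom ⟨t, ht.2⟩, ?_, fun x => rfl⟩
    exact autInducedBy_le_autGroup F hPS
      ((mem_autInducedBy_iff S P _).mpr ⟨t, ht.1, fun x => rfl⟩)
  have hHn : ∀ t ∈ T, ∀ h ∈ H, t * h * t⁻¹ ∈ H := by
    intro t ht h hh
    obtain ⟨γ, hγ, hγv⟩ := hconj t ht
    have h1 := hHPinv γ hγ ⟨h, hHP hh⟩ ((hmemH ⟨h, hHP hh⟩).mp hh)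
    have h2 := (hmemH _).mpr h1
    rw [hγv] at h2
    exact h2
  -- maximal A
  obtain ⟨A, ⟨hAH, hAn, hAc, hAe⟩, hAmax⟩ := exists_max_subgroup H
    (fun B => B ≤ H ∧ (∀ t ∈ T, ∀ b ∈ B, t * b * t⁻¹ ∈ B) ∧ (∀ a ∈ B, ∀ b ∈ B, a * b = b * a) ∧
      ∀ b ∈ B, Om p b)
    (fun B hB => hB.1)
    ⟨⊥, bot_le, by
      intro t _ b hb
      rw [Subgroup.mem_bot] at hb ⊢
      rw [hb]; group, by
      intro a ha b hb
      rw [Subgroup.mem_bot] at ha hb
      rw [ha, hb], by
      intro b hb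
      rw [Subgroup.mem_bot] at hb
      rw [hb]; exact Cfsg.Agent.Lib.Helper64.RelAlp.om_one p⟩
  have hRA := Cfsg.Agent.Lib.Helper64.RelAlp.relAlp T H A hTp hHT hAH hHn hAn hAc hAe
    (fun B hAB hBH hBn hBc hBe => hAmax B ⟨hBH, hBn, hBc, hBe⟩ hAB)
  have hAP : A ≤ P := hAH.trans hHP
  refine ⟨A, hAP, hAH.trans hHhyp, ?_, hAc, hAe, ?_⟩
  · rw [← hTdef]; exact hAn
  -- FixP
  obtain ⟨B, hBdef⟩ : ∃ B : Subgroup (MulAut P), B = F.autGroup P ⊓
      { carrier := {τ : MulAut P | ∀ x : P, (x : Ω) ∈ A → τ x = x}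
        mul_mem' := by
          intro a b ha hb x hx
          show a (b x) = x
          rw [hb x hx, ha x hx]
        one_mem' := fun x _ => rfl
        inv_mem' := by
          intro a ha x hx
          show a.symm x = x
          rw [MulEquiv.symm_apply_eq]
          exact (ha x hx).symm } := ⟨_, rfl⟩
  have hBmem : ∀ τ : MulAut P, τ ∈ B ↔ τ ∈ F.autGroup P ∧ ∀ x : P, (x : Ω) ∈ A → τ x = x := by
    intro τ
    rw [hBdef]
    exact Iff.rfl
  have hBp : IsPGroup p B := by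
    apply Cfsg.Agent.Lib.Helper88.AutOmega.isPGroup_of_coprime_trivial p B
    intro β hβB hcop
    obtain ⟨hβ, hβfix⟩ := (hBmem β).mp hβB
    have hgen : ∀ x : P, x⁻¹ * β x ∈ HP := by
      intro x
      rw [hHPdef]
      exact Subgroup.subset_closure ⟨β, x, hβ, hcop, rfl⟩
    have hHinv : ∀ x ∈ HP, β x ∈ HP := hHPinv β hβ
    -- A inside P
    obtain ⟨AP, hAPdef⟩ : ∃ AP : Subgroup P, AP = A.comap P.subtype := ⟨_, rfl⟩
    have hAPmem : ∀ x : P, x ∈ AP ↔ (x : Ω) ∈ A := fun x => by rw [hAPdef]; exact Iff.rfl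
    obtain ⟨CP, hCPdef⟩ : ∃ CP : Subgroup P, CP = HP ⊓ Subgroup.centralizer (AP : Set P) := ⟨_, rfl⟩
    have hCPmem : ∀ x : P, x ∈ CP ↔ x ∈ HP ∧ ∀ a ∈ AP, a * x = x * a := by
      intro x
      rw [hCPdef, Subgroup.mem_inf, Subgroup.mem_centralizer_iff]
      exact Iff.rfl
    have hCinv : ∀ x ∈ CP, β x ∈ CP := by
      intro x hx
      obtain ⟨hx1, hx2⟩ := (hCPmem x).mp hx
      refine (hCPmem _).mpr ⟨hHinv x hx1, fun a ha => ?_⟩
      have hβa : β a = a := hβfix a ((hAPmem a).mp ha)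
      calc a * β x = β a * β x := by rw [hβa]
        _ = β (a * x) := (map_mul β a x).symm
        _ = β (x * a) := by rw [hx2 a ha]
        _ = β x * a := by rw [map_mul, hβa]
    have hCfix : ∀ x ∈ CP, Om p x → β x = x := by
      intro x hx hom
      obtain ⟨hx1, hx2⟩ := (hCPmem x).mp hx
      apply hβfix
      refine hRA (x : Ω) ((hmemH x).mpr hx1) ?_ ?_
      · intro a ha
        have h1 := hx2 ⟨a, hAP ha⟩ ((hAPmem _).mpr ha)
        have h2 := congrArg Subtype.val h1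
        exact h2.symm
      · rcases hom with h | ⟨h2, h⟩
        · left
          have := congrArg Subtype.val h
          simpa using this
        · right
          refine ⟨h2, ?_⟩
          have := congrArg Subtype.val h
          simpa using this
    have h3 := Cfsg.Agent.Lib.Helper88.AutOmega.fix_of_fix_om p β hcop CP (hPp.to_subgroup CP)
      hCinv hCfix
    have hHfix : ∀ h ∈ HP, β h = h := by
      intro h hh
      have hv : h⁻¹ * β h ∈ CP := by
        refine (hCPmem _).mpr ⟨hgen h, fun a ha => ?_⟩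
        -- h a h⁻¹ ∈ A is fixed by β
        have hha : (h * a * h⁻¹ : P) ∈ AP := by
          rw [hAPmem]
          have := hAn (h : Ω) (hPT h.2) (a : Ω) ((hAPmem a).mp ha)
          exact this
        have hβa : β a = a := hβfix a ((hAPmem a).mp ha)
        have h1 : β (h * a * h⁻¹) = h * a * h⁻¹ := hβfix _ ((hAPmem _).mp hha)
        rw [map_mul, map_mul, map_inv, hβa] at h1
        calc a * (h⁻¹ * β h) = h⁻¹ * (h * a * h⁻¹) * β h := by group
          _ = h⁻¹ * (β h * a * (β h)⁻¹) * β h := by rw [h1]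
          _ = h⁻¹ * β h * a := by group
      exact Cfsg.Agent.Lib.Helper87.FSRadical.fix_of_fix_quot hPp β hcop h (h3 _ hv)
    ext x
    have := Cfsg.Agent.Lib.Helper87.FSRadical.fix_of_fix_quot hPp β hcop x (hHfix _ (hgen x))
    rw [this]
    rfl
  intro τ hτ hτfix
  have hτB : τ ∈ B := (hBmem τ).mpr ⟨(mem_autGroup_iff_isIso F hPS τ).mpr hτ, hτfix⟩
  obtain ⟨k, hk⟩ := hBp ⟨τ, hτB⟩
  exact ⟨k, congrArg Subtype.val hk⟩

end Cfsg.Agent.Lib.Helper64.BGH
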