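import Mathlib
import Cfsg.Agent.Lib.Helper64.BGHb
import Cfsg.Agent.Lib.Helper87.FSAlperin
import Cfsg.Agent.Lib.Helper88.FSBase
import Cfsg.Agent.S5124
import Cfsg.Agent.H85.FullyNorm
import Cfsg.Agent.H85.GroupFS2

/-!
# Small exponent abelian subgroups of the hyperfocal subgroup control fusion

`main`: saturated `E ≤ F` on `S` with `Hom_F(A,B) ⊆ Hom_E(A,B)` for all abelian `A, B` inside the
hyperfocal subgroup of `F` all of whose elements satisfy `Om p` (`x^p = 1`, or `x^4 = 1` if `p = 2`)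
are equal.
-/

set_option autoImplicit false

namespace Cfsg.Agent.Lib.Helper64.BGH

open Cfsg Cfsg.FusionSystem Cfsg.Agent.H84 Cfsg.Agent.Lib.Helper33.Omega

universe u

variable {Ω : Type u} [Group Ω] {S : Subgroup Ω}

/-- the hypothesis in uniform form -/
def SmallControl (E F : FusionSystem S) (p : ℕ) : Prop :=
  ∀ A B : Subgroup Ω, A ≤ F.hyperfocalSubgroup p → B ≤ F.hyperfocalSubgroup p →
    (∀ a ∈ A, ∀ b ∈ A, a * b = b * a) → (∀ a ∈ A, Om p a) →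
    (∀ a ∈ B, ∀ b ∈ B, a * b = b * a) → (∀ b ∈ B, Om p b) → F.homSet A B ⊆ E.homSet A B

/-- For an automorphism `φ` of `P₁` in `F`: a map `ψ₁` of `E` on `P₁` such that `ψ₁ ∘ φ` fixes
`A₁` pointwise. -/
theorem exists_psi_theta [Finite S] {p : ℕ} [Fact p.Prime] (hS : IsPGroup p S)
    (E F : FusionSystem S) (hF : F.IsSaturated p) (hEF : ∀ P, E.Hom P ⊆ F.Hom P)
    (hyp : SmallControl E F p)
    {P₁ A₁ : Subgroup Ω} (hP₁S : P₁ ≤ S) (hA₁P₁ : A₁ ≤ P₁)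
    (hA₁hyp : A₁ ≤ F.hyperfocalSubgroup p)
    (hA₁c : ∀ a ∈ A₁, ∀ b ∈ A₁, a * b = b * a) (hA₁e : ∀ a ∈ A₁, Om p a)
    (hA₁n : ∀ y ∈ P₁, ∀ a ∈ A₁, y * a * y⁻¹ ∈ A₁)
    (hrecA₁ : E.IsReceptive A₁)
    (φ : MulAut P₁) (hφ : IsIso F (φ : P₁ ≃* P₁)) :
    ∃ ψ₁ ∈ E.Hom P₁, ∃ θ ∈ F.Hom P₁, (∀ x : P₁, θ x = ψ₁ (φ x)) ∧
      (∀ x : P₁, (x : Ω) ∈ A₁ → θ x = x) := by
  have hsc := Cfsg.Agent.S5124.result p hS F hF
  obtain ⟨Φ, hΦdef⟩ : ∃ Φ : P₁ →* Ω, Φ = P₁.subtype.comp (φ : P₁ ≃* P₁).toMonoidHom := ⟨_, rfl⟩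
  have hΦ : Φ ∈ F.Hom P₁ := by rw [hΦdef]; exact hφ
  have hΦval : ∀ x : P₁, Φ x = ((φ x : P₁) : Ω) := fun x => by rw [hΦdef]; rfl
  obtain ⟨φA, hφAdef⟩ : ∃ φA : A₁ →* Ω, φA = Φ.comp (Subgroup.inclusion hA₁P₁) := ⟨_, rfl⟩
  have hφA : φA ∈ F.Hom A₁ := by rw [hφAdef]; exact hom_restrict F hΦ hA₁P₁
  have hφAval : ∀ a : A₁, φA a = ((φ ⟨a, hA₁P₁ a.2⟩ : P₁) : Ω) := fun a => by
    rw [hφAdef]; exact hΦval _
  obtain ⟨A', hA'def⟩ : ∃ A' : Subgroup Ω, A' = φA.range := ⟨_, rfl⟩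
  have hA'mem : ∀ z, z ∈ A' ↔ ∃ a : A₁, φA a = z := by
    intro z; rw [hA'def]; exact Iff.rfl
  have hA'hyp : A' ≤ F.hyperfocalSubgroup p := by
    intro z hz
    obtain ⟨a, rfl⟩ := (hA'mem z).mp hz
    exact hsc.2 A₁ hA₁hyp φA hφA a
  have hA'c : ∀ a ∈ A', ∀ b ∈ A', a * b = b * a := by
    intro a ha b hb
    obtain ⟨a', rfl⟩ := (hA'mem a).mp ha
    obtain ⟨b', rfl⟩ := (hA'mem b).mp hb
    rw [← map_mul, ← map_mul]
    congr 1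
    exact Subtype.ext (hA₁c a' a'.2 b' b'.2)
  have hA'e : ∀ a ∈ A', Om p a := by
    intro a ha
    obtain ⟨a', rfl⟩ := (hA'mem a).mp ha
    rcases hA₁e a' a'.2 with h | ⟨h2, h⟩
    · left
      have e : a' ^ p = 1 := Subtype.ext (by simpa using h)
      rw [← map_pow, e, map_one]
    · right
      have e : a' ^ 4 = 1 := Subtype.ext (by simpa using h)
      exact ⟨h2, by rw [← map_pow, e, map_one]⟩
  have hφAE : φA ∈ E.Hom A₁ :=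
    (hyp A₁ A' hA₁hyp hA'hyp hA₁c hA₁e hA'c hA'e ⟨hφA, fun x => (hA'mem _).mpr ⟨x, rfl⟩⟩).1
  obtain ⟨χ, hχ, hχinv, hχrange⟩ := Cfsg.Agent.Lib.Helper88.FSBase.inv_mem' E hφAE hA'def.symm
  obtain ⟨ψ, hψ, hext⟩ := hrecA₁.2 A' χ hχ hχrange
  have hφmem : ∀ (a : P₁), (a : Ω) ∈ A₁ → ((φ a : P₁) : Ω) ∈ A' := fun a ha =>
    (hA'mem _).mpr ⟨⟨a, ha⟩, hφAval _⟩
  have hχφ : ∀ (a : P₁) (ha : (a : Ω) ∈ A₁) (hz : ((φ a : P₁) : Ω) ∈ A'),
      χ ⟨((φ a : P₁) : Ω), hz⟩ = (a : Ω) := by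
    intro a ha hz
    have hx : φA ⟨(a : Ω), ha⟩ ∈ A' := (hA'mem _).mpr ⟨_, rfl⟩
    have h1 := hχinv ⟨(a : Ω), ha⟩ hx
    have e : (⟨φA ⟨(a : Ω), ha⟩, hx⟩ : A') = ⟨((φ a : P₁) : Ω), hz⟩ := Subtype.ext (hφAval _)
    rw [e] at h1
    exact h1
  have hfwd : ∀ y ∈ P₁, ∀ z ∈ A', y * z * y⁻¹ ∈ A' := by
    intro y hy z hz
    obtain ⟨a, rfl⟩ := (hA'mem z).mp hz
    obtain ⟨h', hh'⟩ : ∃ h' : P₁, φ h' = ⟨y, hy⟩ := ⟨φ⁻¹ ⟨y, hy⟩, MulAut.apply_inv_self _ _ _⟩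
    have ha' : (h' : Ω) * (a : Ω) * (h' : Ω)⁻¹ ∈ A₁ := hA₁n _ h'.2 _ a.2
    have hmem := hφmem (h' * ⟨a, hA₁P₁ a.2⟩ * h'⁻¹) ha'
    rw [map_mul, map_mul, map_inv, hh'] at hmem
    rw [hφAval]
    exact hmem
  have hP₁ext : P₁ ≤ extender S A' χ := by
    intro y hy
    obtain ⟨h', hh'⟩ : ∃ h' : P₁, φ h' = ⟨y, hy⟩ := ⟨φ⁻¹ ⟨y, hy⟩, MulAut.apply_inv_self _ _ _⟩
    refine Subgroup.subset_closure ⟨hP₁S hy, ?_, (h' : Ω), hP₁S h'.2, fun x hx => ?_⟩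
    · exact Cfsg.Agent.H85.mem_normalizer_of_forall (fun t ht => hfwd y hy t ht) (fun t ht => by
        have := hfwd y⁻¹ (P₁.inv_mem hy) t ht
        rwa [inv_inv] at this)
    · obtain ⟨a, hax⟩ := (hA'mem _).mp x.2
      obtain ⟨a₀, ha₀def⟩ : ∃ a₀ : P₁, a₀ = ⟨a, hA₁P₁ a.2⟩ := ⟨_, rfl⟩
      have ha₀ : (a₀ : Ω) ∈ A₁ := by rw [ha₀def]; exact a.2
      have hxa : (x : Ω) = ((φ a₀ : P₁) : Ω) := by rw [← hax, hφAval, ha₀def]
      have ha' : ((h' * a₀ * h'⁻¹ : P₁) : Ω) ∈ A₁ := hA₁n _ h'.2 _ ha₀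
      have hz := hφmem (h' * a₀ * h'⁻¹) ha'
      have hz₂ := hφmem a₀ ha₀
      have e1 : (⟨y * x * y⁻¹, hx⟩ : A') = ⟨((φ (h' * a₀ * h'⁻¹) : P₁) : Ω), hz⟩ := by
        apply Subtype.ext
        show y * (x : Ω) * y⁻¹ = ((φ (h' * a₀ * h'⁻¹) : P₁) : Ω)
        rw [map_mul, map_mul, map_inv, hh', hxa]
        rfl
      have e2 : x = ⟨((φ a₀ : P₁) : Ω), hz₂⟩ := Subtype.ext hxa
      calc χ ⟨y * x * y⁻¹, hx⟩ = χ ⟨((φ (h' * a₀ * h'⁻¹) : P₁) : Ω), hz⟩ := congrArg χ e1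
        _ = ((h' * a₀ * h'⁻¹ : P₁) : Ω) := hχφ _ ha' hz
        _ = (h' : Ω) * (a₀ : Ω) * (h' : Ω)⁻¹ := rfl
        _ = (h' : Ω) * χ ⟨((φ a₀ : P₁) : Ω), hz₂⟩ * (h' : Ω)⁻¹ := by rw [hχφ a₀ ha₀ hz₂]
        _ = (h' : Ω) * χ x * (h' : Ω)⁻¹ := by rw [← e2]
  obtain ⟨ψ₁, hψ₁def⟩ : ∃ ψ₁ : P₁ →* Ω, ψ₁ = ψ.comp (Subgroup.inclusion hP₁ext) := ⟨_, rfl⟩
  have hψ₁ : ψ₁ ∈ E.Hom P₁ := by
    rw [hψ₁def]; exact Cfsg.Agent.Lib.Helper87.FSBasic.restrict_mem E hψ hP₁ext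
  have hψ₁val : ∀ x : P₁, ψ₁ x = ψ ⟨x, hP₁ext x.2⟩ := fun x => by rw [hψ₁def]; rfl
  have hΦP : ∀ x : P₁, Φ x ∈ P₁ := fun x => by rw [hΦval]; exact (φ x).2
  obtain ⟨θ, hθ, hθv⟩ := Cfsg.Agent.Lib.Helper88.FSBase.comp_mem' F hΦ (hEF _ hψ₁) hΦP
  have hθφ : ∀ x : P₁, θ x = ψ₁ (φ x) := by
    intro x
    rw [hθv]
    congr 1
    exact Subtype.ext (hΦval x)
  refine ⟨ψ₁, hψ₁, θ, hθ, hθφ, fun x hx => ?_⟩
  rw [hθφ, hψ₁val]
  have hz := hφmem x hx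
  rw [hext _ hz (hP₁ext (φ x).2)]
  exact hχφ x hx hz

/-- **Small exponent abelian subgroups of the hyperfocal subgroup control fusion.** -/
theorem main [Finite S] {p : ℕ} [Fact p.Prime] (hS : IsPGroup p S)
    (E F : FusionSystem S) (hE : E.IsSaturated p) (hF : F.IsSaturated p)
    (hEF : ∀ P, E.Hom P ⊆ F.Hom P) (hyp : SmallControl E F p) :
    ∀ P : Subgroup Ω, F.Hom P ⊆ E.Hom P := by
  apply Cfsg.Agent.Lib.Helper87.FSAlperin.alperin_induction hS F hF E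
  intro P hfa hrec IH α hα hr
  have hPS : P ≤ S := hfa.1
  have hfinP : Finite P := finite_of_le hPS
  have hsc := Cfsg.Agent.S5124.result p hS F hF
  obtain ⟨A, hAP, hAhyp, hAn, hAc, hAe, hfix⟩ := exists_A hS F hPS
  -- the E-receptive conjugate of A
  obtain ⟨A₁, hconjA, hfaA₁, hrecA₁⟩ := hE A (hAP.trans hPS)
  obtain ⟨eA, heA⟩ := (isConj_iff_exists_iso E).mp hconjA
  obtain ⟨ρ, hρ, -, hρA, hρsurj⟩ := exists_normalizer_hom hS E hfaA₁ hrecA₁ eA heA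
  have hPNA : P ≤ normalizerIn S A := by
    intro x hx
    refine ⟨hPS hx, Cfsg.Agent.H85.mem_normalizer_of_forall
      (fun a ha => hAn x (le_normalizerIn S hPS hx) a ha) (fun a ha => ?_)⟩
    have := hAn x⁻¹ (le_normalizerIn S hPS (P.inv_mem hx)) a ha
    rwa [inv_inv] at this
  obtain ⟨ρP, hρPdef⟩ : ∃ ρP : P →* Ω, ρP = ρ.comp (Subgroup.inclusion hPNA) := ⟨_, rfl⟩
  have hρP : ρP ∈ E.Hom P := by
    rw [hρPdef]; exact Cfsg.Agent.Lib.Helper87.FSBasic.restrict_mem E hρ hPNA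
  have hρPval : ∀ x : P, ρP x = ρ ⟨x, hPNA x.2⟩ := fun x => by rw [hρPdef]; rfl
  obtain ⟨P₁, e₁, he₁val⟩ : ∃ (P₁ : Subgroup Ω) (e₁ : P ≃* P₁), ∀ x : P, ((e₁ x : P₁) : Ω) = ρP x :=
    ⟨ρP.range, ρP.ofInjective (E.injective_of_mem hρP), fun x => rfl⟩
  have he₁E : IsIso E e₁ := IsIso.of_hom hρP e₁ he₁val
  have he₁F : IsIso F e₁ := IsIso.of_hom (hEF _ hρP) e₁ he₁val
  have hP₁S : P₁ ≤ S := he₁F.le_right
  have hfinP₁ : Finite P₁ := finite_of_le hP₁S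
  have he₁A : ∀ x : P, (x : Ω) ∈ A → ((e₁ x : P₁) : Ω) ∈ A₁ := by
    intro x hx
    rw [he₁val, hρPval]
    exact hρA x hx _
  have hA₁pre : ∀ z ∈ A₁, ∃ x : P, (x : Ω) ∈ A ∧ ((e₁ x : P₁) : Ω) = z := by
    intro z hz
    obtain ⟨x, hx, hN, hxz⟩ := hρsurj z hz
    exact ⟨⟨x, hAP hx⟩, hx, by rw [he₁val, hρPval]; exact hxz⟩
  have hA₁P₁ : A₁ ≤ P₁ := by
    intro z hz
    obtain ⟨x, -, rfl⟩ := hA₁pre z hz
    exact (e₁ x).2
  have hfix₁ : FixP F p P₁ A₁ := hfix.transport e₁ he₁F he₁A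
  have hA₁hyp : A₁ ≤ F.hyperfocalSubgroup p := by
    intro z hz
    obtain ⟨x, hx, rfl⟩ := hA₁pre z hz
    have h1 : (P₁.subtype.comp e₁.toMonoidHom).comp (Subgroup.inclusion hAP) ∈ F.Hom A :=
      hom_restrict F he₁F hAP
    exact hsc.2 A hAhyp _ h1 ⟨x, hx⟩
  have hA₁c : ∀ a ∈ A₁, ∀ b ∈ A₁, a * b = b * a := by
    intro a ha b hb
    obtain ⟨x, hx, rfl⟩ := hA₁pre a ha
    obtain ⟨x', hx', rfl⟩ := hA₁pre b hb
    have h1 : x * x' = x' * x := Subtype.ext (hAc x hx x' hx')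
    have h2 : ((e₁ (x * x') : P₁) : Ω) = ((e₁ (x' * x) : P₁) : Ω) := by rw [h1]
    rw [map_mul, map_mul] at h2
    exact h2
  have hA₁e : ∀ a ∈ A₁, Om p a := by
    intro a ha
    obtain ⟨x, hx, rfl⟩ := hA₁pre a ha
    rcases hAe x hx with h | ⟨h2, h⟩
    · left
      have e : x ^ p = 1 := Subtype.ext (by simpa using h)
      have h3 : ((e₁ (x ^ p) : P₁) : Ω) = 1 := by rw [e, map_one]; rfl
      rw [map_pow] at h3
      simpa using h3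
    · right
      have e : x ^ 4 = 1 := Subtype.ext (by simpa using h)
      have h3 : ((e₁ (x ^ 4) : P₁) : Ω) = 1 := by rw [e, map_one]; rfl
      rw [map_pow] at h3
      exact ⟨h2, by simpa using h3⟩
  have hA₁n : ∀ y ∈ P₁, ∀ a ∈ A₁, y * a * y⁻¹ ∈ A₁ := by
    intro y hy a ha
    obtain ⟨x, hx, rfl⟩ := hA₁pre a ha
    obtain ⟨y₀, hy₀⟩ : ∃ y₀ : P, e₁ y₀ = ⟨y, hy⟩ := ⟨e₁.symm ⟨y, hy⟩, e₁.apply_symm_apply _⟩
    have h1 : ((y₀ * x * y₀⁻¹ : P) : Ω) ∈ A := hAn _ (le_normalizerIn S hPS y₀.2) _ hx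
    have h2 := he₁A _ h1
    rw [map_mul, map_mul, map_inv, hy₀] at h2
    exact h2
  have hSC := fun (φ : MulAut P₁) (hφ : IsIso F (φ : P₁ ≃* P₁)) =>
    exists_psi_theta hS E F hF hEF hyp hP₁S hA₁P₁ hA₁hyp hA₁c hA₁e hA₁n hrecA₁ φ hφ
  -- a map fixing A₁ pointwise acts on A₁ like the identity by conjugation
  have hθconj : ∀ θ : P₁ →* Ω, (∀ x : P₁, (x : Ω) ∈ A₁ → θ x = x) →
      ∀ (r : P₁), ∀ a ∈ A₁, θ r * a * (θ r)⁻¹ = r * a * (r : Ω)⁻¹ := by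
    intro θ hθA r a ha
    have h1 : ((r * ⟨a, hA₁P₁ ha⟩ * r⁻¹ : P₁) : Ω) ∈ A₁ := hA₁n _ r.2 _ ha
    have h2 := hθA _ h1
    rw [map_mul, map_mul, map_inv, hθA ⟨a, hA₁P₁ ha⟩ ha] at h2
    exact h2
  -- the automorphism α
  obtain ⟨α', hα', hα'v⟩ := Cfsg.Agent.Lib.Helper88.FSBase.exists_aut_of_mem F hα hr
  have hα'iso : IsIso F (α' : P ≃* P) := (mem_autGroup_iff_isIso F hPS α').mp hα'
  suffices hgoal : IsIso E (α' : P ≃* P) from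
    Cfsg.Agent.Lib.Helper87.FSBasic.mem_of_eq E hgoal.hom (fun x => (hα'v x).symm)
  have hcongr : ∀ β : MulAut P, IsIso F (β : P ≃* P) →
      IsIso F ((MulAut.congr e₁ β : MulAut P₁) : P₁ ≃* P₁) := fun β hβ =>
    IsIso.of_hom ((he₁F.symm.trans hβ).trans he₁F).hom _ (fun x => rfl)
  by_cases hC : centralizerIn S A₁ ≤ P₁
  · -- Case 1
    have D1 : ∀ β : MulAut P, IsIso F (β : P ≃* P) → ∃ ε u : MulAut P, ε ∈ E.autGroup P ∧
        u ∈ F.autGroup P ∧ (∀ x : P, (x : Ω) ∈ A → u x = x) ∧ β = ε * u := by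
      intro β hβ
      obtain ⟨ψ₁, hψ₁, θ, hθ, hθφ, hθA⟩ := hSC (MulAut.congr e₁ β) (hcongr β hβ)
      have hθP : ∀ r : P₁, θ r ∈ P₁ := by
        intro r
        have hc : (r : Ω)⁻¹ * θ r ∈ centralizerIn S A₁ := by
          refine ⟨S.mul_mem (S.inv_mem (hP₁S r.2)) ((F.le_of_mem hθ).2 r), ?_⟩
          show _ ∈ Subgroup.centralizer (A₁ : Set Ω)
          rw [Subgroup.mem_centralizer_iff]
          intro a ha
          have h1 := hθconj θ hθA r a ha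
          calc a * ((r : Ω)⁻¹ * θ r) = (r : Ω)⁻¹ * ((r : Ω) * a * (r : Ω)⁻¹) * θ r := by group
            _ = (r : Ω)⁻¹ * (θ r * a * (θ r)⁻¹) * θ r := by rw [h1]
            _ = (r : Ω)⁻¹ * θ r * a := by group
        have h2 : θ r = (r : Ω) * ((r : Ω)⁻¹ * θ r) := by group
        rw [h2]
        exact P₁.mul_mem r.2 (hC hc)
      have hθr : θ.range = P₁ := Cfsg.Agent.Lib.Helper88.FSBase.range_eq_of_finite F hθ hθP
      obtain ⟨θh, hθh, hθhv⟩ := Cfsg.Agent.Lib.Helper88.FSBase.exists_aut_of_mem F hθ hθr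
      have hψ₁P : ∀ z : P₁, ψ₁ z ∈ P₁ := by
        intro z
        have h1 := hθφ ((MulAut.congr e₁ β)⁻¹ z)
        rw [MulAut.apply_inv_self] at h1
        rw [← h1]
        exact hθP _
      have hψ₁r : ψ₁.range = P₁ := Cfsg.Agent.Lib.Helper88.FSBase.range_eq_of_finite E hψ₁ hψ₁P
      obtain ⟨ψh, hψh, hψhv⟩ := Cfsg.Agent.Lib.Helper88.FSBase.exists_aut_of_mem E hψ₁ hψ₁r
      have hrel : ∀ x : P₁, ψh ((MulAut.congr e₁ β) x) = θh x := fun x =>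
        Subtype.ext (by rw [hψhv, hθhv, hθφ])
      have hφeq : MulAut.congr e₁ β = ψh⁻¹ * θh := by
        ext x
        show (((MulAut.congr e₁ β) x : P₁) : Ω) = ((ψh⁻¹ (θh x) : P₁) : Ω)
        rw [← hrel, MulAut.inv_apply_self]
      refine ⟨MulAut.congr e₁.symm ψh⁻¹, MulAut.congr e₁.symm θh, ?_, ?_, ?_, ?_⟩
      · rw [mem_autGroup_iff_isIso E hPS]
        have h1 : IsIso E ((ψh⁻¹ : MulAut P₁) : P₁ ≃* P₁) :=
          (mem_autGroup_iff_isIso E hP₁S _).mp ((E.autGroup P₁).inv_mem hψh)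
        exact IsIso.of_hom ((he₁E.trans h1).trans he₁E.symm).hom _ (fun x => rfl)
      · rw [mem_autGroup_iff_isIso F hPS]
        have h1 : IsIso F ((θh : MulAut P₁) : P₁ ≃* P₁) := (mem_autGroup_iff_isIso F hP₁S _).mp hθh
        exact IsIso.of_hom ((he₁F.trans h1).trans he₁F.symm).hom _ (fun x => rfl)
      · intro x hx
        show e₁.symm (θh (e₁ x)) = x
        have h1 : θh (e₁ x) = e₁ x := Subtype.ext (by rw [hθhv]; exact hθA _ (he₁A x hx))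
        rw [h1, e₁.symm_apply_apply]
      · have h1 : β = MulAut.congr e₁.symm (MulAut.congr e₁ β) := by
          ext x
          show ((β x : P) : Ω) = ((e₁.symm (e₁ (β (e₁.symm (e₁ x)))) : P) : Ω)
          rw [e₁.symm_apply_apply, e₁.symm_apply_apply]
        rw [hφeq, map_mul] at h1
        exact h1
    obtain ⟨γ, hγiso, hγ⟩ := exists_sylow_iso F hfa (MulEquiv.refl P) (IsIso.refl F hPS) hfix
    obtain ⟨εγ, uγ, hεγ, huγ, huγA, hγeq⟩ := D1 γ hγiso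
    obtain ⟨ε, u, hε, hu, huA, hαeq⟩ := D1 α' hα'iso
    have hτ : uγ⁻¹ * u * uγ ∈ F.autGroup P :=
      (F.autGroup P).mul_mem ((F.autGroup P).mul_mem ((F.autGroup P).inv_mem huγ) hu) huγ
    have hτA : ∀ x : P, (x : Ω) ∈ A → (uγ⁻¹ * u * uγ) x = x := by
      intro x hx
      show uγ⁻¹ (u (uγ x)) = x
      rw [huγA x hx, huA x hx]
      have h1 : uγ⁻¹ (uγ x) = x := MulAut.inv_apply_self _ _ _
      rw [huγA x hx] at h1
      exact h1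
    have h1 := hγ (uγ⁻¹ * u * uγ) ((mem_autGroup_iff_isIso F hPS _).mp hτ) hτA
    have h2 : MulAut.congr γ (uγ⁻¹ * u * uγ) ∈ E.autGroup P := autInducedBy_le_autGroup E hPS h1
    have h3 : MulAut.congr γ (uγ⁻¹ * u * uγ) = εγ * u * εγ⁻¹ := by
      have h4 : MulAut.congr γ (uγ⁻¹ * u * uγ) = (γ : MulAut P) * (uγ⁻¹ * u * uγ) * (γ : MulAut P)⁻¹ := by
        ext x
        rfl
      rw [h4, hγeq]
      group
    rw [h3] at h2
    have hu' : u ∈ E.autGroup P := by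
      have h5 : u = εγ⁻¹ * (εγ * u * εγ⁻¹) * εγ := by group
      rw [h5]
      exact (E.autGroup P).mul_mem ((E.autGroup P).mul_mem ((E.autGroup P).inv_mem hεγ) h2) hεγ
    have hα'E : α' ∈ E.autGroup P := by
      rw [hαeq]; exact (E.autGroup P).mul_mem hε hu'
    exact (mem_autGroup_iff_isIso E hPS α').mp hα'E
  · -- Case 2
    obtain ⟨ψ₁, hψ₁, θ, hθ, hθφ, hθA⟩ := hSC (MulAut.congr e₁ α') (hcongr α' hα'iso)
    have hnormC : ∀ y ∈ S, (∀ a ∈ A₁, y * a * y⁻¹ ∈ A₁) → (∀ a ∈ A₁, y⁻¹ * a * y ∈ A₁) →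
        y ∈ Subgroup.normalizer ((centralizerIn S A₁ : Subgroup Ω) : Set Ω) := by
      intro y hyS h1 h2
      have hyN : y ∈ Subgroup.normalizer (A₁ : Set Ω) := Cfsg.Agent.H85.mem_normalizer_of_forall h1 h2
      have hyN' : y⁻¹ ∈ Subgroup.normalizer (A₁ : Set Ω) := Subgroup.inv_mem _ hyN
      refine Cfsg.Agent.H85.mem_normalizer_of_forall (fun c hc => ?_) (fun c hc => ?_)
      · exact ⟨S.mul_mem (S.mul_mem hyS hc.1) (S.inv_mem hyS),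
          Cfsg.Agent.H85.conj_mem_centralizer_of_mem_normalizer hyN hc.2⟩
      · have h3 := Cfsg.Agent.H85.conj_mem_centralizer_of_mem_normalizer hyN' hc.2
        rw [inv_inv] at h3
        exact ⟨S.mul_mem (S.mul_mem (S.inv_mem hyS) hc.1) hyS, h3⟩
    have hP₁norm : P₁ ≤ Subgroup.normalizer ((centralizerIn S A₁ : Subgroup Ω) : Set Ω) := by
      intro y hy
      refine hnormC y (hP₁S hy) (hA₁n y hy) (fun a ha => ?_)
      have := hA₁n y⁻¹ (P₁.inv_mem hy) a ha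
      rwa [inv_inv] at this
    obtain ⟨y, hyC, hyN, hyP⟩ := Cfsg.Agent.Lib.Helper87.FSLocal.exists_mem_normalizer_of_not_le hS
      hP₁S (inf_le_left : centralizerIn S A₁ ≤ S) hP₁norm hC
    -- the image θ(P₁)
    have hR'S : θ.range ≤ S := by
      rintro _ ⟨r, rfl⟩
      exact (F.le_of_mem hθ).2 r
    have hfinR' : Finite θ.range := finite_of_le hR'S
    have hR'n : ∀ z ∈ θ.range, ∀ a ∈ A₁, z * a * z⁻¹ ∈ A₁ := by
      rintro _ ⟨r, rfl⟩ a ha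
      rw [hθconj θ hθA r a ha]
      exact hA₁n _ r.2 _ ha
    have hR'norm : θ.range ≤ Subgroup.normalizer ((centralizerIn S A₁ : Subgroup Ω) : Set Ω) := by
      intro z hz
      refine hnormC z (hR'S hz) (hR'n z hz) (fun a ha => ?_)
      have := hR'n z⁻¹ (θ.range.inv_mem hz) a ha
      rwa [inv_inv] at this
    have hR'C : ¬ centralizerIn S A₁ ≤ θ.range := by
      intro hle
      apply hC
      have hsub : P₁ ≤ θ.range := by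
        intro r hr
        have hc : (θ ⟨r, hr⟩)⁻¹ * r ∈ centralizerIn S A₁ := by
          refine ⟨S.mul_mem (S.inv_mem ((F.le_of_mem hθ).2 _)) (hP₁S hr), ?_⟩
          show _ ∈ Subgroup.centralizer (A₁ : Set Ω)
          rw [Subgroup.mem_centralizer_iff]
          intro a ha
          have h1 := hθconj θ hθA ⟨r, hr⟩ a ha
          calc a * ((θ ⟨r, hr⟩)⁻¹ * r) = (θ ⟨r, hr⟩)⁻¹ * (θ ⟨r, hr⟩ * a * (θ ⟨r, hr⟩)⁻¹) * r := by group
            _ = (θ ⟨r, hr⟩)⁻¹ * (r * a * r⁻¹) * r := by rw [h1]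
            _ = (θ ⟨r, hr⟩)⁻¹ * r * a := by group
        have h2 : r = θ ⟨r, hr⟩ * ((θ ⟨r, hr⟩)⁻¹ * r) := by group
        rw [h2]
        exact θ.range.mul_mem ⟨_, rfl⟩ (hle hc)
      have hcard : Nat.card θ.range = Nat.card P₁ :=
        (Nat.card_congr (MonoidHom.ofInjective (F.injective_of_mem hθ)).toEquiv).symm
      have heq : P₁ = θ.range := Subgroup.eq_of_le_of_card_ge hsub (le_of_eq hcard)
      rw [heq]
      exact hle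
    obtain ⟨y', hy'C, hy'N, hy'R⟩ := Cfsg.Agent.Lib.Helper87.FSLocal.exists_mem_normalizer_of_not_le hS
      hR'S (inf_le_left : centralizerIn S A₁ ≤ S) hR'norm hR'C
    have hθE : θ ∈ E.Hom P₁ := case2 F E hfa hrec IH e₁.symm he₁F.symm hfix₁ θ hθ hθA hA₁P₁
      hyC.1 hyN hyP (fun a ha => ((Subgroup.mem_centralizer_iff.mp hyC.2) a ha).symm)
      hy'C.1 hy'N hy'R (fun a ha => ((Subgroup.mem_centralizer_iff.mp hy'C.2) a ha).symm)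
    have hφE : IsIso E ((MulAut.congr e₁ α' : MulAut P₁) : P₁ ≃* P₁) :=
      Cfsg.Agent.Lib.Helper87.FSBasic.cancel_left E hψ₁ hθE
        (fun x => ((MulAut.congr e₁ α') x).2) (fun x => hθφ x)
    refine IsIso.of_hom ((he₁E.trans hφE).trans he₁E.symm).hom _ (fun x => ?_)
    show ((α' x : P) : Ω) = ((e₁.symm (e₁ (α' (e₁.symm (e₁ x)))) : P) : Ω)
    rw [e₁.symm_apply_apply, e₁.symm_apply_apply]

end Cfsg.Agent.Lib.Helper64.BGH
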