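import Mathlib
import Cfsg.Agent.Lib.Helper80.BTStmt
import Cfsg.Agent.Lib.CT.Wedderburn
import Cfsg.Agent.Lib.CT.PairCount

/-! Piece GB of S0997 (helper64, second seat): a signed sum of irreducible characters vanishing
on the `2`-singular elements has degree divisible by `2^b` and bounded by `√(|G| |S|)`. -/

set_option autoImplicit false

namespace Cfsg.Agent.Lib.Helper64.BTGB

open Cfsg Cfsg.Agent.Lib.Helper80.BTStmt
open Cfsg.Agent.Lib.CT.Wedderburn Cfsg.Agent.Lib.CT.PairCount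
open scoped ComplexConjugate

universe u

theorem main : GB.{u} := by
  intro G _ _ b hb S ε hε hvan
  classical
  have := Fintype.ofFinite G
  have hchar : ∀ χ : IrrCharacter G, IsCharacter G (χ : G → ℂ) := fun χ =>
    isCharacter_of_irr χ.2
  have hD1 : ((∑ χ ∈ S, ε χ * (charDegree (χ : G → ℂ) : ℤ) : ℤ) : ℂ) =
      ∑ χ ∈ S, (ε χ : ℂ) * (χ : G → ℂ) 1 := by
    push_cast
    refine Finset.sum_congr rfl (fun χ _ => ?_)
    rw [char_natCast_charDegree (hchar χ)]
  constructor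
  · have : Fact (Nat.Prime 2) := ⟨Nat.prime_two⟩
    obtain ⟨Q, hQ⟩ := Sylow.exists_subgroup_card_pow_prime 2 hb
    have := Fintype.ofFinite Q
    have hm : ∀ χ : IrrCharacter G, ∃ m : ℕ,
        ∑ w : Q, (χ : G → ℂ) (w : G) = (Nat.card Q : ℂ) * m :=
      fun χ => char_sum_subgroup (hchar χ) Q
    choose m hm using hm
    have hsum1 : ∑ w : Q, ∑ χ ∈ S, (ε χ : ℂ) * (χ : G → ℂ) (w : G) =
        ∑ χ ∈ S, (ε χ : ℂ) * (χ : G → ℂ) 1 := by
      rw [Finset.sum_eq_single (1 : Q)]
      · simp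
      · intro w _ hw
        apply hvan
        have hdvd : orderOf (w : G) ∣ 2 ^ b := by
          rw [← hQ]
          exact Subgroup.orderOf_dvd_natCard Q w.2
        obtain ⟨k, hk, hk'⟩ := (Nat.dvd_prime_pow Nat.prime_two).mp hdvd
        have hk0 : k ≠ 0 := by
          intro h0
          rw [h0, pow_zero, orderOf_eq_one_iff] at hk'
          exact hw (Subtype.ext hk')
        rw [hk']
        exact dvd_pow_self 2 hk0
      · intro h
        exact absurd (Finset.mem_univ _) h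
    have hsum2 : ∑ w : Q, ∑ χ ∈ S, (ε χ : ℂ) * (χ : G → ℂ) (w : G) =
        (((2 : ℤ) ^ b * ∑ χ ∈ S, ε χ * (m χ : ℤ) : ℤ) : ℂ) := by
      rw [Finset.sum_comm]
      push_cast
      rw [Finset.mul_sum]
      refine Finset.sum_congr rfl (fun χ _ => ?_)
      rw [← Finset.mul_sum, hm χ, hQ]
      push_cast
      ring
    have hfin : (∑ χ ∈ S, ε χ * (charDegree (χ : G → ℂ) : ℤ) : ℤ) =
        (2 : ℤ) ^ b * ∑ χ ∈ S, ε χ * (m χ : ℤ) := by
      have h := hD1.trans (hsum1.symm.trans hsum2)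
      exact_mod_cast h
    exact ⟨_, hfin⟩
  · set Φ : G → ℂ := fun g => ∑ χ ∈ S, (ε χ : ℂ) * (χ : G → ℂ) g with hΦ
    have horth : ∀ χ ψ : IrrCharacter G, ∑ g : G, (χ : G → ℂ) g * conj ((ψ : G → ℂ) g) =
        (Nat.card G : ℂ) * (if χ = ψ then 1 else 0) := by
      intro χ ψ
      have ho := irr_orthonormal χ ψ
      rw [classInner] at ho
      have hne : (Nat.card G : ℂ) ≠ 0 := Nat.cast_ne_zero.mpr Nat.card_pos.ne'
      rw [← ho, ← mul_assoc, mul_inv_cancel₀ hne, one_mul]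
    have hsq : ∑ g : G, Φ g * conj (Φ g) = (Nat.card G : ℂ) * (S.card : ℂ) := by
      have h1 : ∀ g : G, Φ g * conj (Φ g) = ∑ χ ∈ S, ∑ ψ ∈ S,
          (ε χ : ℂ) * (ε ψ : ℂ) * ((χ : G → ℂ) g * conj ((ψ : G → ℂ) g)) := by
        intro g
        simp only [hΦ, map_sum, map_mul, map_intCast]
        rw [Finset.sum_mul_sum]
        refine Finset.sum_congr rfl (fun χ _ => Finset.sum_congr rfl (fun ψ _ => ?_))
        ring
      simp_rw [h1]
      rw [Finset.sum_comm]
      have h2 : ∀ χ ∈ S, ∑ g : G, ∑ ψ ∈ S,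
          (ε χ : ℂ) * (ε ψ : ℂ) * ((χ : G → ℂ) g * conj ((ψ : G → ℂ) g)) = (Nat.card G : ℂ) := by
        intro χ hχ
        rw [Finset.sum_comm]
        simp_rw [← Finset.mul_sum, horth]
        rw [Finset.sum_eq_single χ]
        · rw [if_pos rfl, mul_one]
          rcases hε χ hχ with h | h <;> rw [h] <;> push_cast <;> ring
        · intro ψ _ hne
          rw [if_neg (Ne.symm hne)]
          ring
        · intro h
          exact absurd hχ h
      rw [Finset.sum_congr rfl h2, Finset.sum_const, nsmul_eq_mul]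
      ring
    have hreal : ∑ g : G, Complex.normSq (Φ g) = (Nat.card G : ℝ) * (S.card : ℝ) := by
      have h : ((∑ g : G, Complex.normSq (Φ g) : ℝ) : ℂ) =
          (((Nat.card G : ℝ) * (S.card : ℝ) : ℝ) : ℂ) := by
        push_cast
        rw [← hsq]
        refine Finset.sum_congr rfl (fun g _ => ?_)
        rw [Complex.mul_conj]
      exact_mod_cast h
    have hle : Complex.normSq (Φ 1) ≤ ∑ g : G, Complex.normSq (Φ g) :=
      Finset.single_le_sum (f := fun g => Complex.normSq (Φ g))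
        (fun g _ => Complex.normSq_nonneg _) (Finset.mem_univ 1)
    have hΦ1 : Φ 1 = (((∑ χ ∈ S, ε χ * (charDegree (χ : G → ℂ) : ℤ) : ℤ) : ℝ) : ℂ) := by
      rw [Complex.ofReal_intCast]
      exact hD1.symm
    rw [hΦ1, Complex.normSq_ofReal, hreal] at hle
    have hfin : ((∑ χ ∈ S, ε χ * (charDegree (χ : G → ℂ) : ℤ) : ℤ) : ℝ) ^ 2 ≤
        (Nat.card G : ℝ) * (S.card : ℝ) := by
      rw [pow_two]
      exact hle
    exact_mod_cast hfin

end Cfsg.Agent.Lib.Helper64.BTGB
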