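import Mathlib
import Cfsg.Agent.Lib.Helper41.EMStmt
import Cfsg.Agent.Lib.Helper41.TMStmt
import Cfsg.Agent.Lib.Helper64.C2MStmt
import Cfsg.Agent.Lib.Helper44.NegPairs

/-!
# S5990 / C2FIX (minus form): assembly of the sub-call pieces `Helper64.C2MStmt`

`thm_of`: from the landed minus Props `TMStmt.Top`, `SubPerp`, `OrthSum`, `TwoMinusG`,
`EMStmt.CancelM`, `EMStmt.SubTypeE` and the five pieces of `C2MStmt` to `EMStmt.C2Fix`.
`claimM` is the port of helper59's `Helper59.C2Asm.claim` to the minus space; `ellplane` finds an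
invariant elliptic plane in an invariant nondegenerate non-plus subspace; the elliptic `m`-space
is the perp of an invariant hyperbolic `(2d - m)`-space inside the perp of that plane.
-/

set_option autoImplicit false

universe u

open scoped Matrix

namespace Cfsg.Agent.Lib.Helper64.C2MAsm

open Module
open Cfsg.Agent.Lib.Helper45.OMiStmt (M Aniso FxM NDegM StabM)
open Cfsg.Agent.Lib.Helper41.TMTwoStmt (PlusM)
open Cfsg.Agent.Lib.Helper41.TMStmt (Top SubPerp OrthSum TwoMinusG)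
open Cfsg.Agent.Lib.Helper41.EMStmt (CancelM SubTypeE MemEM C2Fix)
open Cfsg.Agent.Lib.Helper64.C2MStmt

section
set_option linter.unusedSectionVars false
variable {F : Type u} [Field F] [Fintype F] {d : ℕ} {a₀ b₀ : F}

theorem stab_sup (X : Matrix (M d) (M d) F) (A B : Submodule F (M d → F))
    (hA : StabM X A) (hB : StabM X B) : StabM X (A ⊔ B) := by
  unfold StabM at hA hB ⊢
  rw [Submodule.map_sup]
  exact sup_le_sup hA hB

theorem stab_bot (X : Matrix (M d) (M d) F) : StabM X (⊥ : Submodule F (M d → F)) := by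
  unfold StabM
  rw [Submodule.map_bot]

theorem ndeg_bot : NDegM d F a₀ b₀ (⊥ : Submodule F (M d → F)) := by
  intro w hw hw0
  exact absurd ((Submodule.mem_bot F).mp hw) hw0

theorem plus_bot : PlusM d F a₀ b₀ (⊥ : Submodule F (M d → F)) := by
  refine ⟨⊥, le_refl _, ?_, by simp⟩
  intro w hw
  rw [(Submodule.mem_bot F).mp hw]
  exact map_zero (Cfsg.Agent.Lib.Helper44.NegPairs.minusQ (d - 1) F a₀ b₀)

/-- gluing two orthogonal blocks -/
theorem glue (hOS : OrthSum.{u}) (hPS : PlusSumM.{u}) (haniso : Aniso a₀ b₀) (X : Matrix (M d) (M d) F)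
    (B W : Submodule F (M d → F)) (hBs : StabM X B) (hBn : NDegM d F a₀ b₀ B) (hBp : PlusM d F a₀ b₀ B)
    (hWs : StabM X W) (hWn : NDegM d F a₀ b₀ W) (hWp : PlusM d F a₀ b₀ W)
    (horth : ∀ u ∈ B, ∀ v ∈ W, QuadraticMap.polar (Cfsg.quadFormMinus (d - 1) F a₀ b₀) u v = 0) :
    StabM X (B ⊔ W) ∧ NDegM d F a₀ b₀ (B ⊔ W) ∧ PlusM d F a₀ b₀ (B ⊔ W) ∧
      finrank F ↥(B ⊔ W) = finrank F ↥B + finrank F ↥W := by
  obtain ⟨h1, h2, h3⟩ := hOS F a₀ b₀ haniso d B W hBn hWn horth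
  exact ⟨stab_sup X B W hBs hWs, h1, hPS F a₀ b₀ d B W horth h2 hBp hWp, h3⟩

/-- the perp of a block inside `A` -/
theorem perp_in (hSP : SubPerp.{u}) (hC : CancelM.{u}) (hOS : OrthSum.{u}) (haniso : Aniso a₀ b₀)
    (x : Matrix.GeneralLinearGroup (M d) F)
    (hx : x ∈ Cfsg.isometryGroup F (Cfsg.quadFormMinus (d - 1) F a₀ b₀))
    (A B : Submodule F (M d → F)) (hAs : StabM (x : Matrix (M d) (M d) F) A) (hAn : NDegM d F a₀ b₀ A)
    (hAp : PlusM d F a₀ b₀ A) (hBA : B ≤ A) (hBs : StabM (x : Matrix (M d) (M d) F) B)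
    (hBn : NDegM d F a₀ b₀ B) (hBp : PlusM d F a₀ b₀ B) :
    ∃ A' : Submodule F (M d → F), A' ≤ A ∧ StabM (x : Matrix (M d) (M d) F) A' ∧ NDegM d F a₀ b₀ A' ∧
      PlusM d F a₀ b₀ A' ∧ finrank F ↥B + finrank F ↥A' = finrank F ↥A ∧
      ∀ u ∈ B, ∀ v ∈ A', QuadraticMap.polar (Cfsg.quadFormMinus (d - 1) F a₀ b₀) u v = 0 := by
  obtain ⟨A', hA'A, hA'n, -, horth, hdim, hstab⟩ := hSP F a₀ b₀ haniso d A B hAn hBn hBA
  obtain ⟨-, -, h3⟩ := hOS F a₀ b₀ haniso d B A' hBn hA'n horth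
  have hsup : B ⊔ A' = A := by
    apply Submodule.eq_of_le_of_finrank_eq (sup_le hBA hA'A)
    rw [h3, hdim]
  have hA'p : PlusM d F a₀ b₀ A' := hC F a₀ b₀ haniso d B A' hBn hA'n horth (by rw [hsup]; exact hAp) hBp
  exact ⟨A', hA'A, hstab x hx hAs hBs, hA'n, hA'p, hdim, horth⟩

end

theorem claimM (hSP : SubPerp.{u}) (hC : CancelM.{u}) (hOS : OrthSum.{u}) (hP0 : Plane0M.{u})
    (hPS : PlusSumM.{u}) (hSg : SingPairM.{u}) (hQV : QuadVanM.{u}) (hB4 : Block4M.{u})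
    (F : Type u) [Field F] [Fintype F] [CharP F 2] (a₀ b₀ : F) (haniso : Aniso a₀ b₀) (d : ℕ)
    (x : Matrix.GeneralLinearGroup (M d) F)
    (hx : x ∈ Cfsg.isometryGroup F (Cfsg.quadFormMinus (d - 1) F a₀ b₀))
    (hxx : (x : Matrix (M d) (M d) F) * (x : Matrix (M d) (M d) F) = 1) :
    ∀ a : ℕ, ∀ A : Submodule F (M d → F), StabM (x : Matrix (M d) (M d) F) A → NDegM d F a₀ b₀ A →
      PlusM d F a₀ b₀ A → finrank F ↥A = 2 * a →
      ∀ n : ℕ, Even n → n ≤ 2 * a → (n % 4 = 0 ∨ Odd a) →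
      ∃ W : Submodule F (M d → F), W ≤ A ∧ StabM (x : Matrix (M d) (M d) F) W ∧ NDegM d F a₀ b₀ W ∧
        PlusM d F a₀ b₀ W ∧ finrank F ↥W = n := by
  intro a
  induction a using Nat.strong_induction_on with
  | _ a ih =>
  intro A hAs hAn hAp hAdim n hne hn hcond
  by_cases hn0 : n = 0
  · exact ⟨⊥, bot_le, stab_bot _, ndeg_bot, plus_bot, by rw [hn0]; simp⟩
  by_cases hnA : n = 2 * a
  · exact ⟨A, le_refl _, hAs, hAn, hAp, by rw [hAdim, hnA]⟩
  obtain ⟨n2, hn2⟩ := hne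
  have hApos : A ≠ ⊥ := by
    intro h
    rw [h] at hAdim
    simp at hAdim
    omega
  have hxv : ∀ v : M d → F, (x : Matrix (M d) (M d) F) *ᵥ ((x : Matrix (M d) (M d) F) *ᵥ v) = v := by
    intro v
    rw [Matrix.mulVec_mulVec, hxx, Matrix.one_mulVec]
  have hxA : ∀ v ∈ A, (x : Matrix (M d) (M d) F) *ᵥ v ∈ A := by
    intro v hv
    have := hAs (Submodule.mem_map_of_mem hv)
    rwa [Matrix.toLin'_apply] at this
  -- the two kinds of steps
  have plane_step : ∀ Pl : Submodule F (M d → F), Pl ≤ A → StabM (x : Matrix (M d) (M d) F) Pl →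
      NDegM d F a₀ b₀ Pl → PlusM d F a₀ b₀ Pl → finrank F ↥Pl = 2 →
      ∃ W : Submodule F (M d → F), W ≤ A ∧ StabM (x : Matrix (M d) (M d) F) W ∧ NDegM d F a₀ b₀ W ∧
        PlusM d F a₀ b₀ W ∧ finrank F ↥W = n := by
    intro Pl hPlA hPls hPln hPlp hPldim
    obtain ⟨A', hA'A, hA's, hA'n, hA'p, hdim, horth⟩ :=
      perp_in hSP hC hOS haniso x hx A Pl hAs hAn hAp hPlA hPls hPln hPlp
    have hA'dim : finrank F ↥A' = 2 * (a - 1) := by omega
    by_cases h4 : n % 4 = 0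
    · obtain ⟨W, hWA', hWs, hWn, hWp, hWdim⟩ := ih (a - 1) (by omega) A' hA's hA'n hA'p hA'dim n
        ⟨n2, hn2⟩ (by omega) (Or.inl h4)
      exact ⟨W, hWA'.trans hA'A, hWs, hWn, hWp, hWdim⟩
    · obtain ⟨W, hWA', hWs, hWn, hWp, hWdim⟩ := ih (a - 1) (by omega) A' hA's hA'n hA'p hA'dim
        (n - 2) ⟨n2 - 1, by omega⟩ (by omega) (Or.inl (by omega))
      obtain ⟨g1, g2, g3, g4⟩ := glue hOS hPS haniso (x : Matrix (M d) (M d) F) Pl W hPls hPln hPlp hWs hWn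
        hWp (fun u hu v hv => horth u hu v (hWA' hv))
      exact ⟨Pl ⊔ W, sup_le hPlA (hWA'.trans hA'A), g1, g2, g3, by rw [g4, hPldim, hWdim]; omega⟩
  have block_step : ∀ B : Submodule F (M d → F), B ≤ A → StabM (x : Matrix (M d) (M d) F) B →
      NDegM d F a₀ b₀ B → PlusM d F a₀ b₀ B → finrank F ↥B = 4 →
      ∃ W : Submodule F (M d → F), W ≤ A ∧ StabM (x : Matrix (M d) (M d) F) W ∧ NDegM d F a₀ b₀ W ∧
        PlusM d F a₀ b₀ W ∧ finrank F ↥W = n := by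
    intro B hBA hBs hBn hBp hBdim
    obtain ⟨A', hA'A, hA's, hA'n, hA'p, hdim, horth⟩ :=
      perp_in hSP hC hOS haniso x hx A B hAs hAn hAp hBA hBs hBn hBp
    have hA'dim : finrank F ↥A' = 2 * (a - 2) := by omega
    by_cases h4 : n % 4 = 0
    · obtain ⟨W, hWA', hWs, hWn, hWp, hWdim⟩ := ih (a - 2) (by omega) A' hA's hA'n hA'p hA'dim
        (n - 4) ⟨n2 - 2, by omega⟩ (by omega) (Or.inl (by omega))
      obtain ⟨g1, g2, g3, g4⟩ := glue hOS hPS haniso (x : Matrix (M d) (M d) F) B W hBs hBn hBp hWs hWn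
        hWp (fun u hu v hv => horth u hu v (hWA' hv))
      exact ⟨B ⊔ W, sup_le hBA (hWA'.trans hA'A), g1, g2, g3, by rw [g4, hBdim, hWdim]; omega⟩
    · have hodd : Odd a := by
        rcases hcond with h | h
        · exact absurd h h4
        · exact h
      obtain ⟨k, hk⟩ := hodd
      obtain ⟨W, hWA', hWs, hWn, hWp, hWdim⟩ := ih (a - 2) (by omega) A' hA's hA'n hA'p hA'dim n
        ⟨n2, hn2⟩ (by omega) (Or.inr ⟨k - 1, by omega⟩)
      exact ⟨W, hWA'.trans hA'A, hWs, hWn, hWp, hWdim⟩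
  by_cases hi : ∃ w ∈ A, Cfsg.quadFormMinus (d - 1) F a₀ b₀ w = 0 ∧
      QuadraticMap.polar (Cfsg.quadFormMinus (d - 1) F a₀ b₀) w ((x : Matrix (M d) (M d) F) *ᵥ w) ≠ 0
  · obtain ⟨w, hwA, hw0, hwx⟩ := hi
    have hQx : Cfsg.quadFormMinus (d - 1) F a₀ b₀ ((x : Matrix (M d) (M d) F) *ᵥ w) = 0 := by
      rw [← hw0]
      exact hx w w
    obtain ⟨p1, p2, p3⟩ := hP0 F a₀ b₀ d w ((x : Matrix (M d) (M d) F) *ᵥ w) hw0 hQx hwx
    refine plane_step _ ?_ ?_ p1 p2 p3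
    · rw [Submodule.span_le]
      intro v hv
      rcases hv with rfl | hv
      · exact hwA
      · rw [Set.mem_singleton_iff.mp hv]
        exact hxA w hwA
    · unfold StabM
      rw [Submodule.map_le_iff_le_comap, Submodule.span_le]
      intro v hv
      rw [SetLike.mem_coe, Submodule.mem_comap, Matrix.toLin'_apply]
      rcases hv with rfl | hv
      · exact Submodule.subset_span (by simp)
      · rw [Set.mem_singleton_iff.mp hv, hxv]
        exact Submodule.subset_span (by simp)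
  · push Not at hi
    have hg : ∀ u ∈ A, QuadraticMap.polar (Cfsg.quadFormMinus (d - 1) F a₀ b₀) u
        ((x : Matrix (M d) (M d) F) *ᵥ u) = 0 := by
      obtain ⟨e, heA, f, hfA, he0, hf0, hef⟩ := hSg F a₀ b₀ d A hAn hAp hApos
      have hene : e ≠ 0 := by
        intro h
        apply hef
        rw [h]
        exact QuadraticMap.polar_zero_left (Cfsg.Agent.Lib.Helper44.NegPairs.minusQ (d - 1) F a₀ b₀) f
      exact hQV F a₀ b₀ d x hx hxx A hAn ⟨e, heA, hene, he0⟩ hi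
    by_cases hfix : ∀ u ∈ A, (x : Matrix (M d) (M d) F) *ᵥ u = u
    · obtain ⟨e, heA, f, hfA, he0, hf0, hef⟩ := hSg F a₀ b₀ d A hAn hAp hApos
      obtain ⟨p1, p2, p3⟩ := hP0 F a₀ b₀ d e f he0 hf0 hef
      have hPlA : Submodule.span F {e, f} ≤ A := by
        rw [Submodule.span_le]
        intro v hv
        rcases hv with rfl | hv
        · exact heA
        · rw [Set.mem_singleton_iff.mp hv]
          exact hfA
      refine plane_step _ hPlA ?_ p1 p2 p3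
      unfold StabM
      rw [Submodule.map_le_iff_le_comap]
      intro v hv
      rw [Submodule.mem_comap, Matrix.toLin'_apply, hfix v (hPlA hv)]
      exact hv
    · push Not at hfix
      obtain ⟨u, huA, hux⟩ := hfix
      obtain ⟨B, hBA, hBs, hBn, hBp, hBdim⟩ := hB4 F a₀ b₀ d x hx hxx A hAs hAn hg u huA hux
      exact block_step B hBA hBs hBn hBp hBdim

theorem ellplane (hSP : SubPerp.{u}) (hOS : OrthSum.{u}) (hST : SubTypeE.{u})
    (hP0 : Plane0M.{u}) (hPS : PlusSumM.{u}) (hQV : QuadVanM.{u}) (hB4 : Block4M.{u})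
    (F : Type u) [Field F] [Fintype F] [CharP F 2] (a₀ b₀ : F) (haniso : Aniso a₀ b₀) (d : ℕ)
    (x : Matrix.GeneralLinearGroup (M d) F)
    (hx : x ∈ Cfsg.isometryGroup F (Cfsg.quadFormMinus (d - 1) F a₀ b₀))
    (hxx : (x : Matrix (M d) (M d) F) * (x : Matrix (M d) (M d) F) = 1) :
    ∀ a : ℕ, ∀ Y : Submodule F (M d → F), StabM (x : Matrix (M d) (M d) F) Y →
      NDegM d F a₀ b₀ Y → ¬ PlusM d F a₀ b₀ Y → finrank F ↥Y = 2 * a →
      ∃ W : Submodule F (M d → F), W ≤ Y ∧ StabM (x : Matrix (M d) (M d) F) W ∧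
        NDegM d F a₀ b₀ W ∧ ¬ PlusM d F a₀ b₀ W ∧ finrank F ↥W = 2 := by
  intro a
  induction a using Nat.strong_induction_on with
  | _ a ih =>
  intro Y hYs hYn hYp hYdim
  by_cases ha1 : a = 1
  · exact ⟨Y, le_refl _, hYs, hYn, hYp, by rw [hYdim, ha1]⟩
  have ha0 : a ≠ 0 := by
    intro h
    apply hYp
    have hbot : Y = ⊥ := by
      apply Submodule.finrank_eq_zero.mp
      rw [hYdim, h]
    rw [hbot]
    exact plus_bot
  have ha2 : 2 ≤ a := by omega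
  have hxv : ∀ v : M d → F, (x : Matrix (M d) (M d) F) *ᵥ ((x : Matrix (M d) (M d) F) *ᵥ v) = v := by
    intro v
    rw [Matrix.mulVec_mulVec, hxx, Matrix.one_mulVec]
  have hxY : ∀ v ∈ Y, (x : Matrix (M d) (M d) F) *ᵥ v ∈ Y := by
    intro v hv
    have := hYs (Submodule.mem_map_of_mem hv)
    rwa [Matrix.toLin'_apply] at this
  have peel : ∀ B : Submodule F (M d → F), B ≤ Y → StabM (x : Matrix (M d) (M d) F) B →
      NDegM d F a₀ b₀ B → PlusM d F a₀ b₀ B → (finrank F ↥B = 2 ∨ finrank F ↥B = 4) →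
      ∃ W : Submodule F (M d → F), W ≤ Y ∧ StabM (x : Matrix (M d) (M d) F) W ∧
        NDegM d F a₀ b₀ W ∧ ¬ PlusM d F a₀ b₀ W ∧ finrank F ↥W = 2 := by
    intro B hBY hBs hBn hBp hBdim
    obtain ⟨Y', hY'Y, hY'n, hinf, horth, hdim, hstab⟩ := hSP F a₀ b₀ haniso d Y B hYn hBn hBY
    obtain ⟨-, -, h3⟩ := hOS F a₀ b₀ haniso d B Y' hBn hY'n horth
    have hsup : B ⊔ Y' = Y := by
      apply Submodule.eq_of_le_of_finrank_eq (sup_le hBY hY'Y)
      rw [h3, hdim]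
    have hY'p : ¬ PlusM d F a₀ b₀ Y' := by
      intro h
      apply hYp
      rw [← hsup]
      exact hPS F a₀ b₀ d B Y' horth hinf hBp h
    have hY's := hstab x hx hYs hBs
    rcases hBdim with h2 | h4
    · obtain ⟨W, hWY', hWs, hWn, hWp, hWdim⟩ :=
        ih (a - 1) (by omega) Y' hY's hY'n hY'p (by omega)
      exact ⟨W, hWY'.trans hY'Y, hWs, hWn, hWp, hWdim⟩
    · obtain ⟨W, hWY', hWs, hWn, hWp, hWdim⟩ :=
        ih (a - 2) (by omega) Y' hY's hY'n hY'p (by omega)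
      exact ⟨W, hWY'.trans hY'Y, hWs, hWn, hWp, hWdim⟩
  by_cases hi : ∃ w ∈ Y, Cfsg.quadFormMinus (d - 1) F a₀ b₀ w = 0 ∧
      QuadraticMap.polar (Cfsg.quadFormMinus (d - 1) F a₀ b₀) w
        ((x : Matrix (M d) (M d) F) *ᵥ w) ≠ 0
  · obtain ⟨w, hwY, hw0, hwx⟩ := hi
    have hQx : Cfsg.quadFormMinus (d - 1) F a₀ b₀ ((x : Matrix (M d) (M d) F) *ᵥ w) = 0 := by
      rw [← hw0]
      exact hx w w
    obtain ⟨p1, p2, p3⟩ := hP0 F a₀ b₀ d w ((x : Matrix (M d) (M d) F) *ᵥ w) hw0 hQx hwx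
    refine peel _ ?_ ?_ p1 p2 (Or.inl p3)
    · rw [Submodule.span_le]
      intro v hv
      rcases hv with rfl | hv
      · exact hwY
      · rw [Set.mem_singleton_iff.mp hv]
        exact hxY w hwY
    · unfold StabM
      rw [Submodule.map_le_iff_le_comap, Submodule.span_le]
      intro v hv
      rw [SetLike.mem_coe, Submodule.mem_comap, Matrix.toLin'_apply]
      rcases hv with rfl | hv
      · exact Submodule.subset_span (by simp)
      · rw [Set.mem_singleton_iff.mp hv, hxv]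
        exact Submodule.subset_span (by simp)
  · push Not at hi
    obtain ⟨⟨W2, hW2Y, hW2dim, hW2n, hW2p⟩, hell⟩ :=
      hST F a₀ b₀ haniso d 2 Y hYn (by decide) (by omega)
    obtain ⟨U, hUW, hUts, hUdim⟩ := hW2p
    have hU1 : finrank F ↥U = 1 := by omega
    have hUne : U ≠ ⊥ := by
      intro h
      rw [h] at hU1
      simp at hU1
    obtain ⟨e, heU, he0⟩ := Submodule.exists_mem_ne_zero_of_ne_bot hUne
    have hg := hQV F a₀ b₀ d x hx hxx Y hYn ⟨e, hW2Y (hUW heU), he0, hUts e heU⟩ hi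
    by_cases hfix : ∀ u ∈ Y, (x : Matrix (M d) (M d) F) *ᵥ u = u
    · obtain ⟨W, hWY, hWdim, hWn, hWp⟩ := hell (le_refl 2)
      refine ⟨W, hWY, ?_, hWn, hWp, hWdim⟩
      unfold StabM
      rw [Submodule.map_le_iff_le_comap]
      intro v hv
      rw [Submodule.mem_comap, Matrix.toLin'_apply, hfix v (hWY hv)]
      exact hv
    · push Not at hfix
      obtain ⟨u, huY, hux⟩ := hfix
      obtain ⟨B, hBY, hBs, hBn, hBp, hBdim⟩ := hB4 F a₀ b₀ d x hx hxx Y hYs hYn hg u huY hux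
      exact peel B hBY hBs hBn hBp (Or.inr hBdim)

theorem thm_of (hTop : Top.{u}) (hSP : SubPerp.{u}) (hOS : OrthSum.{u}) (hTwo : TwoMinusG.{u})
    (hC : CancelM.{u}) (hST : SubTypeE.{u})
    (hP0 : Plane0M.{u}) (hPS : PlusSumM.{u}) (hSg : SingPairM.{u}) (hQV : QuadVanM.{u})
    (hB4 : Block4M.{u}) : C2Fix.{u} := by
  intro F _ _ a₀ b₀ haniso _ d m hd hm2 hme hmd hcond x hx hxx
  obtain ⟨hTn, hTp⟩ := hTop F a₀ b₀ haniso d
  have hdim : finrank F ↥(⊤ : Submodule F (M d → F)) = 2 * d := by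
    rw [finrank_top, Module.finrank_fintype_fun_eq_card]
    simp
    omega
  have hStop : StabM (x : Matrix (M d) (M d) F) (⊤ : Submodule F (M d → F)) := by
    unfold StabM
    exact le_top
  obtain ⟨W0, -, hW0s, hW0n, hW0p, hW0dim⟩ :=
    ellplane hSP hOS hST hP0 hPS hQV hB4 F a₀ b₀ haniso d x hx hxx d ⊤ hStop hTn hTp hdim
  obtain ⟨A, -, hAn, -, horth, hAdim, hAstab⟩ := hSP F a₀ b₀ haniso d ⊤ W0 hTn hW0n le_top
  have hAs := hAstab x hx hStop hW0s
  obtain ⟨-, -, h3⟩ := hOS F a₀ b₀ haniso d W0 A hW0n hAn horth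
  have hsup : W0 ⊔ A = ⊤ := by
    apply Submodule.eq_of_le_of_finrank_eq le_top
    rw [h3, hAdim]
  have hAp : PlusM d F a₀ b₀ A := by
    rcases hTwo F a₀ b₀ haniso d (by omega) W0 A hW0n hAn horth hsup
      (by rw [hW0dim]; decide) with h | h
    · exact absurd h hW0p
    · exact h
  have hAdim' : finrank F ↥A = 2 * (d - 1) := by omega
  obtain ⟨k, hk⟩ := hme
  have hcond' : (2 * d - m) % 4 = 0 ∨ Odd (d - 1) := by
    rcases Nat.even_or_odd d with ⟨j, hj⟩ | ⟨j, hj⟩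
    · exact Or.inr ⟨j - 1, by omega⟩
    · rcases hcond with ⟨j', hj'⟩ | h
      · omega
      · exact Or.inl (by omega)
  obtain ⟨H, -, hHs, hHn, hHp, hHdim⟩ :=
    claimM hSP hC hOS hP0 hPS hSg hQV hB4 F a₀ b₀ haniso d x hx hxx (d - 1) A hAs hAn hAp hAdim'
      (2 * d - m) ⟨d - k, by omega⟩ (by omega) hcond'
  obtain ⟨W, -, hWn, hinf2, horth2, hWdim, hWstab⟩ := hSP F a₀ b₀ haniso d ⊤ H hTn hHn le_top
  have hWs := hWstab x hx hStop hHs
  obtain ⟨-, -, h4⟩ := hOS F a₀ b₀ haniso d H W hHn hWn horth2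
  have hsup2 : H ⊔ W = ⊤ := by
    apply Submodule.eq_of_le_of_finrank_eq le_top
    rw [h4, hWdim]
  have hWp : ¬ PlusM d F a₀ b₀ W := by
    intro h
    apply hTp
    rw [← hsup2]
    exact hPS F a₀ b₀ d H W horth2 hinf2 hHp h
  exact ⟨W, ⟨by omega, hWn, hWp⟩, hWs⟩

end Cfsg.Agent.Lib.Helper64.C2MAsm
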