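import Mathlib
import Cfsg.Agent.Lib.Helper87.FSBasic
import Cfsg.Agent.Lib.Helper87.FSSat
import Cfsg.Agent.Lib.Helper88.CNStmt
import Cfsg.Agent.Lib.Helper64.CEJBASE

/-! Piece GCONJ of S5155 (helper64, second seat): conjugation by `α ∈ Aut_F(Y)` carries
`Aut_G(P)` into `Aut_G(α(P))`, `G = C_F(T)`. -/

set_option autoImplicit false

namespace Cfsg.Agent.Lib.Helper64.CNGCONJ

open Cfsg Cfsg.FusionSystem Cfsg.Agent.Lib.Helper88.CNStmt Cfsg.Agent.H85

universe u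

theorem main (hExt : ExtOverT.{u}) : CentConj.{u} := by
  intro Ω _ S _ p _ hS F hF T hT Y hY hYcl G hG P hPY α hα γ hγ
  have hTS : T ≤ S := hT.1
  have hYS : Y ≤ S := hYcl.1
  have hC₀S : centralizerIn S T ≤ S := inf_le_left
  have hPC : P ≤ centralizerIn S T := hPY.trans hY
  have hP'Y : autImage α P ≤ Y := autImage_le α P
  have hP'C : autImage α P ≤ centralizerIn S T := hP'Y.trans hY
  have hfinT : Finite T := Cfsg.Agent.Lib.Helper87.FSSat.finite_of_le hTS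
  have hPTS : P ⊔ T ≤ S := sup_le (hPC.trans hC₀S) hTS
  have hfinPT : Finite ↥(P ⊔ T) := Cfsg.Agent.Lib.Helper87.FSSat.finite_of_le hPTS
  have hcomm : ∀ y ∈ T, ∀ u ∈ P, u * y = y * u := fun y hy u hu =>
    (Subgroup.mem_centralizer_iff.mp (hPC hu).2 y hy).symm
  rw [mem_autGroup_iff G hP'C]
  rw [mem_autGroup_iff G hPC] at hγ
  rw [hG] at hγ ⊢
  obtain ⟨hγF, -, -, γh, hγh, hγh1, hγh2⟩ := hγ
  have hαF : Y.subtype.comp α.toMonoidHom ∈ F.Hom Y := (mem_autGroup_iff F hYS α).mp hα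
  obtain ⟨αh, hαh, hαh1⟩ := hExt p hS F hF T hT Y hY hYcl Y le_rfl _ hαF
  have hαhY : ∀ (y : Ω) (hy : y ∈ Y) (hy' : y ∈ T ⊔ Y), αh ⟨y, hy'⟩ = ((α ⟨y, hy⟩ : Y) : Ω) :=
    fun y hy hy' => hαh1 ⟨y, hy⟩
  -- `αh` on `T`
  let fT : T →* Ω := αh.comp (Subgroup.inclusion (le_sup_left : T ≤ T ⊔ Y))
  have hfT : fT ∈ F.Hom T := restrict_mem F hαh le_sup_left
  have hfTT : ∀ t : T, fT t ∈ T := fun t => hT.2 T le_rfl fT hfT t
  have hfTr : fT.range = T := by
    apply Subgroup.eq_of_le_of_card_ge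
    · rintro _ ⟨t, rfl⟩
      exact hfTT t
    · rw [Cfsg.Agent.Lib.Helper87.FSSat.card_range F hfT]
  -- `αh` on `P ⊔ T`
  have hPTle : P ⊔ T ≤ T ⊔ Y := sup_le (hPY.trans le_sup_right) le_sup_left
  let a : ↥(P ⊔ T) →* Ω := αh.comp (Subgroup.inclusion hPTle)
  have ha : a ∈ F.Hom (P ⊔ T) := restrict_mem F hαh hPTle
  have hra : a.range = autImage α P ⊔ T := by
    apply le_antisymm
    · rintro _ ⟨y, rfl⟩
      obtain ⟨u, hu, t, ht, hy⟩ := CEJBASE.exists_mul_of_mem_sup hcomm y.2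
      have hy' : y = (⟨u, Subgroup.mem_sup_left hu⟩ : ↥(P ⊔ T)) *
          ⟨t, Subgroup.mem_sup_right ht⟩ := Subtype.ext hy
      rw [hy', map_mul]
      refine Subgroup.mul_mem _ (Subgroup.mem_sup_left ?_) (Subgroup.mem_sup_right ?_)
      · have h1 : a ⟨u, Subgroup.mem_sup_left hu⟩ = ((α ⟨u, hPY hu⟩ : Y) : Ω) :=
          hαhY u (hPY hu) _
        rw [h1]
        exact mem_autImage α hPY ⟨u, hu⟩
      · exact hfTT ⟨t, ht⟩
    · refine sup_le ?_ ?_
      · intro y' hy'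
        obtain ⟨x, hx⟩ := exists_of_mem_autImage α hPY hy'
        refine ⟨⟨x, Subgroup.mem_sup_left x.2⟩, ?_⟩
        rw [← hx]
        exact hαhY x (hPY x.2) _
      · intro t' ht'
        rw [← hfTr] at ht'
        obtain ⟨t, ht⟩ := ht'
        exact ⟨⟨t, Subgroup.mem_sup_right t.2⟩, ht⟩
  -- `γh` has range `P ⊔ T`
  have hrg : γh.range = P ⊔ T := by
    apply Subgroup.eq_of_le_of_card_ge
    · rintro _ ⟨y, rfl⟩
      obtain ⟨u, hu, t, ht, hy⟩ := CEJBASE.exists_mul_of_mem_sup hcomm y.2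
      have hy' : y = (⟨u, Subgroup.mem_sup_left hu⟩ : ↥(P ⊔ T)) *
          ⟨t, Subgroup.mem_sup_right ht⟩ := Subtype.ext hy
      rw [hy', map_mul]
      refine Subgroup.mul_mem _ (Subgroup.mem_sup_left ?_) (Subgroup.mem_sup_right ?_)
      · have h1 := hγh1 ⟨u, hu⟩
        have h2 : γh ⟨u, Subgroup.mem_sup_left hu⟩ = ((γ ⟨u, hu⟩ : P) : Ω) := h1
        rw [h2]
        exact (γ ⟨u, hu⟩).2
      · have h1 := hγh2 ⟨t, ht⟩
        have h2 : γh ⟨t, Subgroup.mem_sup_right ht⟩ = t := h1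
        rw [h2]
        exact ht
    · rw [Cfsg.Agent.Lib.Helper87.FSSat.card_range F hγh]
  let eα : ↥(P ⊔ T) ≃* ↥(autImage α P ⊔ T) := isoOf F ha hra
  have heα : IsIso F eα := isIso_isoOf F ha hra
  let eγ : ↥(P ⊔ T) ≃* ↥(P ⊔ T) := isoOf F hγh hrg
  have heγ : IsIso F eγ := isIso_isoOf F hγh hrg
  have hΦ : IsIso F (eα.symm.trans (eγ.trans eα)) :=
    isIso_trans F (isIso_symm F heα) (isIso_trans F heγ heα)
  have hαv : ∀ (y : Ω) (hy : y ∈ P ⊔ T), ((eα ⟨y, hy⟩ : ↥(autImage α P ⊔ T)) : Ω) =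
      αh ⟨y, hPTle hy⟩ := fun _ _ => rfl
  have hγv : ∀ y : ↥(P ⊔ T), ((eγ y : ↥(P ⊔ T)) : Ω) = γh y := fun _ => rfl
  -- values on `α(P)`
  have V1 : ∀ x' : ↥(autImage α P),
      ((autImage α P ⊔ T).subtype.comp (eα.symm.trans (eγ.trans eα)).toMonoidHom)
        (Subgroup.inclusion le_sup_left x') =
      (((MulAut.congr (autRes α hPY) γ) x' : ↥(autImage α P)) : Ω) := by
    intro x'
    have hx : (autRes α hPY) ((autRes α hPY).symm x') = x' := MulEquiv.apply_symm_apply _ _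
    have c1 : eα ⟨((autRes α hPY).symm x' : P), Subgroup.mem_sup_left ((autRes α hPY).symm x').2⟩ =
        Subgroup.inclusion le_sup_left x' := by
      apply Subtype.ext
      rw [hαv, hαhY _ (hPY ((autRes α hPY).symm x').2)]
      have := congrArg (fun z : ↥(autImage α P) => (z : Ω)) hx
      exact this
    have c1' : eα.symm (Subgroup.inclusion le_sup_left x') =
        ⟨((autRes α hPY).symm x' : P), Subgroup.mem_sup_left ((autRes α hPY).symm x').2⟩ := by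
      rw [← c1, MulEquiv.symm_apply_apply]
    have c2 : eγ ⟨((autRes α hPY).symm x' : P),
        Subgroup.mem_sup_left ((autRes α hPY).symm x').2⟩ =
        ⟨((γ ((autRes α hPY).symm x') : P) : Ω),
          Subgroup.mem_sup_left (γ ((autRes α hPY).symm x')).2⟩ := by
      apply Subtype.ext
      rw [hγv]
      exact hγh1 ((autRes α hPY).symm x')
    show ((eα (eγ (eα.symm (Subgroup.inclusion le_sup_left x'))) : ↥(autImage α P ⊔ T)) : Ω) = _
    rw [c1', c2, hαv, hαhY _ (hPY (γ ((autRes α hPY).symm x')).2)]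
    rfl
  -- values on `T`
  have V2 : ∀ t : T,
      ((autImage α P ⊔ T).subtype.comp (eα.symm.trans (eγ.trans eα)).toMonoidHom)
        (Subgroup.inclusion le_sup_right t) = t := by
    intro t
    have ht' : (t : Ω) ∈ fT.range := by rw [hfTr]; exact t.2
    obtain ⟨t₀, ht₀⟩ := ht'
    have c1 : eα ⟨(t₀ : Ω), Subgroup.mem_sup_right t₀.2⟩ = Subgroup.inclusion le_sup_right t := by
      apply Subtype.ext
      rw [hαv]
      exact ht₀
    have c1' : eα.symm (Subgroup.inclusion le_sup_right t) =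
        ⟨(t₀ : Ω), Subgroup.mem_sup_right t₀.2⟩ := by
      rw [← c1, MulEquiv.symm_apply_apply]
    have c2 : eγ ⟨(t₀ : Ω), Subgroup.mem_sup_right t₀.2⟩ =
        ⟨(t₀ : Ω), Subgroup.mem_sup_right t₀.2⟩ := by
      apply Subtype.ext
      rw [hγv]
      exact hγh2 t₀
    show ((eα (eγ (eα.symm (Subgroup.inclusion le_sup_right t))) : ↥(autImage α P ⊔ T)) : Ω) = _
    rw [c1', c2, c1]
    rfl
  refine ⟨?_, hP'C, fun x' => hP'C ((MulAut.congr (autRes α hPY) γ) x').2, _, hΦ, V1, V2⟩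
  exact hom_congr F (restrict_mem F hΦ le_sup_left) (fun x' => (V1 x').symm)

end Cfsg.Agent.Lib.Helper64.CNGCONJ
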