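import Mathlib
import Cfsg.Agent.Lib.Helper17.CentFix
import Cfsg.Agent.Lib.Helper69.J1Stmt

/-!
No simple group of order `58520 = 2^3 * 5 * 7 * 11 * 19` (piece O58520 of S4274).
-/

set_option autoImplicit false

namespace Cfsg.Agent.Lib.Helper64.J1O58520

open Subgroup MulAction
open Cfsg.Agent.Lib.Helper17.Sylow Cfsg.Agent.Lib.Helper17.Sylow2
open Cfsg.Agent.Lib.Helper17.CentFix Cfsg.Agent.Lib.Helper17.FixedPoints
open Cfsg.Agent.Lib.Helper17.Commuting

universe u

theorem key19 : ∀ n ∈ Nat.divisors 3080, n % 19 = 1 → n ≠ 1 → n = 20 ∨ n = 77 ∨ n = 1540 := by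
  decide +kernel

theorem key7 : ∀ n ∈ Nat.divisors 8360, n % 7 = 1 → n ≠ 1 →
    n = 8 ∨ n = 22 ∨ n = 190 ∨ n = 4180 := by
  decide +kernel

theorem div18 : ∀ r ∈ Nat.divisors 18, r = 1 ∨ r = 2 ∨ r = 3 ∨ r = 6 ∨ r = 9 ∨ r = 18 := by
  decide

theorem div6 : ∀ r ∈ Nat.divisors 6, r = 1 ∨ r = 2 ∨ r = 3 ∨ r = 6 := by
  decide

theorem fact8 : ¬ (2 * 58520 ∣ Nat.factorial 8) := by
  decide

/-- an element commuting with an element of order `p` centralizes a Sylow `p`-subgroup -/
theorem mem_centralizer_sylow {G : Type*} [Group G] [Finite G] {p : ℕ} [Fact p.Prime]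
    (P : Sylow p G) (hP : Nat.card (P : Subgroup G) = p) (x y : G) (hy : orderOf y = p)
    (hc : Commute x y) : ∃ Y : Sylow p G, x ∈ centralizer ((Y : Subgroup G) : Set G) := by
  obtain ⟨Y, hY⟩ := exists_sylow_eq_zpowers P hP y hy
  refine ⟨Y, ?_⟩
  rw [hY, mem_centralizer_iff]
  intro z hz
  obtain ⟨k, rfl⟩ := Subgroup.mem_zpowers_iff.1 (SetLike.mem_coe.1 hz)
  exact (hc.zpow_right k).eq.symm

/-- elements of orders `p` and `q` among the powers of `g` -/
theorem exists_commute_of_dvd {G : Type*} [Group G] [Finite G] (g : G) (p q : ℕ)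
    (hp : p ∣ orderOf g) (hq : q ∣ orderOf g) :
    ∃ x y : G, orderOf x = p ∧ orderOf y = q ∧ Commute x y :=
  ⟨g ^ (orderOf g / p), g ^ (orderOf g / q),
    orderOf_pow_orderOf_div (orderOf_pos g).ne' hp,
    orderOf_pow_orderOf_div (orderOf_pos g).ne' hq,
    Commute.pow_pow_self g _ _⟩

theorem main : Cfsg.Agent.Lib.Helper69.J1Stmt.O58520.{u} := by
  intro hCnt hSum G _ _ _ hcard
  have f19 : Fact (Nat.Prime 19) := ⟨by norm_num⟩
  have f7 : Fact (Nat.Prime 7) := ⟨by norm_num⟩
  have f5 : Fact (Nat.Prime 5) := ⟨by norm_num⟩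
  have hG : ¬ IsMulCommutative G := not_comm_of_not_prime (by rw [hcard]; norm_num)
  have h19 : 19 ∣ Nat.card G := by rw [hcard]; norm_num
  have h7 : 7 ∣ Nat.card G := by rw [hcard]; norm_num
  have hN19 : Nat.card G = 19 ^ 1 * 3080 := by rw [hcard]; norm_num
  have hN7 : Nat.card G = 7 ^ 1 * 8360 := by rw [hcard]; norm_num
  have hN5 : Nat.card G = 5 ^ 1 * 11704 := by rw [hcard]; norm_num
  have hP19card : ∀ P : Sylow 19 G, Nat.card (P : Subgroup G) = 19 := fun P => by
    have := card_sylow_subgroup hN19 (by norm_num) P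
    simpa using this
  have hP7card : ∀ P : Sylow 7 G, Nat.card (P : Subgroup G) = 7 := fun P => by
    have := card_sylow_subgroup hN7 (by norm_num) P
    simpa using this
  have hP5card : ∀ P : Sylow 5 G, Nat.card (P : Subgroup G) = 5 := fun P => by
    have := card_sylow_subgroup hN5 (by norm_num) P
    simpa using this
  -- (1) the number of Sylow 19-subgroups
  have hn19_dvd : Nat.card (Sylow 19 G) ∣ 3080 := card_sylow_dvd hN19 (by norm_num)
  have hn19_mod := card_sylow_mod (G := G) 19
  have hn19_ne := card_sylow_ne_one hG h19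
  have hn19_cases := key19 _ (Nat.mem_divisors.2 ⟨hn19_dvd, by norm_num⟩) hn19_mod hn19_ne
  have hn19 : Nat.card (Sylow 19 G) = 1540 := by
    obtain ⟨P⟩ : Nonempty (Sylow 19 G) := inferInstance
    have hPc := hP19card P
    obtain ⟨r, hr1, hr18, hCr, h19C⟩ := sylow_prime_centralizer hG P hPc
    have hr : r = 1 ∨ r = 2 ∨ r = 3 ∨ r = 6 ∨ r = 9 ∨ r = 18 :=
      div18 r (Nat.mem_divisors.2 ⟨hr18, by norm_num⟩)
    have hNn := card_normalizer_mul_card_sylow P
    have hNtop := normalizer_sylow_ne_top hG h19 P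
    have hidxm := (normalizer ((P : Subgroup G) : Set G)).card_mul_index
    rcases hn19_cases with h | h | h
    · exfalso
      rw [h, hcard] at hNn
      have hNc : Nat.card (normalizer ((P : Subgroup G) : Set G)) = 2926 := by omega
      rw [hNc] at hCr
      have h7C : 7 ∣ Nat.card (centralizer ((P : Subgroup G) : Set G)) := by
        rcases hr with rfl | rfl | rfl | rfl | rfl | rfl <;> omega
      obtain ⟨x, hxC, hx7⟩ := exists_mem_orderOf_eq_prime _ 7 h7C
      have hfix1 := card_fixedBy_mod_of_mem_centralizer P hPc x hxC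
      have hx1 : x ≠ 1 := by
        rintro rfl
        rw [orderOf_one] at hx7
        omega
      have hlt := card_fixedBy_lt_index _ hNtop x hx1
      have hidx : (normalizer ((P : Subgroup G) : Set G)).index = 20 := by
        rw [hNc, hcard] at hidxm
        omega
      have hx7' : x ^ (7 ^ 1) = 1 := by rw [pow_one, ← hx7]; exact pow_orderOf_eq_one x
      have hmod := card_modEq_card_fixedBy
        (X := G ⧸ normalizer ((P : Subgroup G) : Set G)) x hx7'
      have hX : Nat.card (G ⧸ normalizer ((P : Subgroup G) : Set G)) = 20 := hidx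
      rw [hX] at hmod
      rw [hidx] at hlt
      unfold Nat.ModEq at hmod
      omega
    · exfalso
      rw [h, hcard] at hNn
      have hNc : Nat.card (normalizer ((P : Subgroup G) : Set G)) = 760 := by omega
      rw [hNc] at hCr
      have h5C : 5 ∣ Nat.card (centralizer ((P : Subgroup G) : Set G)) := by
        rcases hr with rfl | rfl | rfl | rfl | rfl | rfl <;> omega
      obtain ⟨x, hxC, hx5⟩ := exists_mem_orderOf_eq_prime _ 5 h5C
      have hfix1 := card_fixedBy_mod_of_mem_centralizer P hPc x hxC
      have hx1 : x ≠ 1 := by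
        rintro rfl
        rw [orderOf_one] at hx5
        omega
      have hlt := card_fixedBy_lt_index _ hNtop x hx1
      have hidx : (normalizer ((P : Subgroup G) : Set G)).index = 77 := by
        rw [hNc, hcard] at hidxm
        omega
      have hx5' : x ^ (5 ^ 1) = 1 := by rw [pow_one, ← hx5]; exact pow_orderOf_eq_one x
      have hmod := card_modEq_card_fixedBy
        (X := G ⧸ normalizer ((P : Subgroup G) : Set G)) x hx5'
      have hX : Nat.card (G ⧸ normalizer ((P : Subgroup G) : Set G)) = 77 := hidx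
      rw [hX] at hmod
      rw [hidx] at hlt
      unfold Nat.ModEq at hmod
      omega
    · exact h
  have hN19c : ∀ P : Sylow 19 G, Nat.card (normalizer ((P : Subgroup G) : Set G)) = 38 := by
    intro P
    have := card_normalizer_mul_card_sylow P
    rw [hn19, hcard] at this
    omega
  have hC19c : ∀ P : Sylow 19 G, Nat.card (centralizer ((P : Subgroup G) : Set G)) = 19 := by
    intro P
    obtain ⟨r, hr1, hr18, hCr, h19C⟩ := sylow_prime_centralizer hG P (hP19card P)
    have hr : r = 1 ∨ r = 2 ∨ r = 3 ∨ r = 6 ∨ r = 9 ∨ r = 18 :=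
      div18 r (Nat.mem_divisors.2 ⟨hr18, by norm_num⟩)
    rw [hN19c P] at hCr
    rcases hr with rfl | rfl | rfl | rfl | rfl | rfl <;> omega
  obtain ⟨P19⟩ : Nonempty (Sylow 19 G) := inferInstance
  have hA19 : 27720 ≤ Nat.card {g : G // 19 ∣ orderOf g} := by
    have h1 := hCnt G 19 P19 (hP19card P19)
    rw [hcard, hC19c P19, hN19c P19] at h1
    omega
  have hcross19 : ∀ x y : G, orderOf y = 19 → Commute x y → orderOf x ∣ 19 := by
    intro x y hy hc
    obtain ⟨Y, hY⟩ := mem_centralizer_sylow P19 (hP19card P19) x y hy hc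
    have := orderOf_dvd_card_of_mem hY
    rwa [hC19c Y] at this
  -- (2) the Sylow 7-subgroups
  have hn7_dvd : Nat.card (Sylow 7 G) ∣ 8360 := card_sylow_dvd hN7 (by norm_num)
  have hn7_mod := card_sylow_mod (G := G) 7
  have hn7_ne := card_sylow_ne_one hG h7
  have hn7_cases := key7 _ (Nat.mem_divisors.2 ⟨hn7_dvd, by norm_num⟩) hn7_mod hn7_ne
  have hfact := two_mul_card_dvd_factorial_card_sylow hG h7
  have h7data : ∀ Q : Sylow 7 G,
      Nat.card (normalizer ((Q : Subgroup G) : Set G)) =
        2 * Nat.card (centralizer ((Q : Subgroup G) : Set G)) ∧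
      ¬ 5 ∣ Nat.card (normalizer ((Q : Subgroup G) : Set G)) := by
    intro Q
    obtain ⟨r, hr1, hr6, hCr, h7C⟩ := sylow_prime_centralizer hG Q (hP7card Q)
    have hr : r = 1 ∨ r = 2 ∨ r = 3 ∨ r = 6 :=
      div6 r (Nat.mem_divisors.2 ⟨hr6, by norm_num⟩)
    have hNn := card_normalizer_mul_card_sylow Q
    rcases hn7_cases with h | h | h | h
    · exfalso
      rw [h, hcard] at hfact
      exact fact8 hfact
    · exfalso
      rw [h, hcard] at hNn
      have hNc : Nat.card (normalizer ((Q : Subgroup G) : Set G)) = 2660 := by omega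
      rw [hNc] at hCr
      have h19C : 19 ∣ Nat.card (centralizer ((Q : Subgroup G) : Set G)) := by
        rcases hr with rfl | rfl | rfl | rfl <;> omega
      obtain ⟨y, hyC, hy19⟩ := exists_mem_orderOf_eq_prime _ 19 h19C
      obtain ⟨x, hxQ, hx7⟩ := exists_mem_orderOf_eq_prime (Q : Subgroup G) 7
        (by rw [hP7card Q])
      have hc : Commute x y := mem_centralizer_iff.1 hyC x hxQ
      have := hcross19 x y hy19 hc
      rw [hx7] at this
      norm_num at this
    · rw [h, hcard] at hNn
      have hNc : Nat.card (normalizer ((Q : Subgroup G) : Set G)) = 308 := by omega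
      rw [hNc] at hCr ⊢
      constructor
      · rcases hr with rfl | rfl | rfl | rfl <;> omega
      · norm_num
    · rw [h, hcard] at hNn
      have hNc : Nat.card (normalizer ((Q : Subgroup G) : Set G)) = 14 := by omega
      rw [hNc] at hCr ⊢
      constructor
      · rcases hr with rfl | rfl | rfl | rfl <;> omega
      · norm_num
  obtain ⟨P7⟩ : Nonempty (Sylow 7 G) := inferInstance
  have hA7 : 25080 ≤ Nat.card {g : G // 7 ∣ orderOf g} := by
    have h1 := hCnt G 7 P7 (hP7card P7)
    obtain ⟨h2, -⟩ := h7data P7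
    rw [hcard, h2] at h1
    have hcpos : 0 < Nat.card (centralizer ((P7 : Subgroup G) : Set G)) := Nat.card_pos
    have h3 : 351120 * Nat.card (centralizer ((P7 : Subgroup G) : Set G)) ≤
        (14 * Nat.card {g : G // 7 ∣ orderOf g}) *
          Nat.card (centralizer ((P7 : Subgroup G) : Set G)) := by
      calc 351120 * Nat.card (centralizer ((P7 : Subgroup G) : Set G))
          = (7 - 1) * 58520 * Nat.card (centralizer ((P7 : Subgroup G) : Set G)) := by norm_num
        _ ≤ 7 * (2 * Nat.card (centralizer ((P7 : Subgroup G) : Set G))) *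
              Nat.card {g : G // 7 ∣ orderOf g} := h1
        _ = _ := by ring
    have h4 := Nat.le_of_mul_le_mul_right h3 hcpos
    omega
  -- (3) the Sylow 5-subgroups
  obtain ⟨P5⟩ : Nonempty (Sylow 5 G) := inferInstance
  have hA5 : 11704 ≤ Nat.card {g : G // 5 ∣ orderOf g} := by
    have h1 := hCnt G 5 P5 (hP5card P5)
    have hCN : centralizer ((P5 : Subgroup G) : Set G) ≤ normalizer ((P5 : Subgroup G) : Set G) :=
      Subgroup.centralizer_le_normalizer _
    have h2 := card_mul_relIndex hCN
    have h3 := relIndex_centralizer_normalizer_dvd (P5 : Subgroup G)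
    have hcyc : IsCyclic (P5 : Subgroup G) := isCyclic_of_prime_card (hP5card P5)
    rw [hcyc.card_mulAut, hP5card P5, Nat.totient_prime (by norm_num)] at h3
    have h4 : (centralizer ((P5 : Subgroup G) : Set G)).relIndex
        (normalizer ((P5 : Subgroup G) : Set G)) ≤ 4 := Nat.le_of_dvd (by norm_num) h3
    rw [hcard, ← h2] at h1
    have hcpos : 0 < Nat.card (centralizer ((P5 : Subgroup G) : Set G)) := Nat.card_pos
    have h5 : 234080 * Nat.card (centralizer ((P5 : Subgroup G) : Set G)) ≤
        (20 * Nat.card {g : G // 5 ∣ orderOf g}) *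
          Nat.card (centralizer ((P5 : Subgroup G) : Set G)) := by
      calc 234080 * Nat.card (centralizer ((P5 : Subgroup G) : Set G))
          = (5 - 1) * 58520 * Nat.card (centralizer ((P5 : Subgroup G) : Set G)) := by norm_num
        _ ≤ 5 * (Nat.card (centralizer ((P5 : Subgroup G) : Set G)) *
              (centralizer ((P5 : Subgroup G) : Set G)).relIndex
                (normalizer ((P5 : Subgroup G) : Set G))) *
              Nat.card {g : G // 5 ∣ orderOf g} := h1
        _ = (5 * Nat.card {g : G // 5 ∣ orderOf g} *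
              Nat.card (centralizer ((P5 : Subgroup G) : Set G))) *
              (centralizer ((P5 : Subgroup G) : Set G)).relIndex
                (normalizer ((P5 : Subgroup G) : Set G)) := by ring
        _ ≤ (5 * Nat.card {g : G // 5 ∣ orderOf g} *
              Nat.card (centralizer ((P5 : Subgroup G) : Set G))) * 4 :=
            Nat.mul_le_mul_left _ h4
        _ = _ := by ring
    have h6 := Nat.le_of_mul_le_mul_right h5 hcpos
    omega
  -- (4) no element of order divisible by two of the primes 5, 7, 19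
  have h519 : ∀ g : G, 5 ∣ orderOf g → 19 ∣ orderOf g → False := by
    intro g h5g h19g
    obtain ⟨x, y, hx, hy, hc⟩ := exists_commute_of_dvd g 5 19 h5g h19g
    have := hcross19 x y hy hc
    rw [hx] at this
    norm_num at this
  have h719 : ∀ g : G, 7 ∣ orderOf g → 19 ∣ orderOf g → False := by
    intro g h7g h19g
    obtain ⟨x, y, hx, hy, hc⟩ := exists_commute_of_dvd g 7 19 h7g h19g
    have := hcross19 x y hy hc
    rw [hx] at this
    norm_num at this
  have h57 : ∀ g : G, 5 ∣ orderOf g → 7 ∣ orderOf g → False := by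
    intro g h5g h7g
    obtain ⟨x, y, hx, hy, hc⟩ := exists_commute_of_dvd g 5 7 h5g h7g
    obtain ⟨Y, hY⟩ := mem_centralizer_sylow P7 (hP7card P7) x y hy hc
    have hYN : x ∈ normalizer ((Y : Subgroup G) : Set G) :=
      Subgroup.centralizer_le_normalizer _ hY
    have := orderOf_dvd_card_of_mem hYN
    rw [hx] at this
    exact (h7data Y).2 this
  have hS := hSum G ({5, 7, 19} : Finset ℕ) (by
    intro p hp
    simp only [Finset.mem_insert, Finset.mem_singleton] at hp
    rcases hp with rfl | rfl | rfl <;> norm_num) (by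
    intro p hp q hq hpq g hg
    obtain ⟨hpg, hqg⟩ := hg
    simp only [Finset.mem_insert, Finset.mem_singleton] at hp hq
    rcases hp with rfl | rfl | rfl <;> rcases hq with rfl | rfl | rfl
    · exact hpq rfl
    · exact h57 g hpg hqg
    · exact h519 g hpg hqg
    · exact h57 g hqg hpg
    · exact hpq rfl
    · exact h719 g hpg hqg
    · exact h519 g hqg hpg
    · exact h719 g hqg hpg
    · exact hpq rfl)
  rw [Finset.sum_insert (by decide), Finset.sum_insert (by decide), Finset.sum_singleton,
    hcard] at hS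
  omega

end Cfsg.Agent.Lib.Helper64.J1O58520
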