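import Mathlib
import Cfsg.Prelude.Def_OddOrderLocal
import Cfsg.Agent.Lib.Helper64.MetaB
import Cfsg.Agent.S3879

set_option autoImplicit false

/-!
# Odd metacyclic `p`-groups, part C: centres and centralizers of subgroups

`G` a finite metacyclic `p`-group, `p` odd, `|G| = p ^ m`, `|G'| = p ^ n`.

* `card_mul_card_center` : `|R| * |Z(R)| * p ^ (2 (n - k)) = p ^ (2 (m - k))` for `R` of index
  `p ^ k`;
* `card_mul_centralizer_le` : `|R| * |C_G(R)| ≤ |G| * |Z(G)|`;
* `card_mul_centralizer_eq` : equality when `Z(G) ≤ R`.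
-/

namespace Cfsg.Agent.Lib.Helper64.MetaC

open scoped commutatorElement
open Cfsg.Agent.Lib.Helper64.MetaA Cfsg.Agent.Lib.Helper64.MetaB

variable {G : Type*} [Group G]

theorem card_commutator_subtype (R : Subgroup G) :
    Nat.card ↥(commutator ↥R) = Nat.card ↥⁅R, R⁆ := by
  rw [← Subgroup.map_subtype_commutator]
  exact Nat.card_congr (Subgroup.equivMapOfInjective _ _ R.subtype_injective).toEquiv

/-- Orders of a finite `p`-group and its derived subgroup. -/
theorem exists_data [Finite G] {p : ℕ} [Fact p.Prime] (hG : IsPGroup p G) :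
    ∃ m n : ℕ, Nat.card G = p ^ m ∧ Nat.card ↥(commutator G) = p ^ n ∧ n ≤ m := by
  have hpp : p.Prime := Fact.out
  obtain ⟨m, hm⟩ := IsPGroup.iff_card.1 hG
  obtain ⟨n, hn⟩ := IsPGroup.iff_card.1 (hG.to_subgroup (commutator G))
  refine ⟨m, n, hm, hn, ?_⟩
  have : p ^ n ∣ p ^ m := by rw [← hn, ← hm]; exact Subgroup.card_subgroup_dvd_card _
  exact (Nat.pow_dvd_pow_iff_le_right hpp.one_lt).1 this

/-- Index and order of a subgroup of a group of order `p ^ m`. -/
theorem exists_index [Finite G] {p : ℕ} [Fact p.Prime] (hG : IsPGroup p G) (m : ℕ)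
    (hm : Nat.card G = p ^ m) (R : Subgroup G) :
    ∃ k : ℕ, k ≤ m ∧ R.index = p ^ k ∧ Nat.card ↥R = p ^ (m - k) := by
  have hpp : p.Prime := Fact.out
  obtain ⟨e, he⟩ := IsPGroup.iff_card.1 (hG.to_subgroup R)
  have h1 := Subgroup.card_mul_index R
  have hem : e ≤ m := by
    have : p ^ e ∣ p ^ m := by rw [← he, ← hm]; exact Subgroup.card_subgroup_dvd_card R
    exact (Nat.pow_dvd_pow_iff_le_right hpp.one_lt).1 this
  have hRi : R.index = p ^ (m - e) := by
    rw [he, hm] at h1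
    have : p ^ e * R.index = p ^ e * p ^ (m - e) := by
      rw [h1, ← pow_add]; congr 1; omega
    exact Nat.eq_of_mul_eq_mul_left (pow_pos hpp.pos e) this
  refine ⟨m - e, by omega, hRi, ?_⟩
  rw [he]; congr 1; omega

/-- `|R| * |Z(R)| * p ^ (2 (n - k)) = p ^ (2 (m - k))` for a subgroup `R` of index `p ^ k`. -/
theorem card_mul_card_center [Finite G] {p : ℕ} [Fact p.Prime] (hp2 : p ≠ 2)
    (hG : IsPGroup p G) (hmc : Cfsg.IsMetacyclic G) (m n k : ℕ)
    (hn : Nat.card ↥(commutator G) = p ^ n) (R : Subgroup G) (hk : R.index = p ^ k)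
    (hR : Nat.card ↥R = p ^ (m - k)) :
    Nat.card ↥R * Nat.card ↥(Subgroup.center ↥R) * p ^ (2 * (n - k)) = p ^ (2 * (m - k)) := by
  have h1 := Cfsg.Agent.S3879.result hp2 (hG.to_subgroup R) (isMetacyclic_subgroup hmc R)
  rw [card_commutator_subtype, card_commutator_of_index hp2 hG hmc n hn k R hk] at h1
  have h2 := Subgroup.card_mul_index (Subgroup.center ↥R)
  rw [h1, hR] at h2
  rw [hR]
  calc p ^ (m - k) * Nat.card ↥(Subgroup.center ↥R) * p ^ (2 * (n - k))
      = p ^ (m - k) * (Nat.card ↥(Subgroup.center ↥R) * (p ^ (n - k)) ^ 2) := by ring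
    _ = p ^ (m - k) * p ^ (m - k) := by rw [h2]
    _ = p ^ (2 * (m - k)) := by ring

/-- `|G| * |Z(G)| * p ^ (2 n) = p ^ (2 m)`. -/
theorem card_mul_card_center_top [Finite G] {p : ℕ} [Fact p.Prime] (hp2 : p ≠ 2)
    (hG : IsPGroup p G) (hmc : Cfsg.IsMetacyclic G) (m n : ℕ) (hm : Nat.card G = p ^ m)
    (hn : Nat.card ↥(commutator G) = p ^ n) :
    Nat.card G * Nat.card ↥(Subgroup.center G) * p ^ (2 * n) = p ^ (2 * m) := by
  have h1 := Cfsg.Agent.S3879.result hp2 hG hmc
  have h2 := Subgroup.card_mul_index (Subgroup.center G)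
  rw [h1, hn, hm] at h2
  rw [hm]
  calc p ^ m * Nat.card ↥(Subgroup.center G) * p ^ (2 * n)
      = p ^ m * (Nat.card ↥(Subgroup.center G) * (p ^ n) ^ 2) := by ring
    _ = p ^ m * p ^ m := by rw [h2]
    _ = p ^ (2 * m) := by ring

/-- Centralizer step: if `R = R₁⟨g⟩` with `g ^ p ∈ R₁`, then `|C_G(R₁)| ≤ p |C_G(R)|`. -/
theorem card_centralizer_step [Finite G] {p : ℕ} [Fact p.Prime] (hp2 : p ≠ 2)
    (hG : IsPGroup p G) (N : Subgroup G) (hNc : IsCyclic N) (hact : PowAct p N)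
    (hcomm : ∀ x y : G, ⁅x, y⁆ ∈ N) (R₁ R : Subgroup G) (g : G) (hgR : g ∈ R)
    (hgp : g ^ p ∈ R₁) (hle : R₁ ≤ R) (hgen : ∀ r ∈ R, ∃ r₁ ∈ R₁, ∃ i : ℕ, r = r₁ * g ^ i) :
    Nat.card ↥(Subgroup.centralizer (R₁ : Set G)) ≤
      p * Nat.card ↥(Subgroup.centralizer (R : Set G)) := by
  classical
  have hpp : p.Prime := Fact.out
  have hCC₁ : Subgroup.centralizer (R : Set G) ≤ Subgroup.centralizer (R₁ : Set G) :=
    Subgroup.centralizer_le hle
  -- commutators with g of elements of C₁ have order dividing p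
  have hpow : ∀ c ∈ Subgroup.centralizer (R₁ : Set G), ⁅c, g⁆ ^ p = 1 := by
    intro c hc
    rw [← comm_pow_right_eq_one_iff hp2 hG N hact c g (hcomm c g) p]
    have h1 : g ^ p * c = c * g ^ p := (Subgroup.mem_centralizer_iff.1 hc) _ hgp
    rw [commutatorElement_def, ← h1]; group
  let f : ↥(Subgroup.centralizer (R₁ : Set G)) → {u : N // u ^ p = 1} := fun c =>
    ⟨⟨⁅(c : G), g⁆, hcomm _ _⟩, Subtype.ext (hpow c c.2)⟩
  have hf : ∀ a b : ↥(Subgroup.centralizer (R₁ : Set G)),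
      f a = f b ↔ (a : G)⁻¹ * (b : G) ∈ Subgroup.centralizer (R : Set G) := by
    intro a b
    have hfab : f a = f b ↔ ⁅(a : G), g⁆ = ⁅(b : G), g⁆ := by
      constructor
      · intro h
        exact congrArg (fun u : {u : N // u ^ p = 1} => ((u : N) : G)) h
      · intro h
        exact Subtype.ext (Subtype.ext h)
    rw [hfab]
    constructor
    · intro h
      have h1 : (a : G) * g * (a : G)⁻¹ = (b : G) * g * (b : G)⁻¹ := by
        have h2 := congrArg (fun x => x * g) h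
        simpa [commutatorElement_def] using h2
      have h3 : g * ((a : G)⁻¹ * (b : G)) = ((a : G)⁻¹ * (b : G)) * g := by
        calc g * ((a : G)⁻¹ * (b : G)) = (a : G)⁻¹ * ((a : G) * g * (a : G)⁻¹) * (b : G) := by group
          _ = (a : G)⁻¹ * ((b : G) * g * (b : G)⁻¹) * (b : G) := by rw [h1]
          _ = ((a : G)⁻¹ * (b : G)) * g := by group
      have h4 : (a : G)⁻¹ * (b : G) ∈ Subgroup.centralizer (R₁ : Set G) :=
        Subgroup.mul_mem _ (Subgroup.inv_mem _ a.2) b.2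
      rw [Subgroup.mem_centralizer_iff]
      intro r hr
      obtain ⟨r₁, hr₁, i, rfl⟩ := hgen r hr
      have h5 : r₁ * ((a : G)⁻¹ * (b : G)) = ((a : G)⁻¹ * (b : G)) * r₁ :=
        (Subgroup.mem_centralizer_iff.1 h4) r₁ hr₁
      have h6 : g ^ i * ((a : G)⁻¹ * (b : G)) = ((a : G)⁻¹ * (b : G)) * g ^ i :=
        (Commute.pow_left (show Commute g ((a : G)⁻¹ * (b : G)) from h3) i)
      rw [mul_assoc, h6, ← mul_assoc, h5, mul_assoc]
    · intro h
      have h1 : g * ((a : G)⁻¹ * (b : G)) = ((a : G)⁻¹ * (b : G)) * g :=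
        (Subgroup.mem_centralizer_iff.1 h) g hgR
      have h2 : (b : G) = (a : G) * ((a : G)⁻¹ * (b : G)) := by group
      rw [h2, commutatorElement_def, commutatorElement_def]
      have h3 : (a : G) * ((a : G)⁻¹ * (b : G)) * g * ((a : G) * ((a : G)⁻¹ * (b : G)))⁻¹ * g⁻¹ =
          (a : G) * (((a : G)⁻¹ * (b : G)) * g) * ((a : G)⁻¹ * (b : G))⁻¹ * (a : G)⁻¹ * g⁻¹ := by
        group
      rw [h3, ← h1]; group
  -- the induced injection on cosets
  let φ : (↥(Subgroup.centralizer (R₁ : Set G)) ⧸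
      (Subgroup.centralizer (R : Set G)).subgroupOf (Subgroup.centralizer (R₁ : Set G))) →
      {u : N // u ^ p = 1} :=
    Quotient.lift f (by
      intro a b hab
      rw [hf]
      have := QuotientGroup.leftRel_apply.1 hab
      exact Subgroup.mem_subgroupOf.1 this)
  have hφ : Function.Injective φ := by
    intro x y hxy
    induction x using QuotientGroup.induction_on with
    | H a =>
      induction y using QuotientGroup.induction_on with
      | H b =>
        have h1 : f a = f b := hxy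
        rw [hf] at h1
        exact QuotientGroup.eq.2 (Subgroup.mem_subgroupOf.2 h1)
  have hfinN : Finite N := inferInstance
  have hcardΩ : Nat.card {u : N // u ^ p = 1} ≤ p := by
    have : Fintype N := Fintype.ofFinite N
    have h1 := IsCyclic.card_pow_eq_one_le (α := N) hpp.pos
    rw [Nat.card_eq_fintype_card, Fintype.card_subtype]
    exact h1
  have hidx : ((Subgroup.centralizer (R : Set G)).subgroupOf
      (Subgroup.centralizer (R₁ : Set G))).index ≤ p := by
    rw [Subgroup.index_eq_card]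
    exact (Nat.card_le_card_of_injective φ hφ).trans hcardΩ
  have h1 := Subgroup.card_mul_index ((Subgroup.centralizer (R : Set G)).subgroupOf
    (Subgroup.centralizer (R₁ : Set G)))
  rw [Nat.card_congr (Subgroup.subgroupOfEquivOfLe hCC₁).toEquiv] at h1
  rw [← h1, mul_comm]
  exact Nat.mul_le_mul_right _ hidx

/-- In a finite `p`-group, between `Z < R` there is a subgroup `R₁` of index `p` in `R`
containing `Z`, and `R = R₁⟨g⟩` with `g ^ p ∈ R₁`. -/
theorem exists_max_between [Finite G] {p : ℕ} [Fact p.Prime] (hG : IsPGroup p G)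
    (Z R : Subgroup G) (hZR : Z ≤ R) (hne : Z ≠ R) :
    ∃ (R₁ : Subgroup G) (g : G), Z ≤ R₁ ∧ R₁ ≤ R ∧ g ∈ R ∧ g ^ p ∈ R₁ ∧
      Nat.card ↥R = p * Nat.card ↥R₁ ∧ ∀ r ∈ R, ∃ r₁ ∈ R₁, ∃ i : ℕ, r = r₁ * g ^ i := by
  have hpp : p.Prime := Fact.out
  obtain ⟨r, hr⟩ := IsPGroup.iff_card.1 (hG.to_subgroup R)
  obtain ⟨z, hz⟩ := IsPGroup.iff_card.1 (hG.to_subgroup Z)
  have hZ' : Nat.card ↥(Z.subgroupOf R) = p ^ z := by
    rw [Nat.card_congr (Subgroup.subgroupOfEquivOfLe hZR).toEquiv, hz]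
  have hzr : z < r := by
    have hlt : Nat.card ↥Z < Nat.card ↥R := by
      by_contra hge
      push Not at hge
      exact hne (Subgroup.eq_of_le_of_card_ge hZR hge)
    rw [hz, hr] at hlt
    exact (Nat.pow_lt_pow_iff_right hpp.one_lt).1 hlt
  obtain ⟨K, hKc, hZK⟩ := Sylow.exists_subgroup_card_pow_prime_le p (n := z) (m := r - 1)
    (by rw [hr]; exact pow_dvd_pow p (by omega)) (Z.subgroupOf R) hZ' (by omega)
  have hKi : K.index = p := by
    have h1 := Subgroup.card_mul_index K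
    rw [hKc, hr] at h1
    have h2 : p ^ (r - 1) * K.index = p ^ (r - 1) * p := by
      rw [h1, ← pow_succ]; congr 1; omega
    exact Nat.eq_of_mul_eq_mul_left (pow_pos hpp.pos _) h2
  have hKn : K.Normal := by
    apply Subgroup.normal_of_index_eq_minFac_card
    rw [hKi, hr]
    exact (hpp.pow_minFac (by omega)).symm
  have hKtop : K ≠ ⊤ := by
    intro h
    rw [h, Subgroup.index_top] at hKi
    exact hpp.ne_one hKi.symm
  obtain ⟨g', hg'⟩ : ∃ g' : ↥R, g' ∉ K := by
    by_contra h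
    push Not at h
    exact hKtop (eq_top_iff.2 (fun x _ => h x))
  refine ⟨K.map R.subtype, (g' : G), ?_, Subgroup.map_subtype_le K, g'.2, ?_, ?_, ?_⟩
  · intro x hx
    exact ⟨⟨x, hZR hx⟩, hZK (Subgroup.mem_subgroupOf.2 hx), rfl⟩
  · have h1 := K.pow_index_mem g'
    rw [hKi] at h1
    exact ⟨g' ^ p, h1, rfl⟩
  · rw [Nat.card_congr (Subgroup.equivMapOfInjective _ _ R.subtype_injective).toEquiv.symm, hKc,
      hr, ← pow_succ']
    congr 1; omega
  · intro x hx
    have hcard : Nat.card (↥R ⧸ K) = p := by rw [← Subgroup.index_eq_card, hKi]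
    have hg1 : ((g' : ↥R) : ↥R ⧸ K) ≠ 1 := by
      rw [Ne, QuotientGroup.eq_one_iff]; exact hg'
    obtain ⟨i, hi⟩ : (((⟨x, hx⟩ : ↥R) : ↥R ⧸ K)) ∈ Submonoid.powers ((g' : ↥R) : ↥R ⧸ K) :=
      mem_powers_of_prime_card hcard hg1
    have h1 : (⟨x, hx⟩ : ↥R) * (g' ^ i)⁻¹ ∈ K := by
      rw [← QuotientGroup.eq_one_iff, QuotientGroup.mk_mul, QuotientGroup.mk_inv,
        QuotientGroup.mk_pow]
      simp only at hi
      rw [hi, mul_inv_cancel]
    refine ⟨x * ((g' : G) ^ i)⁻¹, ⟨_, h1, rfl⟩, i, by group⟩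

/-- Lower bound: `|G| |Z(G)| ≤ |R| |C_G(R)|` for `Z(G) ≤ R`. -/
theorem card_mul_centralizer_ge [Finite G] {p : ℕ} [Fact p.Prime] (hp2 : p ≠ 2)
    (hG : IsPGroup p G) (hmc : Cfsg.IsMetacyclic G) (R : Subgroup G)
    (hZ : Subgroup.center G ≤ R) :
    Nat.card G * Nat.card ↥(Subgroup.center G) ≤
      Nat.card ↥R * Nat.card ↥(Subgroup.centralizer (R : Set G)) := by
  have hpp : p.Prime := Fact.out
  obtain ⟨N, a, b, hNn, hNc, haN, hNa, hgen, hcomm⟩ := exists_gens hmc
  have hact : PowAct p N := exists_power_action hG N hNc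
  induction h : Nat.card ↥R using Nat.strong_induction_on generalizing R with
  | _ c ih =>
    by_cases hne : Subgroup.center G = R
    · subst hne
      have : Subgroup.centralizer ((Subgroup.center G : Subgroup G) : Set G) = ⊤ :=
        Subgroup.centralizer_eq_top_iff_subset.2 (fun x hx => hx)
      rw [← h, this, Subgroup.card_top, mul_comm]
    · obtain ⟨R₁, g, hZR₁, hR₁R, hgR, hgp, hcard, hgenR⟩ :=
        exists_max_between hG (Subgroup.center G) R hZ hne
      have hlt : Nat.card ↥R₁ < c := by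
        rw [← h, hcard]
        have h1 : 0 < Nat.card ↥R₁ := Nat.card_pos
        have h2 := hpp.two_le
        nlinarith
      have h1 := ih _ hlt R₁ hZR₁ rfl
      have h2 := card_centralizer_step hp2 hG N hNc hact hcomm R₁ R g hgR hgp hR₁R hgenR
      rw [← h]
      calc Nat.card G * Nat.card ↥(Subgroup.center G)
          ≤ Nat.card ↥R₁ * Nat.card ↥(Subgroup.centralizer (R₁ : Set G)) := h1
        _ ≤ Nat.card ↥R₁ * (p * Nat.card ↥(Subgroup.centralizer (R : Set G))) :=
            Nat.mul_le_mul_left _ h2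
        _ = Nat.card ↥R * Nat.card ↥(Subgroup.centralizer (R : Set G)) := by rw [hcard]; ring

/-- General inequality `|R| |C| ≤ |R ⊔ C| |R ⊓ C|` for subgroups of a finite group. -/
theorem card_mul_card_le_sup_mul_inf [Finite G] (R C : Subgroup G) :
    Nat.card ↥R * Nat.card ↥C ≤ Nat.card ↥(R ⊔ C) * Nat.card ↥(C ⊓ R) := by
  have h1 : Nat.card ↥(C ⊓ R) * C.relIndex R = Nat.card ↥R := by
    rw [← Subgroup.inf_relIndex_right, ← Subgroup.relIndex_bot_left, ← Subgroup.relIndex_bot_left,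
      Subgroup.relIndex_mul_relIndex _ _ _ bot_le inf_le_right]
  have h2 : Nat.card ↥C * C.relIndex (R ⊔ C) = Nat.card ↥(R ⊔ C) := by
    rw [← Subgroup.relIndex_bot_left, ← Subgroup.relIndex_bot_left,
      Subgroup.relIndex_mul_relIndex _ _ _ bot_le le_sup_right]
  have h3 : C.relIndex R ≤ C.relIndex (R ⊔ C) :=
    Subgroup.relIndex_le_of_le_right le_sup_left (by
      intro h0
      rw [h0, mul_zero] at h2
      exact Nat.card_pos.ne' h2.symm)
  calc Nat.card ↥R * Nat.card ↥C = Nat.card ↥(C ⊓ R) * C.relIndex R * Nat.card ↥C := by rw [h1]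
    _ ≤ Nat.card ↥(C ⊓ R) * C.relIndex (R ⊔ C) * Nat.card ↥C :=
        Nat.mul_le_mul_right _ (Nat.mul_le_mul_left _ h3)
    _ = Nat.card ↥(R ⊔ C) * Nat.card ↥(C ⊓ R) := by rw [← h2]; ring

/-- Upper bound: `|R| |C_G(R)| ≤ |G| |Z(G)|` for every subgroup `R`. -/
theorem card_mul_centralizer_le [Finite G] {p : ℕ} [Fact p.Prime] (hp2 : p ≠ 2)
    (hG : IsPGroup p G) (hmc : Cfsg.IsMetacyclic G) (R : Subgroup G) :
    Nat.card ↥R * Nat.card ↥(Subgroup.centralizer (R : Set G)) ≤
      Nat.card G * Nat.card ↥(Subgroup.center G) := by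
  have hpp : p.Prime := Fact.out
  obtain ⟨m, n, hm, hn, hnm⟩ := exists_data hG
  set C := Subgroup.centralizer (R : Set G) with hC
  obtain ⟨k, hkm, hk, hHc⟩ := exists_index hG m hm (R ⊔ C)
  have h1 := card_mul_card_le_sup_mul_inf R C
  -- C ⊓ R embeds in the centre of R ⊔ C
  have h2 : Nat.card ↥(C ⊓ R) ≤ Nat.card ↥(Subgroup.center ↥(R ⊔ C)) := by
    have hle0 : C ⊓ R ≤ R ⊔ C := inf_le_right.trans le_sup_left
    have hmem : ∀ x : ↥(C ⊓ R), (⟨(x : G), hle0 x.2⟩ : ↥(R ⊔ C)) ∈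
        Subgroup.center ↥(R ⊔ C) := by
      intro x
      rw [Subgroup.mem_center_iff]
      intro y
      apply Subtype.ext
      show (y : G) * (x : G) = (x : G) * (y : G)
      have hy : (y : G) ∈ Subgroup.centralizer ({(x : G)} : Set G) := by
        have hle : R ⊔ C ≤ Subgroup.centralizer ({(x : G)} : Set G) := by
          rw [sup_le_iff]
          constructor
          · intro r hr
            rw [Subgroup.mem_centralizer_iff]
            intro z hz
            rw [Set.mem_singleton_iff] at hz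
            subst hz
            exact ((Subgroup.mem_centralizer_iff.1 x.2.1) r hr).symm
          · intro c hc
            rw [Subgroup.mem_centralizer_iff]
            intro z hz
            rw [Set.mem_singleton_iff] at hz
            subst hz
            exact (Subgroup.mem_centralizer_iff.1 hc) _ x.2.2
        exact hle y.2
      exact ((Subgroup.mem_centralizer_iff.1 hy) _ rfl).symm
    let f : ↥(C ⊓ R) → ↥(Subgroup.center ↥(R ⊔ C)) := fun x => ⟨⟨(x : G), _⟩, hmem x⟩
    have hf : Function.Injective f := by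
      intro x y hxy
      have := congrArg (fun u : ↥(Subgroup.center ↥(R ⊔ C)) => ((u : ↥(R ⊔ C)) : G)) hxy
      exact Subtype.ext this
    exact Nat.card_le_card_of_injective f hf
  have h3 := card_mul_card_center hp2 hG hmc m n k hn (R ⊔ C) hk hHc
  have h4 := card_mul_card_center_top hp2 hG hmc m n hm hn
  -- compare
  have h5 : Nat.card ↥R * Nat.card ↥C ≤
      Nat.card ↥(R ⊔ C) * Nat.card ↥(Subgroup.center ↥(R ⊔ C)) :=
    h1.trans (Nat.mul_le_mul_left _ h2)
  refine h5.trans ?_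
  have hP : 0 < p ^ (2 * (n - k)) * p ^ (2 * n) :=
    Nat.mul_pos (pow_pos hpp.pos _) (pow_pos hpp.pos _)
  have h6 : Nat.card ↥(R ⊔ C) * Nat.card ↥(Subgroup.center ↥(R ⊔ C)) *
      (p ^ (2 * (n - k)) * p ^ (2 * n)) ≤
      Nat.card G * Nat.card ↥(Subgroup.center G) * (p ^ (2 * (n - k)) * p ^ (2 * n)) := by
    calc Nat.card ↥(R ⊔ C) * Nat.card ↥(Subgroup.center ↥(R ⊔ C)) *
        (p ^ (2 * (n - k)) * p ^ (2 * n))
        = (Nat.card ↥(R ⊔ C) * Nat.card ↥(Subgroup.center ↥(R ⊔ C)) * p ^ (2 * (n - k))) *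
            p ^ (2 * n) := by ring
      _ = p ^ (2 * (m - k)) * p ^ (2 * n) := by rw [h3]
      _ = p ^ (2 * (m - k) + 2 * n) := by rw [pow_add]
      _ ≤ p ^ (2 * m + 2 * (n - k)) := Nat.pow_le_pow_right hpp.pos (by omega)
      _ = p ^ (2 * m) * p ^ (2 * (n - k)) := by rw [pow_add]
      _ = (Nat.card G * Nat.card ↥(Subgroup.center G) * p ^ (2 * n)) * p ^ (2 * (n - k)) := by
          rw [h4]
      _ = Nat.card G * Nat.card ↥(Subgroup.center G) * (p ^ (2 * (n - k)) * p ^ (2 * n)) := by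
          ring
  exact Nat.le_of_mul_le_mul_right h6 hP

/-- Centralizer duality: `|R| |C_G(R)| = |G| |Z(G)|` for `Z(G) ≤ R`. -/
theorem card_mul_centralizer_eq [Finite G] {p : ℕ} [Fact p.Prime] (hp2 : p ≠ 2)
    (hG : IsPGroup p G) (hmc : Cfsg.IsMetacyclic G) (R : Subgroup G)
    (hZ : Subgroup.center G ≤ R) :
    Nat.card ↥R * Nat.card ↥(Subgroup.centralizer (R : Set G)) =
      Nat.card G * Nat.card ↥(Subgroup.center G) :=
  le_antisymm (card_mul_centralizer_le hp2 hG hmc R) (card_mul_centralizer_ge hp2 hG hmc R hZ)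

end Cfsg.Agent.Lib.Helper64.MetaC
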