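import Mathlib
import Cfsg.Prelude.Def_OddOrderLocal
import Cfsg.Agent.Lib.Helper64.MetaC

set_option autoImplicit false

/-!
# Odd metacyclic `p`-groups, part D: class sizes and power subgroups

`G` a finite metacyclic `p`-group, `p` odd, `|G'| = p ^ n`.

* `pow_mem_center_iff` : `x ^ p ^ k ∈ Z(G) ↔ ∀ y, ⁅x, y⁆ ^ p ^ k = 1`;
* `index_centralizer_le_iff` : `|G : C_G(x)| ≤ p ^ k ↔ x ^ p ^ k ∈ Z(G)`;
* `exists_powCenter` : for `k ≤ n`, `{x | x ^ p ^ k ∈ Z(G)}` is a subgroup of index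
  `p ^ (2 (n - k))`;
* `mem_closure_pow_iff` : for `s ≤ n`, `g ∈ ⟨y ^ p ^ s | y⟩ ↔ g ^ p ^ (n - s) ∈ Z(G)`.
-/

namespace Cfsg.Agent.Lib.Helper64.MetaD

open scoped commutatorElement
open Cfsg.Agent.Lib.Helper64.MetaA Cfsg.Agent.Lib.Helper64.MetaB Cfsg.Agent.Lib.Helper64.MetaC

variable {G : Type*} [Group G]

/-- The full setup of a finite metacyclic `p`-group. -/
theorem exists_setup [Finite G] {p : ℕ} [Fact p.Prime] (hG : IsPGroup p G)
    (hmc : Cfsg.IsMetacyclic G) :
    ∃ (N : Subgroup G) (a b : G) (s : ℕ), N.Normal ∧ IsCyclic N ∧ PowAct p N ∧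
      (∀ x y : G, ⁅x, y⁆ ∈ N) ∧ a ∈ N ∧ (∀ g : G, ∃ i j : ℕ, g = a ^ i * b ^ j) ∧ s % p = 1 ∧
      (∀ u ∈ N, b * u * b⁻¹ = u ^ s) ∧ commutator G = Subgroup.zpowers ⁅b, a⁆ := by
  obtain ⟨N, a, b, hNn, hNc, haN, hNa, hgen, hcomm⟩ := exists_gens hmc
  have hact : PowAct p N := exists_power_action hG N hNc
  obtain ⟨s, hs1, hs⟩ := hact b
  refine ⟨N, a, b, s, hNn, hNc, hact, hcomm, haN, hgen, hs1, hs, ?_⟩
  rw [commutator_def]
  exact commutator_eq_zpowers a b s (hs a haN) ⊤ (Subgroup.mem_top a) (Subgroup.mem_top b)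
    (fun h _ => hgen h)

/-- `x ^ p ^ k ∈ Z(G) ↔ ∀ y, ⁅x, y⁆ ^ p ^ k = 1`. -/
theorem pow_mem_center_iff [Finite G] {p : ℕ} [Fact p.Prime] (hp2 : p ≠ 2)
    (hG : IsPGroup p G) (hmc : Cfsg.IsMetacyclic G) (x : G) (k : ℕ) :
    x ^ p ^ k ∈ Subgroup.center G ↔ ∀ y : G, ⁅x, y⁆ ^ p ^ k = 1 := by
  obtain ⟨N, a, b, s, hNn, hNc, hact, hcomm, -⟩ := exists_setup hG hmc
  rw [Subgroup.mem_center_iff]
  constructor
  · intro h y
    rw [← comm_pow_left_eq_one_iff hp2 hG N hact x y (hcomm x y) (p ^ k),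
      commutatorElement_eq_one_iff_mul_comm]
    exact (h y).symm
  · intro h y
    have := h y
    rw [← comm_pow_left_eq_one_iff hp2 hG N hact x y (hcomm x y) (p ^ k),
      commutatorElement_eq_one_iff_mul_comm] at this
    exact this.symm

/-- If `H` has index at most `p ^ k` in a finite `p`-group, then `y ^ p ^ k ∈ H` for all `y`. -/
theorem pow_mem_of_index_le [Finite G] {p : ℕ} [Fact p.Prime] (hG : IsPGroup p G)
    (H : Subgroup G) (k : ℕ) (hH : H.index ≤ p ^ k) (y : G) : y ^ p ^ k ∈ H := by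
  have hpp : p.Prime := Fact.out
  have hnorm : (H.subgroupOf (Subgroup.zpowers y)).Normal := by
    refine ⟨fun n hn g => ?_⟩
    have : g * n * g⁻¹ = n := by
      obtain ⟨i, hi⟩ := Subgroup.mem_zpowers_iff.1 g.2
      obtain ⟨j, hj⟩ := Subgroup.mem_zpowers_iff.1 n.2
      apply Subtype.ext
      show (g : G) * (n : G) * (g : G)⁻¹ = (n : G)
      rw [← hi, ← hj]
      have := Commute.zpow_zpow_self y i j
      rw [this.eq]; group
    rw [this]; exact hn
  have h1 := (H.subgroupOf (Subgroup.zpowers y)).pow_index_mem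
    (⟨y, Subgroup.mem_zpowers y⟩ : ↥(Subgroup.zpowers y))
  have h2 : (H.subgroupOf (Subgroup.zpowers y)).index ∣ Nat.card ↥(Subgroup.zpowers y) :=
    Subgroup.index_dvd_card _
  obtain ⟨e, he⟩ := IsPGroup.iff_card.1 (hG.to_subgroup (Subgroup.zpowers y))
  rw [he] at h2
  obtain ⟨f, -, hf⟩ := (Nat.dvd_prime_pow hpp).1 h2
  have h3 : (H.subgroupOf (Subgroup.zpowers y)).index ≤ H.index := by
    have h4 : H.relIndex (Subgroup.zpowers y) ≤ H.relIndex ⊤ :=
      Subgroup.relIndex_le_of_le_right le_top (by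
        rw [Subgroup.relIndex_top_right]
        exact Subgroup.index_ne_zero_of_finite)
    rw [Subgroup.relIndex_top_right] at h4
    exact h4
  have hfk : f ≤ k := by
    have : p ^ f ≤ p ^ k := by rw [← hf]; exact h3.trans hH
    exact (Nat.pow_le_pow_iff_right hpp.one_lt).1 this
  rw [hf] at h1
  have h5 : y ^ p ^ f ∈ H := Subgroup.mem_subgroupOf.1 h1
  have h6 : y ^ p ^ k = (y ^ p ^ f) ^ p ^ (k - f) := by
    rw [← pow_mul, ← pow_add]; congr 2; omega
  rw [h6]
  exact H.pow_mem h5 _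

/-- If all commutators `⁅g, x⁆` lie in the cyclic group `N` and have order dividing `q`, then
`|G : C_G(x)| ≤ q`. -/
theorem index_centralizer_le_of_comm_pow [Finite G] (N : Subgroup G) (hNc : IsCyclic N) (x : G)
    (q : ℕ) (hq : 0 < q) (hN : ∀ g : G, ⁅g, x⁆ ∈ N) (hpow : ∀ g : G, ⁅g, x⁆ ^ q = 1) :
    (Subgroup.centralizer ({x} : Set G)).index ≤ q := by
  classical
  let f : G → {u : N // u ^ q = 1} := fun c => ⟨⟨⁅c, x⁆, hN c⟩, Subtype.ext (hpow c)⟩
  have hf : ∀ a b : G, f a = f b ↔ a⁻¹ * b ∈ Subgroup.centralizer ({x} : Set G) := by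
    intro a b
    have hfab : f a = f b ↔ ⁅a, x⁆ = ⁅b, x⁆ := by
      constructor
      · intro h
        exact congrArg (fun u : {u : N // u ^ q = 1} => ((u : N) : G)) h
      · intro h
        exact Subtype.ext (Subtype.ext h)
    rw [hfab, Subgroup.mem_centralizer_iff]
    constructor
    · intro h z hz
      rw [Set.mem_singleton_iff] at hz
      subst hz
      have h1 : a * z * a⁻¹ = b * z * b⁻¹ := by
        have h2 := congrArg (fun u => u * z) h
        simpa [commutatorElement_def] using h2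
      calc z * (a⁻¹ * b) = a⁻¹ * (a * z * a⁻¹) * b := by group
        _ = a⁻¹ * (b * z * b⁻¹) * b := by rw [h1]
        _ = a⁻¹ * b * z := by group
    · intro h
      have h1 : x * (a⁻¹ * b) = a⁻¹ * b * x := h x rfl
      have h2 : b = a * (a⁻¹ * b) := by group
      rw [h2, commutatorElement_def, commutatorElement_def]
      have h3 : a * (a⁻¹ * b) * x * (a * (a⁻¹ * b))⁻¹ * x⁻¹ =
          a * ((a⁻¹ * b) * x) * (a⁻¹ * b)⁻¹ * a⁻¹ * x⁻¹ := by group
      rw [h3, ← h1]; group
  let φ : (G ⧸ Subgroup.centralizer ({x} : Set G)) → {u : N // u ^ q = 1} :=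
    Quotient.lift f (by
      intro a b hab
      rw [hf]
      exact QuotientGroup.leftRel_apply.1 hab)
  have hφ : Function.Injective φ := by
    intro u v huv
    induction u using QuotientGroup.induction_on with
    | H a =>
      induction v using QuotientGroup.induction_on with
      | H b =>
        have h1 : f a = f b := huv
        rw [hf] at h1
        exact QuotientGroup.eq.2 h1
  have hcardΩ : Nat.card {u : N // u ^ q = 1} ≤ q := by
    have : Fintype N := Fintype.ofFinite N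
    have h1 := IsCyclic.card_pow_eq_one_le (α := N) hq
    rw [Nat.card_eq_fintype_card, Fintype.card_subtype]
    exact h1
  rw [Subgroup.index_eq_card]
  exact (Nat.card_le_card_of_injective φ hφ).trans hcardΩ

/-- Class size versus order modulo the centre: `|G : C_G(x)| ≤ p ^ k ↔ x ^ p ^ k ∈ Z(G)`. -/
theorem index_centralizer_le_iff [Finite G] {p : ℕ} [Fact p.Prime] (hp2 : p ≠ 2)
    (hG : IsPGroup p G) (hmc : Cfsg.IsMetacyclic G) (x : G) (k : ℕ) :
    (Subgroup.centralizer ({x} : Set G)).index ≤ p ^ k ↔ x ^ p ^ k ∈ Subgroup.center G := by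
  have hpp : p.Prime := Fact.out
  obtain ⟨N, a, b, s, hNn, hNc, hact, hcomm, -⟩ := exists_setup hG hmc
  rw [pow_mem_center_iff hp2 hG hmc]
  constructor
  · intro h y
    have h1 := pow_mem_of_index_le hG _ k h y
    rw [← comm_pow_right_eq_one_iff hp2 hG N hact x y (hcomm x y) (p ^ k),
      commutatorElement_eq_one_iff_mul_comm]
    exact (Subgroup.mem_centralizer_iff.1 h1) x rfl
  · intro h
    apply index_centralizer_le_of_comm_pow N hNc x (p ^ k) (pow_pos hpp.pos k)
      (fun g => hcomm g x)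
    intro g
    rw [← commutatorElement_inv, inv_pow, h g, inv_one]

/-- For `k ≤ n` (`|G'| = p ^ n`), the elements `x` with `x ^ p ^ k ∈ Z(G)` form a subgroup of
index `p ^ (2 (n - k))`. -/
theorem exists_powCenter [Finite G] {p : ℕ} [Fact p.Prime] (hp2 : p ≠ 2)
    (hG : IsPGroup p G) (hmc : Cfsg.IsMetacyclic G) (n : ℕ)
    (hn : Nat.card ↥(commutator G) = p ^ n) (k : ℕ) (hk : k ≤ n) :
    ∃ T : Subgroup G, (∀ x : G, x ∈ T ↔ x ^ p ^ k ∈ Subgroup.center G) ∧
      T.index = p ^ (2 * (n - k)) := by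
  have hpp : p.Prime := Fact.out
  obtain ⟨N, a, b, s, hNn, hNc, hact, hcomm, haN, hgen, hs1, hs, hG'⟩ := exists_setup hG hmc
  set w := ⁅b, a⁆ with hw
  have hwN : w ∈ N := hcomm b a
  have hord : orderOf w = p ^ n := by
    rw [← hn, hG', Nat.card_zpowers]
  -- the subgroup D of order p ^ k of G'
  have hDn : (Subgroup.zpowers (w ^ p ^ (n - k))).Normal := by
    refine ⟨fun u hu g => ?_⟩
    obtain ⟨sg, -, hsg⟩ := hact g
    have huN : u ∈ N := by
      obtain ⟨i, rfl⟩ := Subgroup.mem_zpowers_iff.1 hu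
      exact N.zpow_mem (N.pow_mem hwN _) i
    rw [hsg u huN]
    exact Subgroup.pow_mem _ hu _
  -- membership in D
  have hD : ∀ u ∈ commutator G, u ∈ Subgroup.zpowers (w ^ p ^ (n - k)) ↔ u ^ p ^ k = 1 := by
    intro u hu
    constructor
    · intro h
      obtain ⟨j, rfl⟩ := Subgroup.mem_zpowers_iff.1 h
      rw [← zpow_natCast, ← zpow_mul, mul_comm, zpow_mul, zpow_natCast, ← pow_mul, ← pow_add]
      have : n - k + k = n := by omega
      rw [this, ← hord, pow_orderOf_eq_one, one_zpow]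
    · intro h
      rw [hG'] at hu
      obtain ⟨i, rfl⟩ : ∃ i : ℕ, w ^ i = u := mem_powers_iff_mem_zpowers.2 hu
      rw [← pow_mul, ← orderOf_dvd_iff_pow_eq_one, hord] at h
      have h1 : p ^ (n - k) * p ^ k ∣ i * p ^ k := by
        rw [← pow_add]
        have : n - k + k = n := by omega
        rw [this]; exact h
      obtain ⟨j, rfl⟩ := Nat.dvd_of_mul_dvd_mul_right (pow_pos hpp.pos k) h1
      rw [pow_mul]
      exact Subgroup.pow_mem _ (Subgroup.mem_zpowers _) j
  have hcm : ∀ x y : G, ⁅x, y⁆ ∈ commutator G := by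
    intro x y
    rw [commutator_def]
    exact Subgroup.commutator_mem_commutator (Subgroup.mem_top x) (Subgroup.mem_top y)
  let f := QuotientGroup.mk' (Subgroup.zpowers (w ^ p ^ (n - k)))
  have hfs : Function.Surjective f := QuotientGroup.mk'_surjective _
  refine ⟨(Subgroup.center (G ⧸ Subgroup.zpowers (w ^ p ^ (n - k)))).comap f, ?_, ?_⟩
  · intro x
    rw [pow_mem_center_iff hp2 hG hmc, Subgroup.mem_comap, Subgroup.mem_center_iff]
    constructor
    · intro h y
      have h1 := h (f y)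
      rw [← hD _ (hcm x y)]
      have h2 : f ⁅x, y⁆ = 1 := by
        rw [map_commutatorElement, commutatorElement_eq_one_iff_mul_comm]
        exact h1.symm
      exact (QuotientGroup.eq_one_iff _).1 h2
    · intro h q
      obtain ⟨y, rfl⟩ := hfs q
      have h1 : ⁅x, y⁆ ∈ Subgroup.zpowers (w ^ p ^ (n - k)) :=
        (hD _ (hcm x y)).2 (h y)
      have h2 : f ⁅x, y⁆ = 1 := (QuotientGroup.eq_one_iff _).2 h1
      rw [map_commutatorElement, commutatorElement_eq_one_iff_mul_comm] at h2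
      exact h2.symm
  · rw [Subgroup.index_comap_of_surjective _ hfs,
      Cfsg.Agent.S3879.result hp2 (hG.to_quotient _) (isMetacyclic_quotient hmc _)]
    have hcq : commutator (G ⧸ Subgroup.zpowers (w ^ p ^ (n - k))) = Subgroup.zpowers (f w) := by
      rw [commutator_def, ← Subgroup.map_top_of_surjective f hfs, ← Subgroup.map_commutator,
        ← commutator_def, hG', MonoidHom.map_zpowers]
    have hofw : orderOf (f w) = p ^ (n - k) := by
      have hiff : ∀ j : ℕ, (f w) ^ j = 1 ↔ p ^ (n - k) ∣ j := by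
        intro j
        rw [← map_pow]
        have h1 : f (w ^ j) = 1 ↔ w ^ j ∈ Subgroup.zpowers (w ^ p ^ (n - k)) :=
          QuotientGroup.eq_one_iff _
        rw [h1, hD _ (by rw [hG']; exact Subgroup.pow_mem _ (Subgroup.mem_zpowers w) j),
          ← pow_mul, ← orderOf_dvd_iff_pow_eq_one, hord]
        constructor
        · intro h
          have h2 : p ^ (n - k) * p ^ k ∣ j * p ^ k := by
            rw [← pow_add]
            have : n - k + k = n := by omega
            rw [this]; exact h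
          exact Nat.dvd_of_mul_dvd_mul_right (pow_pos hpp.pos k) h2
        · rintro ⟨j', rfl⟩
          have : n = n - k + k := by omega
          conv_lhs => rw [this]
          rw [pow_add]
          exact ⟨j', by ring⟩
      apply Nat.dvd_antisymm
      · exact orderOf_dvd_of_pow_eq_one ((hiff _).2 dvd_rfl)
      · exact (hiff _).1 (pow_orderOf_eq_one _)
    rw [hcq, Nat.card_zpowers, hofw, ← pow_mul, mul_comm]

/-- `y ^ p ^ n ∈ Z(G)` for all `y`, where `|G'| = p ^ n`. -/
theorem pow_card_commutator_mem_center [Finite G] {p : ℕ} [Fact p.Prime] (hp2 : p ≠ 2)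
    (hG : IsPGroup p G) (hmc : Cfsg.IsMetacyclic G) (n : ℕ)
    (hn : Nat.card ↥(commutator G) = p ^ n) (y : G) : y ^ p ^ n ∈ Subgroup.center G := by
  rw [pow_mem_center_iff hp2 hG hmc]
  intro z
  have h1 : ⁅y, z⁆ ∈ commutator G := by
    rw [commutator_def]
    exact Subgroup.commutator_mem_commutator (Subgroup.mem_top y) (Subgroup.mem_top z)
  have h2 : (⟨⁅y, z⁆, h1⟩ : ↥(commutator G)) ^ p ^ n = 1 := by
    rw [← hn]; exact pow_card_eq_one'
  exact congrArg Subtype.val h2

/-- For `s ≤ n`, the subgroup generated by the `p ^ s`-th powers consists of the `g` with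
`g ^ p ^ (n - s) ∈ Z(G)`. -/
theorem mem_closure_pow_iff [Finite G] {p : ℕ} [Fact p.Prime] (hp2 : p ≠ 2)
    (hG : IsPGroup p G) (hmc : Cfsg.IsMetacyclic G) (n : ℕ)
    (hn : Nat.card ↥(commutator G) = p ^ n) (s : ℕ) (hs : s ≤ n) (g : G) :
    g ∈ Subgroup.closure {x : G | ∃ y : G, y ^ p ^ s = x} ↔
      g ^ p ^ (n - s) ∈ Subgroup.center G := by
  have hpp : p.Prime := Fact.out
  obtain ⟨T, hT, hTi⟩ := exists_powCenter hp2 hG hmc n hn (n - s) (by omega)
  have hTi' : T.index = p ^ s * p ^ s := by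
    rw [hTi, ← pow_add]; congr 1; omega
  obtain ⟨N, a, b, hNn, hNc, haN, hNa, hgen, hcomm⟩ := exists_gens hmc
  set U := Subgroup.closure {x : G | ∃ y : G, y ^ p ^ s = x} with hU
  have hpowU : ∀ y : G, y ^ p ^ s ∈ U := fun y => Subgroup.subset_closure ⟨y, rfl⟩
  have hUT : U ≤ T := by
    rw [hU, Subgroup.closure_le]
    rintro x ⟨y, rfl⟩
    show y ^ p ^ s ∈ T
    rw [hT, ← pow_mul, ← pow_add]
    have : s + (n - s) = n := by omega
    rw [this]
    exact pow_card_commutator_mem_center hp2 hG hmc n hn y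
  have hUi : U.index ≤ p ^ s * p ^ s := by
    let φ : Fin (p ^ s) × Fin (p ^ s) → G ⧸ U := fun ij =>
      ((a ^ (ij.1 : ℕ) * b ^ (ij.2 : ℕ) : G) : G ⧸ U)
    have hφ : Function.Surjective φ := by
      intro q
      obtain ⟨x, rfl⟩ := QuotientGroup.mk_surjective q
      obtain ⟨I, J, rfl⟩ := hgen x
      have hps : 0 < p ^ s := pow_pos hpp.pos s
      refine ⟨(⟨I % p ^ s, Nat.mod_lt _ hps⟩, ⟨J % p ^ s, Nat.mod_lt _ hps⟩), ?_⟩
      show ((a ^ (I % p ^ s) * b ^ (J % p ^ s) : G) : G ⧸ U) = ((a ^ I * b ^ J : G) : G ⧸ U)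
      rw [QuotientGroup.eq]
      have hI : a ^ I = a ^ (I % p ^ s) * (a ^ p ^ s) ^ (I / p ^ s) := by
        rw [← pow_mul, ← pow_add, Nat.mod_add_div]
      have hJ : b ^ J = b ^ (J % p ^ s) * (b ^ p ^ s) ^ (J / p ^ s) := by
        rw [← pow_mul, ← pow_add, Nat.mod_add_div]
      have h1 : (a ^ (I % p ^ s) * b ^ (J % p ^ s))⁻¹ * (a ^ I * b ^ J) =
          (((b ^ (J % p ^ s))⁻¹ * a * b ^ (J % p ^ s)) ^ p ^ s) ^ (I / p ^ s) *
            (b ^ p ^ s) ^ (J / p ^ s) := by
        have h2 : ((b ^ (J % p ^ s))⁻¹ * a * b ^ (J % p ^ s)) ^ p ^ s =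
            (b ^ (J % p ^ s))⁻¹ * a ^ p ^ s * b ^ (J % p ^ s) := by
          have := conj_pow (a := (b ^ (J % p ^ s))⁻¹) (b := a) (i := p ^ s)
          rw [inv_inv] at this
          exact this
        have h3 : ((b ^ (J % p ^ s))⁻¹ * a ^ p ^ s * b ^ (J % p ^ s)) ^ (I / p ^ s) =
            (b ^ (J % p ^ s))⁻¹ * (a ^ p ^ s) ^ (I / p ^ s) * b ^ (J % p ^ s) := by
          have := conj_pow (a := (b ^ (J % p ^ s))⁻¹) (b := a ^ p ^ s) (i := I / p ^ s)
          rw [inv_inv] at this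
          exact this
        rw [h2, h3]
        conv_lhs => rw [hI, hJ]
        group
      rw [h1]
      exact U.mul_mem (U.pow_mem (hpowU _) _) (U.pow_mem (hpowU _) _)
    rw [Subgroup.index_eq_card]
    have := Nat.card_le_card_of_surjective φ hφ
    rwa [Nat.card_prod, Nat.card_fin] at this
  have hcard : Nat.card ↥T ≤ Nat.card ↥U := by
    have h1 := Subgroup.card_mul_index U
    have h2 := Subgroup.card_mul_index T
    have h3 : Nat.card ↥T * T.index ≤ Nat.card ↥U * T.index := by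
      rw [h2, ← h1, hTi']
      exact Nat.mul_le_mul_left _ hUi
    exact Nat.le_of_mul_le_mul_right h3 (by rw [hTi']; exact Nat.mul_pos (pow_pos hpp.pos s) (pow_pos hpp.pos s))
  have hUeq : U = T := Subgroup.eq_of_le_of_card_ge hUT hcard
  rw [hUeq, hT]

end Cfsg.Agent.Lib.Helper64.MetaD
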