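import Mathlib

/-!
Noncommutative ring identities used for the quadratic offender "limit" construction
(helper64, S1935).  Each identity is proved from an explicit certificate
`LHS - RHS = Σ u * (relation) * v` checked by `noncomm_ring`.
-/

set_option autoImplicit false
set_option maxHeartbeats 1600000
set_option linter.unusedSimpArgs false
set_option maxRecDepth 200000

namespace Cfsg.Agent.Lib.Helper64.OffId

theorem id_conjm {R : Type*} [Ring R] (a β : R)
    (h0 : β * β = 0) :
    (1 - β) * (1 + a) * (1 + β) =
    1 + a + (a * β - β * a) - β * a * β := by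
  have key : (1 - β) * (1 + a) * (1 + β) - (1 + a + (a * β - β * a) - β * a * β) =
    -(β * β) := by
    noncomm_ring
  have hfin : (1 - β) * (1 + a) * (1 + β) - (1 + a + (a * β - β * a) - β * a * β) = 0 := by
    rw [key]; simp only [h0, mul_zero, zero_mul, add_zero, sub_zero, neg_zero, zero_add, zero_sub]
  exact sub_eq_zero.mp hfin

theorem id_conjp {R : Type*} [Ring R] (a β : R)
    (h0 : β * β = 0) :
    (1 + β) * (1 + a) * (1 - β) =
    1 + a - (a * β - β * a) - β * a * β := by
  have key : (1 + β) * (1 + a) * (1 - β) - (1 + a - (a * β - β * a) - β * a * β) =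
    -(β * β) := by
    noncomm_ring
  have hfin : (1 + β) * (1 + a) * (1 - β) - (1 + a - (a * β - β * a) - β * a * β) = 0 := by
    rw [key]; simp only [h0, mul_zero, zero_mul, add_zero, sub_zero, neg_zero, zero_add, zero_sub]
  exact sub_eq_zero.mp hfin

theorem id_h1 {R : Type*} [Ring R] (a a' β : R)
    (h0 : β * β = 0) (h1 : a * a' = 0) (h2 : a' * a' = 0) (h3 : a' * a = 0) :
    (1 - β) * (1 + a') * (1 + β) * (1 + a) * ((1 - β) * (1 - a') * (1 + β)) - 1 =
    a + ((a' * β * a + a * β * a') + (a * β * a' * β - β * a' * β * a) + a' * β * a * β * a' + a' * β * a * β * a' * β - β * a' * β * a * β * a' - β * a' * β * a * β * a' * β) := by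
  have key : (1 - β) * (1 + a') * (1 + β) * (1 + a) * ((1 - β) * (1 - a') * (1 + β)) - 1 - (a + ((a' * β * a + a * β * a') + (a * β * a' * β - β * a' * β * a) + a' * β * a * β * a' + a' * β * a * β * a' * β - β * a' * β * a * β * a' - β * a' * β * a * β * a' * β)) =
    -(β * β) - (β * β) - (a * a') - (a * a') * (β) - a * (β * β) - (a' * a') - (a' * a') * (β) - a' * (β * β) + (a' * a) - a' * (a * a') - a' * (a * a') * (β) - a' * a * (β * β) + (a' * a) * (β * a') + (a' * a) * (β * a' * β) - a' * (β * β) * (β) + a' * (β * β) * (a') + a' * (β * β) * (a' * β) - a' * β * (a * a') - a' * β * (a * a') * (β) - a' * β * a * (β * β) + (β * β) * (a') + (β * β) * (a' * β) + (β * β) * (β * β) - (β * β) * (β * a') - (β * β) * (β * a' * β) - (β * β) * (a) + (β * β) * (a * a') + (β * β) * (a * a' * β) + (β * β) * (a * β * β) - (β * β) * (a * β * a') - (β * β) * (a * β * a' * β) + β * (a' * a') + β * (a' * a') * (β) + β * a' * (β * β) - β * (a' * a) + β * a' * (a * a') + β * a' * (a * a') * (β) + β * a' * a * (β * β) - β * (a' * a) * (β * a') - β * (a' *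 a) * (β * a' * β) + β * a' * (β * β) * (β) - β * a' * (β * β) * (a') - β * a' * (β * β) * (a' * β) + β * a' * β * (a * a') + β * a' * β * (a * a') * (β) + β * a' * β * a * (β * β) := by
    noncomm_ring
  have hfin : (1 - β) * (1 + a') * (1 + β) * (1 + a) * ((1 - β) * (1 - a') * (1 + β)) - 1 - (a + ((a' * β * a + a * β * a') + (a * β * a' * β - β * a' * β * a) + a' * β * a * β * a' + a' * β * a * β * a' * β - β * a' * β * a * β * a' - β * a' * β * a * β * a' * β)) = 0 := by
    rw [key]; simp only [h0, h1, h2, h3, mul_zero, zero_mul, add_zero, sub_zero, neg_zero, zero_add, zero_sub]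
  exact sub_eq_zero.mp hfin

theorem id_h2 {R : Type*} [Ring R] (a a' β : R)
    (h0 : β * β = 0) (h1 : a * a' = 0) (h2 : a' * a' = 0) (h3 : a' * a = 0) :
    (1 + β) * (1 + a') * (1 - β) * (1 + a) * ((1 + β) * (1 - a') * (1 - β)) - 1 =
    a + (-(a' * β * a + a * β * a') + (a * β * a' * β - β * a' * β * a) + a' * β * a * β * a' - a' * β * a * β * a' * β + β * a' * β * a * β * a' - β * a' * β * a * β * a' * β) := by
  have key : (1 + β) * (1 + a') * (1 - β) * (1 + a) * ((1 + β) * (1 - a') * (1 - β)) - 1 - (a + (-(a' * β * a + a * β * a') + (a * β * a' * β - β * a' * β * a) + a' * β * a * β * a' - a' * β * a * β * a' * β + β * a' * β * a * β * a' - β * a' * β * a * β * a' * β)) =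
    -(β * β) - (β * β) - (a * a') + (a * a') * (β) - a * (β * β) - (a' * a') + (a' * a') * (β) - a' * (β * β) + (a' * a) - a' * (a * a') + a' * (a * a') * (β) - a' * a * (β * β) - (a' * a) * (β * a') + (a' * a) * (β * a' * β) + a' * (β * β) * (β) + a' * (β * β) * (a') - a' * (β * β) * (a' * β) + a' * β * (a * a') - a' * β * (a * a') * (β) + a' * β * a * (β * β) + (β * β) * (a') - (β * β) * (a' * β) + (β * β) * (β * β) + (β * β) * (β * a') - (β * β) * (β * a' * β) - (β * β) * (a) + (β * β) * (a * a') - (β * β) * (a * a' * β) + (β * β) * (a * β * β) + (β * β) * (a * β * a') - (β * β) * (a * β * a' * β) - β * (a' * a') + β * (a' * a') * (β) - β * a' * (β * β) + β * (a' * a) - β * a' * (a * a') + β * a' * (a * a') * (β) - β * a' * a * (β * β) - β * (a' * a) * (β * a') + β * (a' * a) * (β * a' * β) + β * a' * (β * β) * (β) + β * a' * (β * β) * (a') - β * a' * (β * β) * (a' * β) + β * a' * β * (a * a') - β * a' * β * (a * a') * (β) + β * a' * β * a * (β * β) := by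
    noncomm_ring
  have hfin : (1 + β) * (1 + a') * (1 - β) * (1 + a) * ((1 + β) * (1 - a') * (1 - β)) - 1 - (a + (-(a' * β * a + a * β * a') + (a * β * a' * β - β * a' * β * a) + a' * β * a * β * a' - a' * β * a * β * a' * β + β * a' * β * a * β * a' - β * a' * β * a * β * a' * β)) = 0 := by
    rw [key]; simp only [h0, h1, h2, h3, mul_zero, zero_mul, add_zero, sub_zero, neg_zero, zero_add, zero_sub]
  exact sub_eq_zero.mp hfin

theorem id_chk1 {R : Type*} [Ring R] (a β : R)
    (h0 : a * a = 0) (h1 : β * β = 0) (h2 : a * β * a * β * a = 0) :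
    (1 - β) * (1 + a) * (1 + β) * ((1 + β) * (1 + a) * (1 - β)) * (1 + (-a - a)) * (1 + ((-(a * β * a) + a * β * a * β - β * a * β * a) + (-(a * β * a) + a * β * a * β - β * a * β * a))) =
    1 - (β * (a - a * β * a) * β + β * (a - a * β * a) * β) := by
  have key : (1 - β) * (1 + a) * (1 + β) * ((1 + β) * (1 + a) * (1 - β)) * (1 + (-a - a)) * (1 + ((-(a * β * a) + a * β * a * β - β * a * β * a) + (-(a * β * a) + a * β * a * β - β * a * β * a))) - (1 - (β * (a - a * β * a) * β + β * (a - a * β * a) * β)) =
    -(a * a) - (a * a) - (a * a) + (a * a) * (a * β * a) + (a * a) * (a * β * a) + (a * a) * (a * β * a) + (a * a) * (a * β * a) + (a * a) * (a * β * a) + (a * a) * (a * β * a) - (a * a) * (a * β * a * β) - (a * a) * (a * β * a * β) - (a * a) * (a * β * a * β) - (a * a) * (a * β * a * β) - (a * a) * (a * β * a * β) - (a * a) * (a * β * a * β) + (a * a) * (β * a * β * a) + (a * a) * (β * a * β * a) + (a * a) * (β * a * β * a) + (a * a) * (β * a * β * a) + (a * a) * (β * a * β * a) + (a * a) * (β * a * β * a) + (a * a) * (β * a * β * a)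 + (a * a) * (β * a * β * a) - (β * β) - (β * β) + (β * β) * (a * β * a) + (β * β) * (a * β * a) - (β * β) * (a * β * a * β) - (β * β) * (a * β * a * β) - (β * β) * (a * β * a * β) - (β * β) * (a * β * a * β) + (β * β) * (β * a * β * a) + (β * β) * (β * a * β * a) + (β * β) * (a) + (β * β) * (a) + (β * β) * (a) - (β * β) * (a * a * β * a) - (β * β) * (a * a * β * a) - (β * β) * (a * a * β * a) - (β * β) * (a * a * β * a) - (β * β) * (a * a * β * a) - (β * β) * (a * a * β * a) + (β * β) * (a * a * β * a * β) + (β * β) * (a * a * β * a * β) + (β * β) * (a * a * β * a * β) + (β * β) * (a * a * β * a * β) + (β * β) * (a * a * β * a * β) + (β * β) * (a * a * β * a * β) - (β * β) * (a * β * a * β * a) - (β * β) * (a * β * a * β * a) - (β * β) * (a * β * a * β * a) - (β * β) * (a * β * a * β * a) - (β * β) * (a * β * a * β * a) - (β * β) * (a * β * a * β * a) - (β * β) * (a * β * a * β * a) - (β * β) * (a * β * a * β * a) - β * (a * β * a * β * a) * (β) - β * (a * β * a * β * a) * (β) - β * (a * β * a * β * a) * (β) - β * (a * β * a * β * a) * (β)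 - β * a * β * (a * a) * (β * a) - β * a * β * (a * a) * (β * a) - β * a * β * (a * a) * (β * a) - β * a * β * (a * a) * (β * a) + β * a * β * (a * a) * (β * a * β) + β * a * β * (a * a) * (β * a * β) + β * a * β * (a * a) * (β * a * β) + β * a * β * (a * a) * (β * a * β) - β * (a * β * a * β * a) * (β * a) - β * (a * β * a * β * a) * (β * a) - β * (a * β * a * β * a) * (β * a) - β * (a * β * a * β * a) * (β * a) - β * (a * β * a * β * a) * (β * a) - β * (a * β * a * β * a) * (β * a) - β * (a * β * a * β * a) * (β * a) - β * (a * β * a * β * a) * (β * a) - (a * a) * (a) - (a * a) * (a) + (a * a) * (a * a * β * a) + (a * a) * (a * a * β * a) + (a * a) * (a * a * β * a) + (a * a) * (a * a * β * a) - (a * a) * (a * a * β * a * β) - (a * a) * (a * a * β * a * β) - (a * a) * (a * a * β * a * β) - (a * a) * (a * a * β * a * β) + (a * a) * (a * β * a * β * a) + (a * a) * (a * β * a * β * a) + (a * a) * (a * β * a * β * a) + (a * a) * (a * β * a * β * a) - (a * a) * (β) - (a * a) * (β * a * β * a * β) - (a * a) * (β * a * β * a * β) + a * a * (β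 * β) * (a * β * a) + a * a * (β * β) * (a * β * a) + (a * a) * (β * a) + (a * a) * (β * a) - (a * a) * (β * a * a * β * a) - (a * a) * (β * a * a * β * a) - (a * a) * (β * a * a * β * a) - (a * a) * (β * a * a * β * a) + (a * a) * (β * a * a * β * a * β) + (a * a) * (β * a * a * β * a * β) + (a * a) * (β * a * a * β * a * β) + (a * a) * (β * a * a * β * a * β) - (a * a) * (β * a * β * a * β * a) - (a * a) * (β * a * β * a * β * a) - (a * a) * (β * a * β * a * β * a) - (a * a) * (β * a * β * a * β * a) - a * (β * β) + a * (β * β) * (a * β * a) + a * (β * β) * (a * β * a) + a * (β * β) * (a * β * a) + a * (β * β) * (a * β * a) - a * (β * β) * (a * β * a * β) - a * (β * β) * (a * β * a * β) + a * (β * β) * (β * a * β * a) + a * (β * β) * (β * a * β * a) + a * (β * β) * (β * a * β * a) + a * (β * β) * (β * a * β * a) + a * (β * β) * (a) + a * (β * β) * (a) + a * (β * β) * (a) - a * (β * β) * (a * a * β * a) - a * (β * β) * (a * a * β * a) - a * (β * β) * (a * a * β * a) - a * (β * β) * (a * a * β * a) - a * (β * β) * (a * a * β * a) - a * (β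 * β) * (a * a * β * a) + a * (β * β) * (a * a * β * a * β) + a * (β * β) * (a * a * β * a * β) + a * (β * β) * (a * a * β * a * β) + a * (β * β) * (a * a * β * a * β) + a * (β * β) * (a * a * β * a * β) + a * (β * β) * (a * a * β * a * β) - a * (β * β) * (a * β * a * β * a) - a * (β * β) * (a * β * a * β * a) - a * (β * β) * (a * β * a * β * a) - a * (β * β) * (a * β * a * β * a) - a * β * (a * a) * (β * a) - a * β * (a * a) * (β * a) - a * β * (a * a) * (β * a) - a * β * (a * a) * (β * a) + a * β * (a * a) * (β * a * β) + a * β * (a * a) * (β * a * β) + a * β * (a * a) * (β * a * β) + a * β * (a * a) * (β * a * β) - a * β * (a * a) - a * β * (a * a) - a * β * (a * a) - a * β * (a * a) + a * β * (a * a) * (a * β * a) + a * β * (a * a) * (a * β * a) + a * β * (a * a) * (a * β * a) + a * β * (a * a) * (a * β * a) + a * β * (a * a) * (a * β * a) + a * β * (a * a) * (a * β * a) + a * β * (a * a) * (a * β * a) + a * β * (a * a) * (a * β * a) - a * β * (a * a) * (a * β * a * β) - a * β * (a * a) * (a * β * a * β) - a * β * (a * a) * (a * β * a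 * β) - a * β * (a * a) * (a * β * a * β) - a * β * (a * a) * (a * β * a * β) - a * β * (a * a) * (a * β * a * β) - a * β * (a * a) * (a * β * a * β) - a * β * (a * a) * (a * β * a * β) + a * β * (a * a) * (β * a * β * a) + a * β * (a * a) * (β * a * β * a) + a * β * (a * a) * (β * a * β * a) + a * β * (a * a) * (β * a * β * a) + a * β * (a * a) * (β * a * β * a) + a * β * (a * a) * (β * a * β * a) + a * β * (a * a) * (β * a * β * a) + a * β * (a * a) * (β * a * β * a) - (a * β * a * β * a) * (β * a * β) - (a * β * a * β * a) * (β * a * β) - (a * β * a * β * a) * (β * a * β) - (a * β * a * β * a) * (β * a * β) + a * β * a * (β * β) * (a * β * a) + a * β * a * (β * β) * (a * β * a) + a * β * a * (β * β) * (a * β * a) + a * β * a * (β * β) * (a * β * a) + (a * β * a * β * a) + (a * β * a * β * a) + (a * β * a * β * a) + (a * β * a * β * a) - a * β * a * β * (a * a) * (β * a) - a * β * a * β * (a * a) * (β * a) - a * β * a * β * (a * a) * (β * a) - a * β * a * β * (a * a) * (β * a) - a * β * a * β * (a * a) * (β * a) - a * β * a * β * (a * a)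 * (β * a) - a * β * a * β * (a * a) * (β * a) - a * β * a * β * (a * a) * (β * a) + a * β * a * β * (a * a) * (β * a * β) + a * β * a * β * (a * a) * (β * a * β) + a * β * a * β * (a * a) * (β * a * β) + a * β * a * β * (a * a) * (β * a * β) + a * β * a * β * (a * a) * (β * a * β) + a * β * a * β * (a * a) * (β * a * β) + a * β * a * β * (a * a) * (β * a * β) + a * β * a * β * (a * a) * (β * a * β) - (a * β * a * β * a) * (β * a * β * a) - (a * β * a * β * a) * (β * a * β * a) - (a * β * a * β * a) * (β * a * β * a) - (a * β * a * β * a) * (β * a * β * a) - (a * β * a * β * a) * (β * a * β * a) - (a * β * a * β * a) * (β * a * β * a) - (a * β * a * β * a) * (β * a * β * a) - (a * β * a * β * a) * (β * a * β * a) - a * (β * β) * (β) - a * (β * β) * (β * a * β * a * β) - a * (β * β) * (β * a * β * a * β) + a * (β * β) * (β * β * a * β * a) + a * (β * β) * (β * β * a * β * a) + a * (β * β) * (β * a) + a * (β * β) * (β * a) - a * (β * β) * (β * a * a * β * a) - a * (β * β) * (β * a * a * β * a) - a * (β * β) * (β * a * a * β * a) - a * (β *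 β) * (β * a * a * β * a) + a * (β * β) * (β * a * a * β * a * β) + a * (β * β) * (β * a * a * β * a * β) + a * (β * β) * (β * a * a * β * a * β) + a * (β * β) * (β * a * a * β * a * β) - a * (β * β) * (β * a * β * a * β * a) - a * (β * β) * (β * a * β * a * β * a) - a * (β * β) * (β * a * β * a * β * a) - a * (β * β) * (β * a * β * a * β * a) - a * (β * β) * (a * a) - a * (β * β) * (a * a) + a * (β * β) * (a * a * a * β * a) + a * (β * β) * (a * a * a * β * a) + a * (β * β) * (a * a * a * β * a) + a * (β * β) * (a * a * a * β * a) - a * (β * β) * (a * a * a * β * a * β) - a * (β * β) * (a * a * a * β * a * β) - a * (β * β) * (a * a * a * β * a * β) - a * (β * β) * (a * a * a * β * a * β) + a * (β * β) * (a * a * β * a * β * a) + a * (β * β) * (a * a * β * a * β * a) + a * (β * β) * (a * a * β * a * β * a) + a * (β * β) * (a * a * β * a * β * a) - a * (β * β) * (a * β) - a * (β * β) * (a * β * a * β * a * β) - a * (β * β) * (a * β * a * β * a * β) + a * (β * β) * (a * β * β * a * β * a) + a * (β * β) * (a * β * β * a * β * a) - a * (β * β)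 * (a * β * a * a * β * a) - a * (β * β) * (a * β * a * a * β * a) - a * (β * β) * (a * β * a * a * β * a) - a * (β * β) * (a * β * a * a * β * a) + a * (β * β) * (a * β * a * a * β * a * β) + a * (β * β) * (a * β * a * a * β * a * β) + a * (β * β) * (a * β * a * a * β * a * β) + a * (β * β) * (a * β * a * a * β * a * β) - a * (β * β) * (a * β * a * β * a * β * a) - a * (β * β) * (a * β * a * β * a * β * a) - a * (β * β) * (a * β * a * β * a * β * a) - a * (β * β) * (a * β * a * β * a * β * a) + (β * β) * (a * a) + (β * β) * (a * a) - (β * β) * (a * a * a * β * a) - (β * β) * (a * a * a * β * a) - (β * β) * (a * a * a * β * a) - (β * β) * (a * a * a * β * a) + (β * β) * (a * a * a * β * a * β) + (β * β) * (a * a * a * β * a * β) + (β * β) * (a * a * a * β * a * β) + (β * β) * (a * a * a * β * a * β) - (β * β) * (a * a * β * a * β * a) - (β * β) * (a * a * β * a * β * a) - (β * β) * (a * a * β * a * β * a) - (β * β) * (a * a * β * a * β * a) + (β * β) * (a * β) + (β * β) * (a * β * a * β * a * β) + (β * β) * (a * β * a * β * a * β) - (β *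 β) * (a * β * β * a * β * a) - (β * β) * (a * β * β * a * β * a) + (β * β) * (a * β * a * a * β * a) + (β * β) * (a * β * a * a * β * a) + (β * β) * (a * β * a * a * β * a) + (β * β) * (a * β * a * a * β * a) - (β * β) * (a * β * a * a * β * a * β) - (β * β) * (a * β * a * a * β * a * β) - (β * β) * (a * β * a * a * β * a * β) - (β * β) * (a * β * a * a * β * a * β) + (β * β) * (a * β * a * β * a * β * a) + (β * β) * (a * β * a * β * a * β * a) + (β * β) * (a * β * a * β * a * β * a) + (β * β) * (a * β * a * β * a * β * a) + (β * β) * (β * β) - (β * β) * (β * β * a * β * a) - (β * β) * (β * β * a * β * a) + (β * β) * (β * β * a * β * a * β) + (β * β) * (β * β * a * β * a * β) - (β * β) * (β * β * β * a * β * a) - (β * β) * (β * β * β * a * β * a) - (β * β) * (β * β * a) - (β * β) * (β * β * a) + (β * β) * (β * β * a * a * β * a) + (β * β) * (β * β * a * a * β * a) + (β * β) * (β * β * a * a * β * a) + (β * β) * (β * β * a * a * β * a) - (β * β) * (β * β * a * a * β * a * β) - (β * β) * (β * β * a * a * β * a * β) - (β * β) * (β * β * a *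 a * β * a * β) - (β * β) * (β * β * a * a * β * a * β) + (β * β) * (β * β * a * β * a * β * a) + (β * β) * (β * β * a * β * a * β * a) + (β * β) * (β * β * a * β * a * β * a) + (β * β) * (β * β * a * β * a * β * a) - (β * β) * (β * a) + (β * β) * (β * a * a * β * a) + (β * β) * (β * a * a * β * a) - (β * β) * (β * a * a * β * a * β) - (β * β) * (β * a * a * β * a * β) + (β * β) * (β * a * a) + (β * β) * (β * a * a) - (β * β) * (β * a * a * a * β * a) - (β * β) * (β * a * a * a * β * a) - (β * β) * (β * a * a * a * β * a) - (β * β) * (β * a * a * a * β * a) + (β * β) * (β * a * a * a * β * a * β) + (β * β) * (β * a * a * a * β * a * β) + (β * β) * (β * a * a * a * β * a * β) + (β * β) * (β * a * a * a * β * a * β) - (β * β) * (β * a * a * β * a * β * a) - (β * β) * (β * a * a * β * a * β * a) - (β * β) * (β * a * a * β * a * β * a) - (β * β) * (β * a * a * β * a * β * a) + (β * β) * (β * a * β) + (β * β) * (β * a * β * a * β * a * β) + (β * β) * (β * a * β * a * β * a * β) - (β * β) * (β * a * β * β * a * β * a) - (β * β) * (β * a * β * β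 * a * β * a) + (β * β) * (β * a * β * a * a * β * a) + (β * β) * (β * a * β * a * a * β * a) + (β * β) * (β * a * β * a * a * β * a) + (β * β) * (β * a * β * a * a * β * a) - (β * β) * (β * a * β * a * a * β * a * β) - (β * β) * (β * a * β * a * a * β * a * β) - (β * β) * (β * a * β * a * a * β * a * β) - (β * β) * (β * a * β * a * a * β * a * β) + (β * β) * (β * a * β * a * β * a * β * a) + (β * β) * (β * a * β * a * β * a * β * a) + (β * β) * (β * a * β * a * β * a * β * a) + (β * β) * (β * a * β * a * β * a * β * a) - β * (a * a) + β * (a * a) * (a * β * a) + β * (a * a) * (a * β * a) - β * (a * a) * (a * β * a * β) - β * (a * a) * (a * β * a * β) + β * (a * a) * (a) + β * (a * a) * (a) - β * (a * a) * (a * a * β * a) - β * (a * a) * (a * a * β * a) - β * (a * a) * (a * a * β * a) - β * (a * a) * (a * a * β * a) + β * (a * a) * (a * a * β * a * β) + β * (a * a) * (a * a * β * a * β) + β * (a * a) * (a * a * β * a * β) + β * (a * a) * (a * a * β * a * β) - β * (a * a) * (a * β * a * β * a) - β * (a * a) * (a * β * a * β * a) - β * (a *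 a) * (a * β * a * β * a) - β * (a * a) * (a * β * a * β * a) + β * (a * a) * (β) + β * (a * a) * (β * a * β * a * β) + β * (a * a) * (β * a * β * a * β) - β * a * a * (β * β) * (a * β * a) - β * a * a * (β * β) * (a * β * a) - β * (a * a) * (β * a) - β * (a * a) * (β * a) + β * (a * a) * (β * a * a * β * a) + β * (a * a) * (β * a * a * β * a) + β * (a * a) * (β * a * a * β * a) + β * (a * a) * (β * a * a * β * a) - β * (a * a) * (β * a * a * β * a * β) - β * (a * a) * (β * a * a * β * a * β) - β * (a * a) * (β * a * a * β * a * β) - β * (a * a) * (β * a * a * β * a * β) + β * (a * a) * (β * a * β * a * β * a) + β * (a * a) * (β * a * β * a * β * a) + β * (a * a) * (β * a * β * a * β * a) + β * (a * a) * (β * a * β * a * β * a) + β * a * (β * β) + β * a * (β * β) * (a * β * a * β) + β * a * (β * β) * (a * β * a * β) - β * a * (β * β) * (β * a * β * a) - β * a * (β * β) * (β * a * β * a) - β * a * (β * β) * (β * a * β * a) - β * a * (β * β) * (β * a * β * a) - β * a * (β * β) * (a) - β * a * (β * β) * (a) - β * a * (β * β) * (a) + β * a *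 (β * β) * (a * a * β * a) + β * a * (β * β) * (a * a * β * a) + β * a * (β * β) * (a * a * β * a) + β * a * (β * β) * (a * a * β * a) + β * a * (β * β) * (a * a * β * a) + β * a * (β * β) * (a * a * β * a) - β * a * (β * β) * (a * a * β * a * β) - β * a * (β * β) * (a * a * β * a * β) - β * a * (β * β) * (a * a * β * a * β) - β * a * (β * β) * (a * a * β * a * β) - β * a * (β * β) * (a * a * β * a * β) - β * a * (β * β) * (a * a * β * a * β) + β * a * (β * β) * (a * β * a * β * a) + β * a * (β * β) * (a * β * a * β * a) + β * a * (β * β) * (a * β * a * β * a) + β * a * (β * β) * (a * β * a * β * a) + β * a * β * (a * a) + β * a * β * (a * a) + β * a * β * (a * a) + β * a * β * (a * a) - β * a * β * (a * a) * (a * β * a) - β * a * β * (a * a) * (a * β * a) - β * a * β * (a * a) * (a * β * a) - β * a * β * (a * a) * (a * β * a) - β * a * β * (a * a) * (a * β * a) - β * a * β * (a * a) * (a * β * a) - β * a * β * (a * a) * (a * β * a) - β * a * β * (a * a) * (a * β * a) + β * a * β * (a * a) * (a * β * a * β) + β * a * β * (a * a) * (a * β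 * a * β) + β * a * β * (a * a) * (a * β * a * β) + β * a * β * (a * a) * (a * β * a * β) + β * a * β * (a * a) * (a * β * a * β) + β * a * β * (a * a) * (a * β * a * β) + β * a * β * (a * a) * (a * β * a * β) + β * a * β * (a * a) * (a * β * a * β) - β * a * β * (a * a) * (β * a * β * a) - β * a * β * (a * a) * (β * a * β * a) - β * a * β * (a * a) * (β * a * β * a) - β * a * β * (a * a) * (β * a * β * a) - β * a * β * (a * a) * (β * a * β * a) - β * a * β * (a * a) * (β * a * β * a) - β * a * β * (a * a) * (β * a * β * a) - β * a * β * (a * a) * (β * a * β * a) + β * (a * β * a * β * a) * (β * a * β) + β * (a * β * a * β * a) * (β * a * β) + β * (a * β * a * β * a) * (β * a * β) + β * (a * β * a * β * a) * (β * a * β) - β * a * β * a * (β * β) * (a * β * a) - β * a * β * a * (β * β) * (a * β * a) - β * a * β * a * (β * β) * (a * β * a) - β * a * β * a * (β * β) * (a * β * a) + β * a * β * a * β * (a * a) * (β * a) + β * a * β * a * β * (a * a) * (β * a) + β * a * β * a * β * (a * a) * (β * a) + β * a * β * a * β * (a * a) * (β * a) + β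 * a * β * a * β * (a * a) * (β * a) + β * a * β * a * β * (a * a) * (β * a) + β * a * β * a * β * (a * a) * (β * a) + β * a * β * a * β * (a * a) * (β * a) - β * a * β * a * β * (a * a) * (β * a * β) - β * a * β * a * β * (a * a) * (β * a * β) - β * a * β * a * β * (a * a) * (β * a * β) - β * a * β * a * β * (a * a) * (β * a * β) - β * a * β * a * β * (a * a) * (β * a * β) - β * a * β * a * β * (a * a) * (β * a * β) - β * a * β * a * β * (a * a) * (β * a * β) - β * a * β * a * β * (a * a) * (β * a * β) + β * (a * β * a * β * a) * (β * a * β * a) + β * (a * β * a * β * a) * (β * a * β * a) + β * (a * β * a * β * a) * (β * a * β * a) + β * (a * β * a * β * a) * (β * a * β * a) + β * (a * β * a * β * a) * (β * a * β * a) + β * (a * β * a * β * a) * (β * a * β * a) + β * (a * β * a * β * a) * (β * a * β * a) + β * (a * β * a * β * a) * (β * a * β * a) + β * a * (β * β) * (β) + β * a * (β * β) * (β * a * β * a * β) + β * a * (β * β) * (β * a * β * a * β) - β * a * (β * β) * (β * β * a * β * a) - β * a * (β * β) * (β * β * a * β * a) - β * a *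 (β * β) * (β * a) - β * a * (β * β) * (β * a) + β * a * (β * β) * (β * a * a * β * a) + β * a * (β * β) * (β * a * a * β * a) + β * a * (β * β) * (β * a * a * β * a) + β * a * (β * β) * (β * a * a * β * a) - β * a * (β * β) * (β * a * a * β * a * β) - β * a * (β * β) * (β * a * a * β * a * β) - β * a * (β * β) * (β * a * a * β * a * β) - β * a * (β * β) * (β * a * a * β * a * β) + β * a * (β * β) * (β * a * β * a * β * a) + β * a * (β * β) * (β * a * β * a * β * a) + β * a * (β * β) * (β * a * β * a * β * a) + β * a * (β * β) * (β * a * β * a * β * a) + β * a * (β * β) * (a * a) + β * a * (β * β) * (a * a) - β * a * (β * β) * (a * a * a * β * a) - β * a * (β * β) * (a * a * a * β * a) - β * a * (β * β) * (a * a * a * β * a) - β * a * (β * β) * (a * a * a * β * a) + β * a * (β * β) * (a * a * a * β * a * β) + β * a * (β * β) * (a * a * a * β * a * β) + β * a * (β * β) * (a * a * a * β * a * β) + β * a * (β * β) * (a * a * a * β * a * β) - β * a * (β * β) * (a * a * β * a * β * a) - β * a * (β * β) * (a * a * β * a * β * a) - β * a * (β *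 β) * (a * a * β * a * β * a) - β * a * (β * β) * (a * a * β * a * β * a) + β * a * (β * β) * (a * β) + β * a * (β * β) * (a * β * a * β * a * β) + β * a * (β * β) * (a * β * a * β * a * β) - β * a * (β * β) * (a * β * β * a * β * a) - β * a * (β * β) * (a * β * β * a * β * a) + β * a * (β * β) * (a * β * a * a * β * a) + β * a * (β * β) * (a * β * a * a * β * a) + β * a * (β * β) * (a * β * a * a * β * a) + β * a * (β * β) * (a * β * a * a * β * a) - β * a * (β * β) * (a * β * a * a * β * a * β) - β * a * (β * β) * (a * β * a * a * β * a * β) - β * a * (β * β) * (a * β * a * a * β * a * β) - β * a * (β * β) * (a * β * a * a * β * a * β) + β * a * (β * β) * (a * β * a * β * a * β * a) + β * a * (β * β) * (a * β * a * β * a * β * a) + β * a * (β * β) * (a * β * a * β * a * β * a) + β * a * (β * β) * (a * β * a * β * a * β * a) := by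
    noncomm_ring
  have hfin : (1 - β) * (1 + a) * (1 + β) * ((1 + β) * (1 + a) * (1 - β)) * (1 + (-a - a)) * (1 + ((-(a * β * a) + a * β * a * β - β * a * β * a) + (-(a * β * a) + a * β * a * β - β * a * β * a))) - (1 - (β * (a - a * β * a) * β + β * (a - a * β * a) * β)) = 0 := by
    rw [key]; simp only [h0, h1, h2, mul_zero, zero_mul, add_zero, sub_zero, neg_zero, zero_add, zero_sub]
  exact sub_eq_zero.mp hfin

theorem id_subst {R : Type*} [Ring R] (a β : R)
    (h0 : a * β * a * β * a = 0) :
    (a + a * β * a) - (a + a * β * a) * β * (a + a * β * a) =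
    a := by
  have key : (a + a * β * a) - (a + a * β * a) * β * (a + a * β * a) - (a) =
    -(a * β * a * β * a) - (a * β * a * β * a) - (a * β * a * β * a) * (β * a) := by
    noncomm_ring
  have hfin : (a + a * β * a) - (a + a * β * a) * β * (a + a * β * a) - (a) = 0 := by
    rw [key]; simp only [h0, mul_zero, zero_mul, add_zero, sub_zero, neg_zero, zero_add, zero_sub]
  exact sub_eq_zero.mp hfin

theorem id_chk23 {R : Type*} [Ring R] (a β : R)
    (h0 : β * β = 0) (h1 : a * (β * a * β) = 0) (h2 : a * a = 0) :
    (1 - a) * ((1 - β) * (1 + a) * (1 + β)) * (1 + (β * a * β - a * β * a)) =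
    1 + (a * β - β * a) := by
  have key : (1 - a) * ((1 - β) * (1 + a) * (1 + β)) * (1 + (β * a * β - a * β * a)) - (1 + (a * β - β * a)) =
    a * (β * β) * (a * β) - (a * (β * a * β)) * (a) - (β * β) - (β * β) * (β * a * β) + (β * β) * (a * β * a) - β * (a * (β * a * β)) + β * (a * a) * (β * a) - β * a * (β * β) * (a * β) + β * (a * (β * a * β)) * (a) - (a * a) - (a * a) * (β * a * β) + (a * a) * (a * β * a) - (a * a) * (β) - a * a * (β * β) * (a * β) + (a * a) * (β * a * β * a) + a * (β * β) + a * (β * β) * (β * a * β) - a * (β * β) * (a * β * a) + (a * (β * a * β)) * (a * β) - a * β * (a * a) * (β * a) + (a * (β * a * β)) + a * β * a * (β * β) * (a * β) - (a * (β * a * β)) * (a * β * a) := by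
    noncomm_ring
  have hfin : (1 - a) * ((1 - β) * (1 + a) * (1 + β)) * (1 + (β * a * β - a * β * a)) - (1 + (a * β - β * a)) = 0 := by
    rw [key]; simp only [h0, h1, h2, mul_zero, zero_mul, add_zero, sub_zero, neg_zero, zero_add, zero_sub]
  exact sub_eq_zero.mp hfin

theorem id_chk4 {R : Type*} [Ring R] (a a' β : R)
    (h0 : a * a = 0) (h1 : a' * (β * a * β) = 0) (h2 : β * a * β * a = 0) (h3 : β * β = 0) (h4 : a' * a = 0) (h5 : a' * a' = 0) (h6 : a' * (a * β - β * a - β * a' * β) = 0) :
    (1 - a') * ((1 - β) * (1 + a') * (1 + β)) * (1 + (a * β - β * a)) * (1 + a) =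
    1 + ((a + (a * β - β * a - β * a' * β) + a' * β * a' + a * β * a) + (a' * β - β * a')) := by
  have key : (1 - a') * ((1 - β) * (1 + a') * (1 + β)) * (1 + (a * β - β * a)) * (1 + a) - (1 + ((a + (a * β - β * a - β * a' * β) + a' * β * a' + a * β * a) + (a' * β - β * a'))) =
    -β * (a * a) + (a' * (β * a * β)) + a' * (β * a * β * a) - a' * (β * β) * (a * a) - (β * β) - (β * β) * (a) - (β * β) * (a * β) - (β * β) * (a * β * a) + (β * β) * (β * a) + (β * β) * (β * a * a) - β * (a' * a) - β * (a' * a) * (β) - β * (a' * a) * (β * a) + β * a' * β * (a * a) - β * (a' * (β * a * β)) - β * a' * (β * a * β * a) + β * a' * (β * β) * (a) + β * a' * (β * β) * (a * a) - (a' * a') - a' * (a' * a) - a' * (a' * a) * (β) - a' * (a' * a) * (β * a) + a' * a' * β * (a * a) - (a' * a') * (β) - (a' * a') * (β * a * β) - (a' * a') * (β * a * β * a) + a' * a' * (β * β) * (a) + a' * a' * (β * β) * (a * a) + a' * (β * β) + a' * (β * β) * (a * β) + a' * (β * β) * (a * β * a) - a' * (β * β) * (β * a) - a' * (β * β) * (β * a * a) + a' * β * (a' * a) + a' * β *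 (a' * a) * (β) + a' * β * (a' * a) * (β * a) - a' * β * a' * β * (a * a) + (a' * a) * (β) - (a' * (a * β - β * a - β * a' * β)) + a' * β * (a' * (β * a * β)) + a' * β * a' * (β * a * β * a) - a' * β * a' * (β * β) * (a) - a' * β * a' * (β * β) * (a * a) := by
    noncomm_ring
  have hfin : (1 - a') * ((1 - β) * (1 + a') * (1 + β)) * (1 + (a * β - β * a)) * (1 + a) - (1 + ((a + (a * β - β * a - β * a' * β) + a' * β * a' + a * β * a) + (a' * β - β * a'))) = 0 := by
    rw [key]; simp only [h0, h1, h2, h3, h4, h5, h6, mul_zero, zero_mul, add_zero, sub_zero, neg_zero, zero_add, zero_sub]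
  exact sub_eq_zero.mp hfin

theorem id_chk6a {R : Type*} [Ring R] (a a' β : R)
    (h0 : β * β = 0) (h1 : a' * a = 0) (h2 : a' * (a * β - β * a - β * a' * β) = 0) (h3 : a * (β * a * β) = 0) (h4 : a * a = 0) (h5 : (a * β - β * a - β * a' * β) * a = 0) :
    β * (a + (a * β - β * a - β * a' * β) + a' * β * a' + a * β * a) * β =
    β * a * β - a * β * a := by
  have key : β * (a + (a * β - β * a - β * a' * β) + a' * β * a' + a * β * a) * β - (β * a * β - a * β * a) =
    β * a * (β * β) - (β * β) * (a * β) - (β * β) * (a' * β * β) + β * (a' * a) * (β) - β * (a' * (a * β - β * a - β * a' * β)) + β * (a * (β * a * β)) + β * (a * a) + ((a * β - β * a - β * a' * β) * a) := by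
    noncomm_ring
  have hfin : β * (a + (a * β - β * a - β * a' * β) + a' * β * a' + a * β * a) * β - (β * a * β - a * β * a) = 0 := by
    rw [key]; simp only [h0, h1, h2, h3, h4, h5, mul_zero, zero_mul, add_zero, sub_zero, neg_zero, zero_add, zero_sub]
  exact sub_eq_zero.mp hfin

theorem id_chk6b {R : Type*} [Ring R] (a a' β : R)
    (h0 : β * β = 0) (h1 : a * (β * a * β) = 0) (h2 : β * a * β * a = 0) :
    (a + (a * β - β * a - β * a' * β) + a' * β * a' + a * β * a) * β - β * (a + (a * β - β * a - β * a' * β) + a' * β * a' + a * β * a) - β * a' * β =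
    (a * β - β * a - β * a' * β) - (β * a * β + β * a * β) - (β * a' * β * a' - a' * β * a' * β) := by
  have key : (a + (a * β - β * a - β * a' * β) + a' * β * a' + a * β * a) * β - β * (a + (a * β - β * a - β * a' * β) + a' * β * a' + a * β * a) - β * a' * β - ((a * β - β * a - β * a' * β) - (β * a * β + β * a * β) - (β * a' * β * a' - a' * β * a' * β)) =
    a * (β * β) - β * a' * (β * β) + (a * (β * a * β)) + (β * β) * (a) + (β * β) * (a' * β) - (β * a * β * a) := by
    noncomm_ring
  have hfin : (a + (a * β - β * a - β * a' * β) + a' * β * a' + a * β * a) * β - β * (a + (a * β - β * a - β * a' * β) + a' * β * a' + a * β * a) - β * a' * β - ((a * β - β * a - β * a' * β) - (β * a * β + β * a * β) - (β * a' * β * a' - a' * β * a' * β)) = 0 := by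
    rw [key]; simp only [h0, h1, h2, mul_zero, zero_mul, add_zero, sub_zero, neg_zero, zero_add, zero_sub]
  exact sub_eq_zero.mp hfin

theorem id_LL {R : Type*} [Ring R] (a a' a'' c0 c' c'' β : R)
    (h0 : a * c0 = 0) (h1 : a * c' = 0) (h2 : a' * c0 = 0) (h3 : a' * (c0 * β - β * c0 - β * c' * β) = 0) (h4 : β * β = 0) (h5 : a' * c' = 0) (h6 : (a * β - β * a - β * a' * β) * c' = 0) (h7 : a * c'' = 0) (h8 : (a * β - β * a - β * a' * β) * c'' = 0) (h9 : a'' * c0 = 0) (h10 : a'' * (c0 * β - β * c0 - β * c' * β) = 0) :
    (a + (a' * β - β * a') - β * a'' * β) * (c0 + (c' * β - β * c') - β * c'' * β) = 0 := by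
  have key : (a + (a' * β - β * a') - β * a'' * β) * (c0 + (c' * β - β * c') - β * c'' * β) =
    (a * c0) + (a * c') * (β) + (a' * c0) * (β) - (a' * (c0 * β - β * c0 - β * c' * β)) - a' * (β * β) * (c') - a' * (β * β) * (c'' * β) - β * (a' * c0) - β * (a' * c') * (β) - β * (a * c') - ((a * β - β * a - β * a' * β) * c') - β * (a * c'') * (β) - ((a * β - β * a - β * a' * β) * c'') * (β) - β * (a'' * c0) * (β) + β * (a'' * (c0 * β - β * c0 - β * c' * β)) + β * a'' * (β * β) * (c') + β * a'' * (β * β) * (c'' * β) := by
    noncomm_ring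
  rw [key]; simp only [h0, h1, h2, h3, h4, h5, h6, h7, h8, h9, h10, mul_zero, zero_mul, add_zero, sub_zero, neg_zero, zero_add, zero_sub]


end Cfsg.Agent.Lib.Helper64.OffId
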