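import Mathlib
import Cfsg.Agent.Lib.Helper85.PPStmt

set_option autoImplicit false

/-! S5113/SYS: the fusion system over `U ≥ hyp(F)` of the maps `c_t ∘ Star`, `t ∈ U`. -/

namespace Cfsg.Agent.Lib.Helper64.PPSYS

open Cfsg Cfsg.FusionSystem Cfsg.Agent.Lib.Helper85.PPStmt

universe u

section aux

variable {Ω : Type u} [Group Ω]

/-- conjugation by `g` as a homomorphism `A →* B` when `g A g⁻¹ ⊆ B` -/
def cjMap (A B : Subgroup Ω) (g : Ω) (h : ∀ x ∈ A, g * x * g⁻¹ ∈ B) : A →* B :=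
  ((MulAut.conj g).toMonoidHom.comp A.subtype).codRestrict B (fun x => by
    simpa [MulAut.conj_apply] using h x x.2)

theorem cjMap_coe (A B : Subgroup Ω) (g : Ω) (h : ∀ x ∈ A, g * x * g⁻¹ ∈ B) (x : A) :
    ((cjMap A B g h x : B) : Ω) = g * (x : Ω) * g⁻¹ := rfl

end aux

theorem main (hMem : StarMem.{u}) (hHyp : StarHyp.{u}) (hSub : StarSubtype.{u})
    (hConj : StarConj.{u}) (hInv : StarInv.{u}) : SysExists.{u} := by
  intro Ω _ S F p U hUS hhyp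
  -- images of Star maps on subgroups of `U` stay in `U`
  have hval : ∀ (P : Subgroup Ω) (ψ : P →* Ω), P ≤ U → Star F p P ψ → ∀ x : P, ψ x ∈ U := by
    intro P ψ hPU hψ x
    have h1 : (x : Ω)⁻¹ * ψ x ∈ U := hhyp (hHyp Ω S F p P ψ hψ x)
    have h2 : (x : Ω) * ((x : Ω)⁻¹ * ψ x) ∈ U := U.mul_mem (hPU x.2) h1
    simpa using h2
  refine ⟨{
    Hom := fun P => {φ | P ≤ U ∧ ∃ t : S, (t : Ω) ∈ U ∧ Dec F p φ t}
    le_of_mem := ?_
    injective_of_mem := ?_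
    conj_mem := ?_
    comp_mem := ?_
    inv_mem := ?_ }, ?_⟩
  · -- le_of_mem
    rintro P φ ⟨hPU, t, htU, ψ, hψ, hφ⟩
    refine ⟨hPU, fun x => ?_⟩
    rw [hφ x]
    exact U.mul_mem (U.mul_mem htU (hval P ψ hPU hψ x)) (U.inv_mem htU)
  · -- injective
    rintro P φ ⟨hPU, t, htU, ψ, hψ, hφ⟩ x y hxy
    have hψF : ψ ∈ F.Hom P := hMem Ω S F p P ψ hψ
    apply F.injective_of_mem hψF
    rw [hφ x, hφ y] at hxy
    exact mul_left_cancel (mul_right_cancel hxy)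
  · -- conj_mem
    intro P g hPU hg
    refine ⟨hPU, ⟨g, hUS hg⟩, hg, P.subtype, hSub Ω S F p P (hPU.trans hUS), fun x => ?_⟩
    rfl
  · -- comp_mem
    rintro P Q φ φ' ⟨hPU, t, htU, ψ, hψ, hφ⟩ ⟨hQU, t', ht'U, ψ', hψ', hφ'⟩ h
    refine ⟨hPU, t' * t, U.mul_mem ht'U htU, ?_⟩
    -- `Q' = t⁻¹ Q t`
    let Q' : Subgroup Ω := Q.comap (MulAut.conj (t : Ω)).toMonoidHom
    have hQ'mem : ∀ y : Ω, y ∈ Q' ↔ (t : Ω) * y * (t : Ω)⁻¹ ∈ Q := by
      intro y; simp [Q', Subgroup.mem_comap, MulAut.conj_apply]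
    have hc : ∀ y ∈ Q', (t : Ω) * y * (t : Ω)⁻¹ ∈ Q := fun y hy => (hQ'mem y).1 hy
    let ψc : Q' →* Ω := (MulAut.conj (t : Ω)⁻¹).toMonoidHom.comp (ψ'.comp (cjMap Q' Q (t : Ω) hc))
    have hψc_apply : ∀ y : Q', ψc y = (t : Ω)⁻¹ * ψ' (cjMap Q' Q (t : Ω) hc y) * (t : Ω) := by
      intro y; simp [ψc]
    have hψcStar : Star F p Q' ψc := by
      refine hConj Ω S F p Q Q' ψ' ψc (t : Ω)⁻¹ (S.inv_mem t.2) hψ' ?_ ?_ ?_
      · intro x
        rw [hQ'mem]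
        have : (t : Ω) * ((t : Ω)⁻¹ * (x : Ω) * (t : Ω)⁻¹⁻¹) * (t : Ω)⁻¹ = (x : Ω) := by group
        rw [this]; exact x.2
      · intro y
        have := hc y y.2
        simpa using this
      · intro x
        rw [hψc_apply]
        have hx : cjMap Q' Q (t : Ω) hc ⟨(t : Ω)⁻¹ * (x : Ω) * (t : Ω)⁻¹⁻¹, by
            rw [hQ'mem]
            have : (t : Ω) * ((t : Ω)⁻¹ * (x : Ω) * (t : Ω)⁻¹⁻¹) * (t : Ω)⁻¹ = (x : Ω) := by group
            rw [this]; exact x.2⟩ = x := by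
          apply Subtype.ext
          rw [cjMap_coe]
          show (t : Ω) * ((t : Ω)⁻¹ * (x : Ω) * (t : Ω)⁻¹⁻¹) * (t : Ω)⁻¹ = (x : Ω)
          group
        rw [hx]
        simp
    have hψQ' : ∀ x : P, ψ x ∈ Q' := by
      intro x
      rw [hQ'mem, ← hφ x]
      exact h x
    refine ⟨ψc.comp (ψ.codRestrict Q' hψQ'), Star.comp hψQ' hψ hψcStar, fun x => ?_⟩
    have e1 : (φ'.comp (φ.codRestrict Q h)) x = φ' ⟨φ x, h x⟩ := rfl
    have e2 : (ψc.comp (ψ.codRestrict Q' hψQ')) x = ψc ⟨ψ x, hψQ' x⟩ := rfl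
    rw [e1, e2, hφ', hψc_apply]
    have e3 : cjMap Q' Q (t : Ω) hc ⟨ψ x, hψQ' x⟩ = ⟨φ x, h x⟩ := by
      apply Subtype.ext
      rw [cjMap_coe]
      exact (hφ x).symm
    rw [e3]
    simp only [Subgroup.coe_mul]
    group
  · -- inv_mem
    rintro P φ ⟨hPU, t, htU, ψ, hψ, hφ⟩
    have hψF : ψ ∈ F.Hom P := hMem Ω S F p P ψ hψ
    obtain ⟨ψi, hψiF, hψi⟩ := F.inv_mem hψF
    have hψiStar : Star F p ψ.range ψi :=
      hInv Ω S F p P ψ.range ψ ψi hψ (fun x => ⟨x, rfl⟩) hψi (fun y => y.2)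
    -- conjugation by `t⁻¹` from `φ.range` to `ψ.range`
    have hc : ∀ y ∈ φ.range, (t : Ω)⁻¹ * y * (t : Ω)⁻¹⁻¹ ∈ ψ.range := by
      rintro y ⟨x, rfl⟩
      refine ⟨x, ?_⟩
      rw [hφ x]; group
    have hc' : ∀ y ∈ ψ.range, (t : Ω) * y * (t : Ω)⁻¹ ∈ φ.range := by
      rintro y ⟨x, rfl⟩
      exact ⟨x, hφ x⟩
    let φi : φ.range →* Ω := ψi.comp (cjMap φ.range ψ.range (t : Ω)⁻¹ hc)
    let ψic : φ.range →* Ω := (MulAut.conj (t : Ω)).toMonoidHom.comp φi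
    have hψic_apply : ∀ y : φ.range, ψic y = (t : Ω) * φi y * (t : Ω)⁻¹ := by
      intro y; simp [ψic, MulAut.conj_apply]
    have hψicStar : Star F p φ.range ψic := by
      refine hConj Ω S F p ψ.range φ.range ψi ψic (t : Ω) t.2 hψiStar
        (fun x => hc' x x.2) ?_ ?_
      · intro y
        have := hc y y.2
        simpa using this
      · intro x
        rw [hψic_apply]
        have hx : cjMap φ.range ψ.range (t : Ω)⁻¹ hc ⟨(t : Ω) * (x : Ω) * (t : Ω)⁻¹, hc' x x.2⟩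
            = x := by
          apply Subtype.ext
          rw [cjMap_coe]
          show (t : Ω)⁻¹ * ((t : Ω) * (x : Ω) * (t : Ω)⁻¹) * (t : Ω)⁻¹⁻¹ = (x : Ω)
          group
        show (t : Ω) * ψi (cjMap φ.range ψ.range (t : Ω)⁻¹ hc
          ⟨(t : Ω) * (x : Ω) * (t : Ω)⁻¹, hc' x x.2⟩) * (t : Ω)⁻¹ = _
        rw [hx]
    have hrangeU : φ.range ≤ U := by
      rintro y ⟨x, rfl⟩
      rw [hφ x]
      exact U.mul_mem (U.mul_mem htU (hval P ψ hPU hψ x)) (U.inv_mem htU)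
    refine ⟨φi, ⟨hrangeU, t⁻¹, U.inv_mem htU, ψic, hψicStar, fun y => ?_⟩, fun x => ?_⟩
    · rw [hψic_apply]
      simp only [Subgroup.coe_inv]
      group
    · show ψi (cjMap φ.range ψ.range (t : Ω)⁻¹ hc ⟨φ x, ⟨x, rfl⟩⟩) = (x : Ω)
      have hx : cjMap φ.range ψ.range (t : Ω)⁻¹ hc ⟨φ x, ⟨x, rfl⟩⟩ = ⟨ψ x, ⟨x, rfl⟩⟩ := by
        apply Subtype.ext
        rw [cjMap_coe]
        show (t : Ω)⁻¹ * φ x * (t : Ω)⁻¹⁻¹ = ψ x
        rw [hφ x]; group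
      rw [hx]
      exact hψi x
  · -- spec
    intro P φ
    exact Iff.rfl

end Cfsg.Agent.Lib.Helper64.PPSYS
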