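import Mathlib
import Cfsg.Agent.Lib.Helper46.PUStmt

/-! Piece ORBSTR of S2263 (helper64, second seat): orbit structure of a `τ`-stable finite set
with `τ`-invariant multiplicities, `τ y = (y ^ q)⁻¹`. -/

set_option autoImplicit false

namespace Cfsg.Agent.Lib.Helper64.PUORBSTR

open Cfsg.Agent.Lib.Helper46.PUStmt

universe u

theorem main (hOC : OrbComb.{u}) (hOF : OrbFix.{u}) (hOCo : OrbConst.{u}) : OrbStruct.{u} := by
  intro K _ p f _ _ hf E μ h0 hE
  classical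
  have hp : p.Prime := Fact.out
  have hq2 : 2 ≤ p ^ f := by
    calc 2 ≤ p := hp.two_le
      _ = p ^ 1 := (pow_one p).symm
      _ ≤ p ^ f := Nat.pow_le_pow_right hp.pos hf
  have hq1 : 1 ≤ p ^ f := by omega
  have hτE : ∀ x ∈ E, (fun y : K => (y ^ (p ^ f))⁻¹) x ∈ E := fun x hx => (hE x hx).1
  have hτinj : ∀ x ∈ E, ∀ y ∈ E, (fun y : K => (y ^ (p ^ f))⁻¹) x =
      (fun y : K => (y ^ (p ^ f))⁻¹) y → x = y := by
    intro x _ y _ hxy
    have h1 : x ^ (p ^ f) = y ^ (p ^ f) := inv_injective hxy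
    have h2 : (x - y) ^ (p ^ f) = 0 := by
      rw [sub_pow_char_pow, h1, sub_self]
    exact sub_eq_zero.mp ((pow_eq_zero_iff (by positivity : p ^ f ≠ 0)).mp h2)
  obtain ⟨r, a, o, ho, ha, hoτ, hfix, hsame⟩ :=
    hOC K E (fun y : K => (y ^ (p ^ f))⁻¹) hτE hτinj
  have hiter : ∀ (j : ℕ) (x : K), x ∈ E →
      (fun y : K => (y ^ (p ^ f))⁻¹)^[j] x ∈ E ∧
        μ ((fun y : K => (y ^ (p ^ f))⁻¹)^[j] x) = μ x := by
    intro j
    induction j with
    | zero =>
      intro x hx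
      exact ⟨hx, rfl⟩
    | succ j ih =>
      intro x hx
      rw [Function.iterate_succ_apply']
      obtain ⟨h1, h2⟩ := ih x hx
      exact ⟨(hE _ h1).1, (hE _ h1).2.1.trans h2⟩
  let m : ℕ → ℕ := fun i => if h : ∃ x ∈ E, o x = i then μ (Classical.choose h) else 1
  have hm : ∀ x ∈ E, μ x = m (o x) := by
    intro x hx
    have h : ∃ y ∈ E, o y = o x := ⟨x, hx, rfl⟩
    have hmx : m (o x) = μ (Classical.choose h) := dif_pos h
    obtain ⟨hy, hoy⟩ := Classical.choose_spec h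
    obtain ⟨j, hj⟩ := hsame _ hy x hx hoy
    rw [hmx]
    have h3 := (hiter j _ hy).2
    rw [← hj] at h3
    exact h3
  have hx0 : ∀ x ∈ E, x ≠ 0 := fun x hx h => h0 (h ▸ hx)
  have hpow : ∀ x ∈ E, x ^ nn (p ^ f) (a (o x)) = 1 := fun x hx =>
    hOF K (p ^ f) (a (o x)) x hq1 (hx0 x hx) (ha (o x) (ho x hx)).2 (hfix x hx)
  refine ⟨r, a, m, o, ?_, ?_, ?_, ?_⟩
  · intro i hi
    refine ⟨(ha i hi).2, ?_⟩
    have hcard : 0 < (E.filter (fun x => o x = i)).card := by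
      rw [(ha i hi).1]
      exact (ha i hi).2
    obtain ⟨x, hx⟩ := Finset.card_pos.mp hcard
    obtain ⟨hxE, hox⟩ := Finset.mem_filter.mp hx
    rw [← hox, ← hm x hxE]
    exact (hE x hxE).2.2
  · rw [← Finset.sum_fiberwise_of_maps_to (g := o) (t := Finset.range r)
      (fun x hx => Finset.mem_range.mpr (ho x hx))]
    refine Finset.sum_congr rfl (fun i hi => ?_)
    have hi' := Finset.mem_range.mp hi
    rw [← (ha i hi').1, Finset.card_eq_sum_ones, Finset.sum_mul]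
    refine Finset.sum_congr rfl (fun x hx => ?_)
    obtain ⟨hxE, hox⟩ := Finset.mem_filter.mp hx
    rw [one_mul, hm x hxE, hox]
  · intro x hx
    exact ⟨ho x hx, hm x hx, hpow x hx⟩
  · intro x hx y hy hxy
    obtain ⟨j, hj⟩ := hsame x hx y hy hxy
    rw [hj]
    exact hOCo K (p ^ f) (a (o x)) x hq2 (hx0 x hx) (ha (o x) (ho x hx)).2 (hpow x hx) j

end Cfsg.Agent.Lib.Helper64.PUORBSTR
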