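import Mathlib
import Cfsg.Agent.Lib.Helper18.ReeMultStmt

/-!
# S2113, piece `ZZ`: lifts of `x 0 0 v`, `x 0 0 v'` commute
-/

set_option autoImplicit false

namespace Cfsg.Agent.Lib.Helper64.ReeMultZZ

open Cfsg.Agent.Lib.Helper18.ReeMultStmt

universe u v w

open scoped IsMulCommutative in
theorem main (h1 : SQFORM.{v, w}) (h2 : EXR.{v}) : ZZ.{u, v, w} := by
  intro Γ _ G _ K _ _ m φ x e σ E v v'
  have hP := E.par
  have hc := E.cen
  have hxm : ∀ a b : K, x 0 0 a * x 0 0 b = x 0 0 (a + b) := by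
    intro a b
    rw [hP.x_mul]
    simp
  have hcomm : ∀ a b : K, x 0 0 a * x 0 0 b = x 0 0 b * x 0 0 a := by
    intro a b
    rw [hxm, hxm, add_comm]
  let B : K → K → ↥(Subgroup.center Γ) := fun a b =>
    ⟨cm σ E.surj (x 0 0 a) (x 0 0 b), hc (cm_mem_ker σ E.surj (hcomm a b))⟩
  have hB : ∀ a b, B a b = 1 := by
    obtain ⟨r, hr0, hr8, -⟩ := h2 K m hP.hm hP.cardK
    apply h1 K (↥(Subgroup.center Γ)) B hP.char3 ⟨r, hr0, hr8⟩
    · intro a a' b
      apply Subtype.ext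
      show cm σ E.surj (x 0 0 (a + a')) (x 0 0 b) =
        cm σ E.surj (x 0 0 a) (x 0 0 b) * cm σ E.surj (x 0 0 a') (x 0 0 b)
      rw [← hxm, cm_mul_left_c σ E.surj hc (hcomm a' b)]
    · intro a b b'
      apply Subtype.ext
      show cm σ E.surj (x 0 0 a) (x 0 0 (b + b')) =
        cm σ E.surj (x 0 0 a) (x 0 0 b) * cm σ E.surj (x 0 0 a) (x 0 0 b')
      rw [← hxm, cm_mul_right_c σ E.surj hc (hcomm a b')]
    · intro r a b hr
      apply Subtype.ext
      show cm σ E.surj (x 0 0 (r ^ 2 * a)) (x 0 0 (r ^ 2 * b)) =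
        cm σ E.surj (x 0 0 a) (x 0 0 b)
      have hr2 : r ^ 2 ≠ 0 := pow_ne_zero 2 hr
      have hconj : ∀ c : K, e (r ^ 2) * x 0 0 c * (e (r ^ 2))⁻¹ = x 0 0 (r ^ 2 * c) := by
        intro c
        rw [hP.e_x _ hr2, mul_inv_cancel_right]
        simp only [mul_zero]
      have h3 := conj_cm σ E.surj hc (sec σ E.surj (e (r ^ 2))) (x 0 0 a) (x 0 0 b)
      rw [sec_spec, hconj, hconj] at h3
      rw [← h3, cm_central σ E.surj hc (hcomm a b), mul_inv_cancel_right]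
  exact congrArg Subtype.val (hB v v')

end Cfsg.Agent.Lib.Helper64.ReeMultZZ
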