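import Mathlib

set_option autoImplicit false

/-!
# The spectrum of the symmetric group of degree 8 (piece S8 of S3485)
-/

namespace Cfsg.Agent.Lib.Helper64.S8Spec

open Equiv Equiv.Perm

/-- The set of element orders of the symmetric group of degree 8. -/
def spec : Finset ℕ := {1, 2, 3, 4, 5, 6, 7, 8, 10, 12, 15}

/-- The counting function built from seven multiplicities (of the parts `2, …, 8`). -/
def cnt (n2 n3 n4 n5 n6 n7 n8 : ℕ) (i : ℕ) : ℕ :=
  [0, 0, n2, n3, n4, n5, n6, n7, n8].getD i 0

/-- The property checked for a tuple of multiplicities. -/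
def good (n2 n3 n4 n5 n6 n7 n8 : ℕ) : Prop :=
  (∑ i ∈ Finset.range 9, cnt n2 n3 n4 n5 n6 n7 n8 i * i) ≤ 8 →
    (Finset.range 9).lcm (fun i => if cnt n2 n3 n4 n5 n6 n7 n8 i = 0 then 1 else i) ∈ spec

instance (n2 n3 n4 n5 n6 n7 n8 : ℕ) : Decidable (good n2 n3 n4 n5 n6 n7 n8) := by
  unfold good; infer_instance

/-- The exhaustive check as a boolean. -/
def checkAll : Bool :=
  (List.range 5).all fun n2 => (List.range 3).all fun n3 => (List.range 3).all fun n4 =>
  (List.range 2).all fun n5 => (List.range 2).all fun n6 => (List.range 2).all fun n7 =>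
  (List.range 2).all fun n8 => decide (good n2 n3 n4 n5 n6 n7 n8)

theorem checkAll_eq : checkAll = true := by decide +kernel

theorem count_check (n2 : ℕ) (h2 : n2 < 5) (n3 : ℕ) (h3 : n3 < 3) (n4 : ℕ) (h4 : n4 < 3)
    (n5 : ℕ) (h5 : n5 < 2) (n6 : ℕ) (h6 : n6 < 2) (n7 : ℕ) (h7 : n7 < 2) (n8 : ℕ) (h8 : n8 < 2) :
    good n2 n3 n4 n5 n6 n7 n8 := by
  have h := checkAll_eq
  simp only [checkAll, List.all_eq_true, List.mem_range, decide_eq_true_eq] at h
  exact h n2 h2 n3 h3 n4 h4 n5 h5 n6 h6 n7 h7 n8 h8

/-- A multiset of integers `≥ 2` of sum at most 8 has its lcm in `spec`. -/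
theorem multiset_lcm_mem (c : Multiset ℕ) (h2 : ∀ x ∈ c, 2 ≤ x) (hs : c.sum ≤ 8) :
    c.lcm ∈ spec := by
  have hle : ∀ x ∈ c, x ≤ 8 := fun x hx =>
    le_trans (Multiset.single_le_sum (fun _ _ => Nat.zero_le _) x hx) hs
  have hmem : ∀ x ∈ c, x ∈ Finset.range 9 := fun x hx => Finset.mem_range.2 (by
    have := hle x hx; omega)
  have hsum : c.sum = ∑ i ∈ Finset.range 9, c.count i * i := by
    rw [Finset.sum_multiset_count_of_subset c (Finset.range 9)
      (fun x hx => hmem x (Multiset.mem_toFinset.1 hx))]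
    simp
  have h0 : c.count 0 = 0 := Multiset.count_eq_zero_of_notMem (fun h => by
    have := h2 0 h; omega)
  have h1 : c.count 1 = 0 := Multiset.count_eq_zero_of_notMem (fun h => by
    have := h2 1 h; omega)
  have hcnt : ∀ i ∈ Finset.range 9, c.count i =
      cnt (c.count 2) (c.count 3) (c.count 4) (c.count 5) (c.count 6) (c.count 7) (c.count 8)
        i := by
    intro i hi
    rw [Finset.mem_range] at hi
    interval_cases i <;> simp [cnt, h0, h1]
  have hsum' : c.sum = ∑ i ∈ Finset.range 9,
      cnt (c.count 2) (c.count 3) (c.count 4) (c.count 5) (c.count 6) (c.count 7) (c.count 8)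
        i * i := by
    rw [hsum]
    exact Finset.sum_congr rfl (fun i hi => by rw [← hcnt i hi])
  have hlcm : c.lcm = (Finset.range 9).lcm (fun i =>
      if cnt (c.count 2) (c.count 3) (c.count 4) (c.count 5) (c.count 6) (c.count 7) (c.count 8)
        i = 0 then 1 else i) := by
    apply Nat.dvd_antisymm
    · rw [Multiset.lcm_dvd]
      intro b hb
      have hb' := hmem b hb
      have hc : c.count b ≠ 0 := by
        rw [Multiset.count_ne_zero]; exact hb
      have := Finset.dvd_lcm (f := fun i =>
        if cnt (c.count 2) (c.count 3) (c.count 4) (c.count 5) (c.count 6) (c.count 7) (c.count 8)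
          i = 0 then 1 else i) hb'
      simpa only [← hcnt b hb', if_neg hc] using this
    · apply Finset.lcm_dvd
      intro b hb
      by_cases hc : c.count b = 0
      · simp only [← hcnt b hb, if_pos hc]
        exact one_dvd _
      · simp only [← hcnt b hb, if_neg hc]
        exact Multiset.dvd_lcm (Multiset.count_ne_zero.1 hc)
  have key : ∀ j : ℕ, c.count j * j ≤ c.sum := by
    intro j
    by_cases hj : j ∈ Finset.range 9
    · rw [hsum]
      exact Finset.single_le_sum (f := fun i => c.count i * i) (fun _ _ => Nat.zero_le _) hj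
    · have : c.count j = 0 := Multiset.count_eq_zero_of_notMem (fun h => hj (hmem j h))
      simp [this]
  have b2 := key 2
  have b3 := key 3
  have b4 := key 4
  have b5 := key 5
  have b6 := key 6
  have b7 := key 7
  have b8 := key 8
  rw [hlcm]
  refine count_check (c.count 2) (by omega) (c.count 3) (by omega) (c.count 4) (by omega)
    (c.count 5) (by omega) (c.count 6) (by omega) (c.count 7) (by omega) (c.count 8) (by omega)
    ?_
  rw [← hsum']; exact hs

/-- Every element of `S₈` has order in `spec`. -/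
theorem orderOf_mem (σ : Perm (Fin 8)) : orderOf σ ∈ spec := by
  rw [← lcm_cycleType]
  apply multiset_lcm_mem
  · intro x hx
    exact two_le_of_mem_cycleType hx
  · have := sum_cycleType_le σ
    simpa using this

theorem exists_of_perm (σ : Perm (Fin 8)) (m : ℕ) (hm : 0 < m)
    (h1 : σ ^ m = 1) (h2 : ∀ j < m, 0 < j → σ ^ j ≠ 1) :
    ∃ τ : Perm (Fin 8), orderOf τ = m :=
  ⟨σ, (orderOf_eq_iff hm).2 ⟨h1, h2⟩⟩

set_option maxRecDepth 100000 in
/-- Every member of `spec` is the order of an element of `S₈`. -/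
theorem exists_orderOf (m : ℕ) (hm : m ∈ spec) : ∃ τ : Perm (Fin 8), orderOf τ = m := by
  simp only [spec, Finset.mem_insert, Finset.mem_singleton] at hm
  rcases hm with rfl | rfl | rfl | rfl | rfl | rfl | rfl | rfl | rfl | rfl | rfl
  · exact ⟨1, orderOf_one⟩
  · exact exists_of_perm (c[0, 1]) 2 (by norm_num) (by decide +kernel) (by decide +kernel)
  · exact exists_of_perm (c[0, 1, 2]) 3 (by norm_num) (by decide +kernel) (by decide +kernel)
  · exact exists_of_perm (c[0, 1, 2, 3]) 4 (by norm_num) (by decide +kernel) (by decide +kernel)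
  · exact exists_of_perm (c[0, 1, 2, 3, 4]) 5 (by norm_num) (by decide +kernel)
      (by decide +kernel)
  · exact exists_of_perm (c[0, 1, 2, 3, 4, 5]) 6 (by norm_num) (by decide +kernel)
      (by decide +kernel)
  · exact exists_of_perm (c[0, 1, 2, 3, 4, 5, 6]) 7 (by norm_num) (by decide +kernel)
      (by decide +kernel)
  · exact exists_of_perm (c[0, 1, 2, 3, 4, 5, 6, 7]) 8 (by norm_num) (by decide +kernel)
      (by decide +kernel)
  · exact exists_of_perm (c[0, 1, 2, 3, 4] * c[5, 6]) 10 (by norm_num) (by decide +kernel)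
      (by decide +kernel)
  · exact exists_of_perm (c[0, 1, 2, 3] * c[4, 5, 6]) 12 (by norm_num) (by decide +kernel)
      (by decide +kernel)
  · exact exists_of_perm (c[0, 1, 2, 3, 4] * c[5, 6, 7]) 15 (by norm_num) (by decide +kernel)
      (by decide +kernel)

/-- The spectrum of `S₈` (finset form). -/
theorem range_orderOf :
    Set.range (orderOf : Perm (Fin 8) → ℕ) = (spec : Set ℕ) := by
  ext m
  constructor
  · rintro ⟨σ, rfl⟩
    exact orderOf_mem σ
  · intro hm
    exact exists_orderOf m hm

/-- The spectrum of `S₈` (list form). -/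
theorem s8_spec : Set.range (orderOf : Equiv.Perm (Fin 8) → ℕ) =
    {m : ℕ | m ∈ [1, 2, 3, 4, 5, 6, 7, 8, 10, 12, 15]} := by
  rw [range_orderOf]
  ext m
  simp [spec]

end Cfsg.Agent.Lib.Helper64.S8Spec
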